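/-
CALL S1390 (helper24), piece ACEN: inside a complement `E` of `M_σ`, a nilpotent `A ⊔ A₀` is
abelian (S1420 clause 1).
-/
import Mathlib
import Cfsg.Agent.S1403
import Cfsg.Agent.S1420
import Cfsg.Agent.Helper22.BG10b
import Cfsg.Agent.Helper23.FittingHall

set_option autoImplicit false

namespace Cfsg.Agent.Helper87

open Cfsg Subgroup

universe u

variable {G : Type u} [Group G] [Finite G]

/-- ACEN. Inside a complement `E` of `M_σ`, a nilpotent `A ⊔ A₀` is abelian (S1420 clause 1: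
`A ⊔ A₀ ≤ E` is a `σ(M)'`-group by `Helper22.bg10_sigma_hall` / `Helper23.card_of_isComplIn`),
so `A` and `A₀` commute elementwise. -/
theorem bg90_A_cent (hG : IsMinSimpleOddOrder G) {M E A₀ A : Subgroup G} (hM : IsCoatom M)
    (hE : IsComplIn E (sigmaCore M) M) (hA₀E : A₀ ≤ E) (hAE : A ≤ E)
    (hnil : Group.IsNilpotent ↥(A ⊔ A₀)) : ∀ a ∈ A, ∀ b ∈ A₀, a * b = b * a := by
  have hU : Helper22.BGUniq G := fun K hK h1 h2 => Cfsg.Agent.S1403.result hG K hK h1 h2
  obtain ⟨⟨hle, -, hidx⟩, -, -⟩ := Helper22.bg10_sigma_hall hG hU hM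
  have hcard := Helper23.card_of_isComplIn E (sigmaCore M) M hE
  have hEcard : (sigmaCore M).relIndex M = Nat.card E := by
    have h1 := relIndex_mul_relIndex (⊥ : Subgroup G) (sigmaCore M) M bot_le hle
    rw [relIndex_bot_left, relIndex_bot_left, hcard, mul_comm] at h1
    have hpos : 0 < Nat.card (sigmaCore M) := Nat.card_pos
    exact Nat.eq_of_mul_eq_mul_right hpos h1
  have hsup : A ⊔ A₀ ≤ E := sup_le hAE hA₀E
  obtain ⟨h1, -⟩ := Cfsg.Agent.S1420.result hG M hM E hE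
  have hcomm := h1 (A ⊔ A₀) (hsup.trans hE.1) hnil
    (fun p hp hpd hps => hidx p hp hps (hEcard ▸ (hpd.trans (Subgroup.card_dvd_of_le hsup))))
  intro a ha b hb
  have h := hcomm.is_comm.comm (⟨a, (le_sup_left : A ≤ A ⊔ A₀) ha⟩ : ↥(A ⊔ A₀))
    ⟨b, (le_sup_right : A₀ ≤ A ⊔ A₀) hb⟩
  exact congrArg Subtype.val h

end Cfsg.Agent.Helper87
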