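/-
CALL S1390 (helper24), piece PNS: an element of `M` outside `M_σ` has a prime divisor of its
order outside `σ(M)`.
-/
import Mathlib
import Cfsg.Agent.S1403
import Cfsg.Agent.Helper22.BG10b
import Cfsg.Agent.Helper64.PiTwo

set_option autoImplicit false

namespace Cfsg.Agent.Helper87

open Cfsg Subgroup

universe u

variable {G : Type u} [Group G] [Finite G]

/-- PNS. An element of `M` outside `M_σ` has a prime divisor of its order outside `σ(M)`:
otherwise `zpowers a` is a `σ(M)`-subgroup of `M`, hence inside the normal Hall subgroup `M_σ`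
(`Helper22.bg10_sigma_hall`, `Helper64.mem_of_coprime_index` inside `↥M`, or
`Helper22.bg12_le_sigmaCore`). -/
theorem bg90_exists_prime_not_sigma (hG : IsMinSimpleOddOrder G) {M : Subgroup G}
    (hM : IsCoatom M) {a : G} (haM : a ∈ M) (ha : a ∉ sigmaCore M) :
    ∃ t : ℕ, t.Prime ∧ t ∣ orderOf a ∧ t ∉ sigma M := by
  by_contra hcon
  have hall : ∀ t : ℕ, t.Prime → t ∣ orderOf a → t ∈ sigma M := by
    intro t ht htd
    by_contra h
    exact hcon ⟨t, ht, htd, h⟩
  have hU : Helper22.BGUniq G := fun K hK h1 h2 => Cfsg.Agent.S1403.result hG K hK h1 h2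
  obtain ⟨⟨hle, -, hidx⟩, -, -⟩ := Helper22.bg10_sigma_hall hG hU hM
  apply ha
  have hrel : (sigmaCore M).relIndex M = (piCore (sigma M) ↥M).index := by
    have h0 : (sigmaCore M).subgroupOf M = piCore (sigma M) ↥M :=
      Subgroup.comap_map_eq_self_of_injective (Subgroup.subtype_injective M) _
    unfold Subgroup.relIndex
    rw [h0]
  have hord : orderOf (⟨a, haM⟩ : ↥M) = orderOf a := by
    rw [← Subgroup.orderOf_coe]
  have hcop : (orderOf (⟨a, haM⟩ : ↥M)).Coprime (piCore (sigma M) ↥M).index := by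
    by_contra hnc
    obtain ⟨p, hp, hp1, hp2⟩ := Nat.Prime.not_coprime_iff_dvd.mp hnc
    rw [hord] at hp1
    exact hidx p hp (hall p hp hp1) (hrel ▸ hp2)
  have hmem := Helper64.mem_of_coprime_index (piCore (sigma M) ↥M) ⟨a, haM⟩ hcop
  exact ⟨⟨a, haM⟩, hmem, rfl⟩

end Cfsg.Agent.Helper87
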