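/-
CALL BG83 (helper25, row S1383), piece AB: nilpotent subgroups of `M ∩ N` are abelian.
-/
import Cfsg.Statements.S1383
import Cfsg.Agent.S1403
import Cfsg.Agent.S1420
import Cfsg.Agent.Helper22.BG10b
import Cfsg.Agent.Helper23.FittingHall

set_option autoImplicit false

namespace Cfsg.Agent.Helper87

open Cfsg Subgroup

universe u

variable {G : Type u} [Group G] [Finite G]

/-- AB. Nilpotent subgroups of `M ∩ N` are abelian.  (S1420 clause 1 for `N` with `E = M ⊓ N`;
`|M ∩ N| = |N : N_σ|` has no prime divisor in `σ(N)`: `Helper22.bg10_sigma_hall` /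
`Helper25.bg16_hall_facts`.) -/
theorem bg83_inter_abelian (hG : IsMinSimpleOddOrder G) {M N : Subgroup G} (hN : IsCoatom N)
    (hc : IsComplIn (M ⊓ N) (sigmaCore N) N) (A : Subgroup G) (hA : A ≤ M ⊓ N)
    (hnil : Group.IsNilpotent ↥A) : ∀ a ∈ A, ∀ b ∈ A, a * b = b * a := by
  have hU : Helper22.BGUniq G := fun K hK h1 h2 => Cfsg.Agent.S1403.result hG K hK h1 h2
  obtain ⟨⟨hle, -, hidx⟩, -, -⟩ := Helper22.bg10_sigma_hall hG hU hN
  have hcard := Helper23.card_of_isComplIn (M ⊓ N) (sigmaCore N) N hc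
  have hEcard : (sigmaCore N).relIndex N = Nat.card ↥(M ⊓ N) := by
    have h1 := relIndex_mul_relIndex (⊥ : Subgroup G) (sigmaCore N) N bot_le hle
    rw [relIndex_bot_left, relIndex_bot_left, hcard, mul_comm] at h1
    have hpos : 0 < Nat.card (sigmaCore N) := Nat.card_pos
    exact Nat.eq_of_mul_eq_mul_right hpos h1
  obtain ⟨h1, -⟩ := Cfsg.Agent.S1420.result hG N hN (M ⊓ N) hc
  have hcomm := h1 A (hA.trans hc.1) hnil
    (fun p hp hpd hps => hidx p hp hps (hEcard ▸ (hpd.trans (Subgroup.card_dvd_of_le hA))))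
  intro a ha b hb
  have h := hcomm.is_comm.comm (⟨a, ha⟩ : ↥A) ⟨b, hb⟩
  exact congrArg Subtype.val h

end Cfsg.Agent.Helper87
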