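import Mathlib
import Cfsg.Prelude.Def_FusionSystem

/-!
# Rank two, `p ≥ 5`: the abstract context of an essential subgroup (for S5289)

`G` plays the role of an essential subgroup `E` of a saturated fusion system over a `p`-group `S` all of
whose elementary abelian subgroups have order at most `p ^ 2`; `A = Aut_F(E)`, and `t` is the automorphism
of `E` induced by an element `s ∈ N_S(E) ∖ E` with `s ^ p ∈ E`.
-/

set_option autoImplicit false

namespace Cfsg.Agent.Helper87

/-- Abstract data of an essential subgroup `G = E` of a saturated fusion system on a `p`-group of rank at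
most two: `A = Aut_F(E)`, `t` the automorphism induced by some `s ∈ N_S(E) ∖ E` with `s ^ p ∈ E`. -/
structure R2Ctx (p : ℕ) (G : Type*) [Group G] (A : Subgroup (MulAut G)) (t : MulAut G) : Prop where
  fin : Finite G
  pG : IsPGroup p G
  inn : ∀ g : G, MulAut.conj g ∈ A
  tA : t ∈ A
  tInn : t ∉ (MulAut.conj : G →* MulAut G).range
  tpow : ∃ e₀ : G, t ^ p = MulAut.conj e₀
  tnil : ∀ w : G, ∃ n : ℕ, (fun u => t u * u⁻¹)^[n] w = 1
  rad : ∀ K : Subgroup (MulAut G), K ≤ A → IsPGroup p K → (∀ g ∈ A, ∀ k ∈ K, g * k * g⁻¹ ∈ K) →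
    K ≤ (MulAut.conj : G →* MulAut G).range
  rank : ∀ H : Subgroup G, (∀ a ∈ H, ∀ b ∈ H, a * b = b * a) → (∀ a ∈ H, a ^ p = 1) →
    Nat.card H ≤ p ^ 2

end Cfsg.Agent.Helper87
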