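import Mathlib
import Cfsg.Agent.Helper87.R2Ctx

/-!
# Rank two, `p ≥ 5` (S5289): structures for the case without an invariant `E_{p^2}`

In the context `R2Ctx p G A t`, if `G` has no `A`-invariant elementary abelian subgroup of order `p ^ 2`,
then `G = W ∘ B` with `W` extraspecial of order `p ^ 3` and exponent `p` and `B = Z(G)` cyclic.
-/

set_option autoImplicit false

namespace Cfsg.Agent.Helper87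

open scoped commutatorElement

/-- No `A`-invariant elementary abelian subgroup of order `p ^ 2`. -/
def NoInvE2 (p : ℕ) {G : Type*} [Group G] (A : Subgroup (MulAut G)) : Prop :=
  ¬ ∃ R : Subgroup G, (∀ α ∈ A, ∀ r ∈ R, α r ∈ R) ∧ (∀ a ∈ R, ∀ b ∈ R, a * b = b * a) ∧
    (∀ a ∈ R, a ^ p = 1) ∧ Nat.card R = p ^ 2

/-- `B` is a maximal `A`-invariant abelian subgroup, it is cyclic, `Z₀ = Ω₁(B)` has order `p`, and `B` is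
not self-centralizing. -/
structure MaxAb (p : ℕ) (G : Type*) [Group G] (A : Subgroup (MulAut G)) (B Z₀ : Subgroup G) : Prop where
  inv : ∀ α ∈ A, ∀ c ∈ B, α c ∈ B
  comm : ∀ a ∈ B, ∀ b ∈ B, a * b = b * a
  max : ∀ B' : Subgroup G, (∀ α ∈ A, ∀ c ∈ B', α c ∈ B') → (∀ a ∈ B', ∀ b ∈ B', a * b = b * a) →
    B ≤ B' → B' = B
  cyc : ∃ c₀ ∈ B, ∀ c ∈ B, ∃ k : ℕ, c = c₀ ^ k
  Z₀B : ∀ c : G, c ∈ Z₀ ↔ c ∈ B ∧ c ^ p = 1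
  Z₀card : Nat.card Z₀ = p
  nsc : ∃ g : G, g ∉ B ∧ ∀ c ∈ B, g * c = c * g

/-- `W` is an `A`-invariant non-abelian subgroup of exponent `p` centralizing `B`, with `[W, G] ≤ Z₀`. -/
structure PreXS (p : ℕ) (G : Type*) [Group G] (A : Subgroup (MulAut G)) (B Z₀ W : Subgroup G) : Prop where
  Winv : ∀ α ∈ A, ∀ w ∈ W, α w ∈ W
  Wexp : ∀ w ∈ W, w ^ p = 1
  Z₀W : Z₀ ≤ W
  Wcomm : ∀ w ∈ W, ∀ g : G, ⁅w, g⁆ ∈ Z₀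
  Wnc : ∃ a ∈ W, ∃ b ∈ W, ⁅a, b⁆ ≠ 1
  WB : ∀ w ∈ W, ∀ c ∈ B, w * c = c * w

/-- `G = W B` with `B` central cyclic, `Z₀ = Ω₁(B)` of order `p`, `W` non-abelian of exponent `p` with
`[W, G] ≤ Z₀`, all `A`-invariant. -/
structure XS (p : ℕ) (G : Type*) [Group G] (A : Subgroup (MulAut G)) (B Z₀ W : Subgroup G) : Prop where
  Binv : ∀ α ∈ A, ∀ c ∈ B, α c ∈ B
  Bcent : ∀ c ∈ B, ∀ g : G, c * g = g * c
  Bcyc : ∃ c₀ ∈ B, ∀ c ∈ B, ∃ k : ℕ, c = c₀ ^ k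
  Z₀B : ∀ c : G, c ∈ Z₀ ↔ c ∈ B ∧ c ^ p = 1
  Z₀card : Nat.card Z₀ = p
  Winv : ∀ α ∈ A, ∀ w ∈ W, α w ∈ W
  Wexp : ∀ w ∈ W, w ^ p = 1
  Z₀W : Z₀ ≤ W
  Wcomm : ∀ w ∈ W, ∀ g : G, ⁅w, g⁆ ∈ Z₀
  Wnc : ∃ a ∈ W, ∃ b ∈ W, ⁅a, b⁆ ≠ 1
  dec : ∀ g : G, ∃ w ∈ W, ∃ c ∈ B, g = w * c

end Cfsg.Agent.Helper87
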