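import Cfsg.Agent.Helper87.Lift
import Cfsg.Prelude.Def_FusionComponents

set_option autoImplicit false

namespace Cfsg.Agent.Helper87

open Cfsg Cfsg.FusionSystem

/-! ### Automorphisms induced through a surjection -/

section Ind

variable {G H : Type*} [Group G] [Group H] (π : G →* H)

/-- `α'` is induced by `α` through `π`. -/
def IndAut (α : MulAut G) (α' : MulAut H) : Prop := ∀ x, α' (π x) = π (α x)

theorem IndAut.one : IndAut π 1 1 := fun _ => rfl

theorem IndAut.mul {α β : MulAut G} {α' β' : MulAut H} (h1 : IndAut π α α') (h2 : IndAut π β β') :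
    IndAut π (α * β) (α' * β') := fun x => by
  show α' (β' (π x)) = π (α (β x))
  rw [h2 x, h1 (β x)]

theorem IndAut.inv {α : MulAut G} {α' : MulAut H} (h : IndAut π α α') : IndAut π α⁻¹ α'⁻¹ := fun x => by
  have := h (α⁻¹ x)
  rw [MulAut.apply_inv_self] at this
  rw [← this, MulAut.inv_apply_self]

theorem IndAut.pow {α : MulAut G} {α' : MulAut H} (h : IndAut π α α') (n : ℕ) :
    IndAut π (α ^ n) (α' ^ n) := by
  induction n with
  | zero => rw [pow_zero, pow_zero]; exact IndAut.one π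
  | succ n ih => rw [pow_succ, pow_succ]; exact IndAut.mul π ih h

theorem IndAut.unique (hπ : Function.Surjective π) {α : MulAut G} {α' α'' : MulAut H}
    (h1 : IndAut π α α') (h2 : IndAut π α α'') : α' = α'' := by
  ext y
  obtain ⟨x, rfl⟩ := hπ y
  rw [h1, h2]

theorem IndAut.pow_eq_one (hπ : Function.Surjective π) {α : MulAut G} {α' : MulAut H}
    (h : IndAut π α α') {n : ℕ} (hn : α ^ n = 1) : α' ^ n = 1 := by
  have := IndAut.pow π h n
  rw [hn] at this
  exact IndAut.unique π hπ this (IndAut.one π)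

/-- An automorphism preserving the kernel of a surjection induces an automorphism of the image. -/
theorem exists_induced_mulAut (hπ : Function.Surjective π) (α : MulAut G)
    (hα : ∀ x, π x = 1 → π (α x) = 1) (hα' : ∀ x, π x = 1 → π (α⁻¹ x) = 1) :
    ∃ α' : MulAut H, IndAut π α α' := by
  obtain ⟨f, hf⟩ : ∃ f : H →* H, ∀ x, f (π x) = π (α x) :=
    ⟨π.liftOfRightInverse (Function.surjInv hπ) (Function.rightInverse_surjInv hπ)
      ⟨π.comp α.toMonoidHom, fun x hx => by
        rw [MonoidHom.mem_ker] at hx ⊢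
        exact hα x hx⟩, fun x => MonoidHom.liftOfRightInverse_comp_apply _ _ _ _ x⟩
  obtain ⟨g, hg⟩ : ∃ g : H →* H, ∀ x, g (π x) = π (α⁻¹ x) :=
    ⟨π.liftOfRightInverse (Function.surjInv hπ) (Function.rightInverse_surjInv hπ)
      ⟨π.comp (α⁻¹).toMonoidHom, fun x hx => by
        rw [MonoidHom.mem_ker] at hx ⊢
        exact hα' x hx⟩, fun x => MonoidHom.liftOfRightInverse_comp_apply _ _ _ _ x⟩
  refine ⟨{ toFun := f, invFun := g, left_inv := ?_, right_inv := ?_, map_mul' := f.map_mul }, hf⟩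
  · intro y
    obtain ⟨x, rfl⟩ := hπ y
    rw [hf, hg, MulAut.inv_apply_self]
  · intro y
    obtain ⟨x, rfl⟩ := hπ y
    rw [hg, hf, MulAut.apply_inv_self]

/-- Pushing `O^p` forward along induced automorphisms. -/
theorem pResidual_push {p : ℕ} (hπ : Function.Surjective π) {A : Subgroup (MulAut G)}
    {A' : Subgroup (MulAut H)} (h : ∀ α ∈ A, ∃ α' ∈ A', IndAut π α α') (α : A)
    (hα : α ∈ pResidual p A) : ∃ α' : A', α' ∈ pResidual p A' ∧ IndAut π α α' := by
  unfold pResidual at hα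
  induction hα using Subgroup.closure_induction with
  | mem g hg =>
    obtain ⟨α', hα', hind⟩ := h g.1 g.2
    refine ⟨⟨α', hα'⟩, Subgroup.subset_closure ?_, hind⟩
    have hg' : Nat.Coprime (orderOf g) p := hg
    have hdvd : orderOf (⟨α', hα'⟩ : A') ∣ orderOf g := by
      apply orderOf_dvd_of_pow_eq_one
      apply Subtype.ext
      show α' ^ orderOf g = 1
      apply IndAut.pow_eq_one π hπ hind
      rw [← Subgroup.orderOf_coe]
      exact pow_orderOf_eq_one _
    exact Nat.Coprime.coprime_dvd_left hdvd hg'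
  | one => exact ⟨1, Subgroup.one_mem _, IndAut.one π⟩
  | mul a b _ _ ha hb =>
    obtain ⟨a', ha', ia⟩ := ha
    obtain ⟨b', hb', ib⟩ := hb
    exact ⟨a' * b', Subgroup.mul_mem _ ha' hb', IndAut.mul π ia ib⟩
  | inv a _ ha =>
    obtain ⟨a', ha', ia⟩ := ha
    exact ⟨a'⁻¹, Subgroup.inv_mem _ ha', IndAut.inv π ia⟩

/-- Pulling `O^p` back along induced automorphisms. -/
theorem pResidual_pull {p : ℕ} [Fact p.Prime] [Finite (MulAut G)]
    {A : Subgroup (MulAut G)} {A' : Subgroup (MulAut H)} (h : ∀ α' ∈ A', ∃ α ∈ A, IndAut π α α')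
    (α' : A') (hα' : α' ∈ pResidual p A') : ∃ α : A, α ∈ pResidual p A ∧ IndAut π α α' := by
  have hpp : p.Prime := Fact.out
  unfold pResidual at hα'
  induction hα' using Subgroup.closure_induction with
  | mem g' hg' =>
    obtain ⟨α, hα, hind⟩ := h g'.1 g'.2
    have hN0 : orderOf α ≠ 0 := (orderOf_pos α).ne'
    obtain ⟨a, m, hm, hN⟩ := Nat.exists_eq_pow_mul_and_not_dvd hN0 p hpp.one_lt.ne'
    have hmc : m.Coprime p := ((Nat.Prime.coprime_iff_not_dvd hpp).mpr hm).symm
    have hd : Nat.Coprime (orderOf (g' : MulAut H)) p := by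
      have hg'' : Nat.Coprime (orderOf g') p := hg'
      rwa [Subgroup.orderOf_coe]
    by_cases hd1 : orderOf (g' : MulAut H) = 1
    · refine ⟨1, Subgroup.one_mem _, ?_⟩
      rw [orderOf_eq_one_iff] at hd1
      rw [hd1]
      exact IndAut.one π
    · have hd0 : orderOf (g' : MulAut H) ≠ 0 := by
        intro h0
        rw [h0, Nat.coprime_zero_left] at hd
        exact hpp.one_lt.ne' hd
      obtain ⟨c, -, hc⟩ := Nat.exists_mul_mod_eq_one_of_coprime
        (Nat.Coprime.pow_left a hd.symm) (by omega : 1 < orderOf (g' : MulAut H))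
      refine ⟨⟨α ^ (p ^ a * c), Subgroup.pow_mem _ hα _⟩, Subgroup.subset_closure ?_, ?_⟩
      · have hdvd : orderOf (⟨α ^ (p ^ a * c), Subgroup.pow_mem _ hα _⟩ : A) ∣ m := by
          apply orderOf_dvd_of_pow_eq_one
          apply Subtype.ext
          show (α ^ (p ^ a * c)) ^ m = 1
          rw [← pow_mul, mul_right_comm, ← hN, pow_mul, pow_orderOf_eq_one, one_pow]
        exact Nat.Coprime.coprime_dvd_left hdvd hmc
      · have := IndAut.pow π hind (p ^ a * c)
        rwa [← pow_mod_orderOf (g' : MulAut H), hc, pow_one] at this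
  | one => exact ⟨1, Subgroup.one_mem _, IndAut.one π⟩
  | mul a b _ _ ha hb =>
    obtain ⟨a', ha', ia⟩ := ha
    obtain ⟨b', hb', ib⟩ := hb
    exact ⟨a' * b', Subgroup.mul_mem _ ha' hb', IndAut.mul π ia ib⟩
  | inv a _ ha =>
    obtain ⟨a', ha', ia⟩ := ha
    exact ⟨a'⁻¹, Subgroup.inv_mem _ ha', IndAut.inv π ia⟩

end Ind

/-! ### Preimages and images along a homomorphism defined on `S` -/

section Along

variable {Ω : Type*} [Group Ω] {S : Subgroup Ω} {Ω' : Type*} [Group Ω']

theorem mem_preimageAlong {θ : S →* Ω'} {P' : Subgroup Ω'} {y : Ω} :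
    y ∈ preimageAlong θ P' ↔ ∃ hy : y ∈ S, θ ⟨y, hy⟩ ∈ P' := by
  unfold preimageAlong
  constructor
  · rintro ⟨s, hs, rfl⟩
    exact ⟨s.2, hs⟩
  · rintro ⟨hy, h⟩
    exact ⟨⟨y, hy⟩, h, rfl⟩

theorem preimageAlong_le (θ : S →* Ω') (P' : Subgroup Ω') : preimageAlong θ P' ≤ S := by
  intro y hy
  exact (mem_preimageAlong.mp hy).1

theorem mem_imageAlong {θ : S →* Ω'} {P : Subgroup Ω} (x : Ω) (hx : x ∈ P) (hxS : x ∈ S) :
    θ ⟨x, hxS⟩ ∈ imageAlong θ P :=
  ⟨⟨x, hxS⟩, Subgroup.mem_subgroupOf.mpr hx, rfl⟩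

end Along

end Cfsg.Agent.Helper87
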