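import Cfsg.Agent.Helper87.Factor
import Cfsg.Agent.Helper85.Realized

set_option autoImplicit false

namespace Cfsg.Agent.Helper87

open Cfsg Cfsg.FusionSystem

variable {Ω : Type*} [Group Ω]

/-- The fusion system over `R` whose maps are the restrictions of the elements of a group `A` of automorphisms of `R`
containing the inner automorphisms. -/
def autSystem (R : Subgroup Ω) (A : Subgroup (MulAut R)) (hA : ∀ r : R, MulAut.conj r ∈ A) : FusionSystem R where
  Hom P := {φ | ∃ hP : P ≤ R, ∃ γ ∈ A, ∀ x : P, φ x = ((γ ⟨x, hP x.2⟩ : R) : Ω)}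
  le_of_mem := by
    rintro P φ ⟨hP, γ, -, h⟩
    exact ⟨hP, fun x => by rw [h x]; exact (γ _).2⟩
  injective_of_mem := by
    rintro P φ ⟨hP, γ, -, h⟩ a b hab
    rw [h a, h b] at hab
    have h2 := γ.injective (Subtype.ext hab)
    have h3 : (a : Ω) = (b : Ω) := congrArg (fun z : R => (z : Ω)) h2
    exact Subtype.ext h3
  conj_mem := by
    intro P g hP hg
    exact ⟨hP, MulAut.conj ⟨g, hg⟩, hA _, fun x => rfl⟩
  comp_mem := by
    rintro P Q φ ψ ⟨hP, γ₁, h₁A, h₁⟩ ⟨hQ, γ₂, h₂A, h₂⟩ h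
    refine ⟨hP, γ₂ * γ₁, A.mul_mem h₂A h₁A, fun x => ?_⟩
    show ψ (φ.codRestrict Q h x) = _
    rw [h₂, MulAut.mul_apply]
    congr 2
    exact Subtype.ext (h₁ x)
  inv_mem := by
    rintro P φ ⟨hP, γ, hγA, h⟩
    have hr : φ.range ≤ R := by
      rintro _ ⟨x, rfl⟩
      rw [h x]; exact (γ _).2
    refine ⟨(R.subtype.comp γ⁻¹.toMonoidHom).comp (Subgroup.inclusion hr),
      ⟨hr, γ⁻¹, A.inv_mem hγA, fun x => rfl⟩, fun x => ?_⟩
    show ((γ⁻¹ ⟨φ x, _⟩ : R) : Ω) = x
    have e : (⟨φ x, hr ⟨x, rfl⟩⟩ : R) = γ ⟨x, hP x.2⟩ := Subtype.ext (h x)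
    rw [e, MulAut.inv_apply, MulEquiv.symm_apply_apply]

theorem mem_autSystem_hom (R : Subgroup Ω) (A : Subgroup (MulAut R)) (hA : ∀ r : R, MulAut.conj r ∈ A)
    (P : Subgroup Ω) (φ : P →* Ω) :
    φ ∈ (autSystem R A hA).Hom P ↔ ∃ hP : P ≤ R, ∃ γ ∈ A, ∀ x : P, φ x = ((γ ⟨x, hP x.2⟩ : R) : Ω) := Iff.rfl

theorem autSystem_autGroup (R : Subgroup Ω) (A : Subgroup (MulAut R)) (hA : ∀ r : R, MulAut.conj r ∈ A) :
    (autSystem R A hA).autGroup R = A := by
  ext α
  rw [mem_autGroup_iff _ (le_refl R), mem_autSystem_hom]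
  constructor
  · rintro ⟨_, γ, hγ, h⟩
    have : α = γ := by
      ext x
      exact h x
    rw [this]; exact hγ
  · intro hα
    exact ⟨le_refl R, α, hα, fun x => rfl⟩

theorem autSystem_isSubsystemOf {S : Subgroup Ω} (F : FusionSystem S) {R : Subgroup Ω} (hRS : R ≤ S)
    (A : Subgroup (MulAut R)) (hA : ∀ r : R, MulAut.conj r ∈ A) (h : A ≤ F.autGroup R) :
    (autSystem R A hA).IsSubsystemOf F := by
  rintro P φ ⟨hP, γ, hγ, hφ⟩
  have h1 := (mem_autGroup_iff F hRS γ).mp (h hγ)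
  exact hom_of_restrict F h1 hP (fun x => hφ x)

theorem conj_mem_autGroup {S : Subgroup Ω} (F : FusionSystem S) {R : Subgroup Ω} (hRS : R ≤ S) (r : R) :
    MulAut.conj r ∈ F.autGroup R := by
  rw [mem_autGroup_iff F hRS]
  exact hom_of_eq F (F.conj_mem hRS (hRS r.2)) (fun x => rfl)

theorem inn_le_autGroup {S : Subgroup Ω} (F : FusionSystem S) {R : Subgroup Ω} (hRS : R ≤ S) :
    (MulAut.conj : R →* MulAut R).range ≤ F.autGroup R := by
  rintro _ ⟨r, rfl⟩
  exact conj_mem_autGroup F hRS r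

theorem inn_normal (R : Type*) [Group R] : (MulAut.conj : R →* MulAut R).range.Normal := by
  constructor
  rintro _ ⟨r, rfl⟩ g
  refine ⟨g r, ?_⟩
  ext x
  simp [MulAut.conj_apply]

theorem mem_inn_sup_iff {R : Type*} [Group R] (H : Subgroup (MulAut R)) (γ : MulAut R) :
    γ ∈ (MulAut.conj : R →* MulAut R).range ⊔ H ↔ ∃ r : R, ∃ h ∈ H, γ = MulAut.conj r * h := by
  have := inn_normal R
  rw [← SetLike.mem_coe, Subgroup.normal_mul, Set.mem_mul]
  constructor
  · rintro ⟨_, ⟨r, rfl⟩, h, hh, rfl⟩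
    exact ⟨r, h, hh, rfl⟩
  · rintro ⟨r, h, hh, rfl⟩
    exact ⟨_, ⟨r, rfl⟩, h, hh, rfl⟩

theorem autSystem_realized (R : Subgroup Ω) (H : Subgroup (MulAut R)) :
    (autSystem R ((MulAut.conj : R →* MulAut R).range ⊔ H)
      (fun r => Subgroup.mem_sup_left ⟨r, rfl⟩)).IsRealizedBy
      (SemidirectProduct.inl : R →* R ⋊[H.subtype] H) := by
  refine ⟨SemidirectProduct.inl_injective, fun P hP φ hφ => ?_⟩
  constructor
  · rintro ⟨_, γ, hγ, h⟩
    obtain ⟨r, k, hk, rfl⟩ := (mem_inn_sup_iff H γ).mp hγ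
    refine ⟨SemidirectProduct.inl r * SemidirectProduct.inr ⟨k, hk⟩, fun x => ?_⟩
    have e : (⟨φ x, hφ x⟩ : R) = r * k ⟨x, hP x.2⟩ * r⁻¹ := Subtype.ext ((h x).trans rfl)
    have h2 := SemidirectProduct.inl_aut (φ := H.subtype) ⟨k, hk⟩ (⟨x, hP x.2⟩ : R)
    have h3 : (H.subtype ⟨k, hk⟩) (⟨x, hP x.2⟩ : R) = k ⟨x, hP x.2⟩ := rfl
    rw [h3] at h2
    rw [e, map_mul, map_mul, h2, map_inv, map_inv, mul_inv_rev]
    simp only [mul_assoc]
  · rintro ⟨g, hg⟩
    refine ⟨hP, MulAut.conj g.left * (g.right : MulAut R),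
      (mem_inn_sup_iff H _).mpr ⟨g.left, g.right, g.right.2, rfl⟩, fun x => ?_⟩
    have h1 := hg x
    have h2 := SemidirectProduct.inl_aut (φ := H.subtype) g.right (⟨x, hP x.2⟩ : R)
    have h3 : (H.subtype g.right) (⟨x, hP x.2⟩ : R) = (g.right : MulAut R) ⟨x, hP x.2⟩ := rfl
    rw [h3] at h2
    rw [← SemidirectProduct.inl_left_mul_inr_right g] at h1
    have h4 : (SemidirectProduct.inl (φ := H.subtype) (⟨φ x, hφ x⟩ : R)) =
        SemidirectProduct.inl (g.left * (g.right : MulAut R) ⟨x, hP x.2⟩ * g.left⁻¹) := by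
      rw [h1, map_mul, map_mul, h2, map_inv, map_inv, mul_inv_rev]
      simp only [mul_assoc]
    have h5 := SemidirectProduct.inl_injective h4
    have h6 := congrArg Subtype.val h5
    exact h6

theorem autSystem_saturated {p : ℕ} [Fact p.Prime] (R : Subgroup Ω) [Finite R] (hR : IsPGroup p R)
    (α : MulAut R) (hα : ¬ p ∣ orderOf α) :
    (autSystem R ((MulAut.conj : R →* MulAut R).range ⊔ Subgroup.zpowers α)
      (fun r => Subgroup.mem_sup_left ⟨r, rfl⟩)).IsSaturated p := by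
  set H : Subgroup (MulAut R) := Subgroup.zpowers α with hH
  have hreal := autSystem_realized R H
  have hcard : Nat.card (R ⋊[H.subtype] H) = Nat.card R * Nat.card H := SemidirectProduct.card
  have hfin : Finite (R ⋊[H.subtype] H) := by
    apply Nat.finite_of_card_ne_zero
    rw [hcard]
    exact Nat.mul_ne_zero Nat.card_pos.ne' Nat.card_pos.ne'
  have hinj : Function.Injective (SemidirectProduct.inl : R →* R ⋊[H.subtype] H) :=
    SemidirectProduct.inl_injective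
  have hpg : IsPGroup p (SemidirectProduct.inl : R →* R ⋊[H.subtype] H).range :=
    hR.of_equiv (MonoidHom.ofInjective hinj)
  have hc : Nat.card (SemidirectProduct.inl : R →* R ⋊[H.subtype] H).range = Nat.card R :=
    (Nat.card_congr (MonoidHom.ofInjective hinj).toEquiv).symm
  have hidx : (SemidirectProduct.inl : R →* R ⋊[H.subtype] H).range.index = orderOf α := by
    have h1 := Subgroup.index_mul_card (SemidirectProduct.inl : R →* R ⋊[H.subtype] H).range
    rw [hc, hcard, mul_comm] at h1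
    have h2 := Nat.eq_of_mul_eq_mul_left Nat.card_pos h1
    rw [h2, hH, Nat.card_zpowers]
  have hnd : ¬ p ∣ (SemidirectProduct.inl : R →* R ⋊[H.subtype] H).range.index := by
    rw [hidx]; exact hα
  exact Helper85.saturated_of_realized _ (SemidirectProduct.inl : R →* R ⋊[H.subtype] H) hreal
    (hpg.toSylow hnd) rfl

end Cfsg.Agent.Helper87
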