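import Cfsg.Agent.Helper87.Sparse

set_option autoImplicit false

/-!
# Minimal non-inner saturated subsystems

A saturated fusion system over `S` that is not inner contains a saturated non-inner subsystem over `S` that is
sparse (minimal with respect to the number of maps).  For `p` odd such a subsystem is constrained.
-/

namespace Cfsg.Agent.Helper87

open Cfsg Cfsg.FusionSystem Cfsg.Agent.Helper84

section SparseMin

universe u

variable {Ω : Type u} [Group Ω] {S : Subgroup Ω}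

/-- The set of all maps of a fusion system, as pairs (source, map). -/
def morSet (E : FusionSystem S) : Set (Σ P : Subgroup Ω, P →* Ω) := {x | x.2 ∈ E.Hom x.1}

/-- The graph of a homomorphism defined on a subgroup. -/
def morGraph (x : Σ P : Subgroup Ω, P →* Ω) : Set (Ω × Ω) :=
  {ab | ∃ h : ab.1 ∈ x.1, x.2 ⟨ab.1, h⟩ = ab.2}

theorem morGraph_injective : Function.Injective (morGraph (Ω := Ω)) := by
  rintro ⟨P, φ⟩ ⟨P', φ'⟩ h
  have hP : P = P' := by
    ext a
    constructor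
    · intro ha
      have h1 : (a, φ ⟨a, ha⟩) ∈ morGraph ⟨P, φ⟩ := ⟨ha, rfl⟩
      rw [h] at h1
      exact h1.1
    · intro ha
      have h1 : (a, φ' ⟨a, ha⟩) ∈ morGraph ⟨P', φ'⟩ := ⟨ha, rfl⟩
      rw [← h] at h1
      exact h1.1
  subst hP
  have hφ : φ = φ' := by
    ext y
    have h1 : ((y : Ω), φ y) ∈ morGraph ⟨P, φ⟩ := ⟨y.2, rfl⟩
    rw [h] at h1
    obtain ⟨hy, h2⟩ := h1
    exact h2.symm
  rw [hφ]

theorem morSet_finite [Finite S] (E : FusionSystem S) : (morSet E).Finite := by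
  have hS : ((S : Set Ω) ×ˢ (S : Set Ω)).Finite := (Set.toFinite _).prod (Set.toFinite _)
  have h2 : {s : Set (Ω × Ω) | s ⊆ (S : Set Ω) ×ˢ (S : Set Ω)}.Finite := hS.finite_subsets
  apply Set.Finite.of_finite_image (f := morGraph) _ (morGraph_injective.injOn)
  apply h2.subset
  rintro _ ⟨⟨P, φ⟩, hx, rfl⟩
  rintro ⟨a, b⟩ ⟨ha, hab⟩
  obtain ⟨hPS, hφS⟩ := E.le_of_mem hx
  have hab' : φ ⟨a, ha⟩ = b := hab
  refine ⟨hPS ha, ?_⟩
  show b ∈ S
  rw [← hab']
  exact hφS _

/-- A non-inner saturated fusion system contains a sparse saturated subsystem over the same group. -/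
theorem exists_min_noninner [Finite S] (p : ℕ) (F : FusionSystem S) (hF : F.IsSaturated p)
    (hne : ¬ ∀ P : Subgroup Ω, F.Hom P = (innerFusionSystem S).Hom P) :
    ∃ E : FusionSystem S, E ≤ F ∧ E.IsSaturated p ∧
      (¬ ∀ P : Subgroup Ω, E.Hom P = (innerFusionSystem S).Hom P) ∧
      ∀ E' : FusionSystem S, E'.IsSaturated p → E'.IsSubsystemOf E →
        (∀ P : Subgroup Ω, E'.Hom P = E.Hom P) ∨
          (∀ P : Subgroup Ω, E'.Hom P = (innerFusionSystem S).Hom P) := by
  classical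
  have hex : ∃ n : ℕ, ∃ E : FusionSystem S, E ≤ F ∧ E.IsSaturated p ∧
      (¬ ∀ P : Subgroup Ω, E.Hom P = (innerFusionSystem S).Hom P) ∧ (morSet E).ncard = n :=
    ⟨_, F, fun P => subset_rfl, hF, hne, rfl⟩
  obtain ⟨E, hEF, hEsat, hEni, hEn⟩ := Nat.find_spec hex
  refine ⟨E, hEF, hEsat, hEni, fun E' hE'sat hE'E => ?_⟩
  by_cases hin : ∀ P : Subgroup Ω, E'.Hom P = (innerFusionSystem S).Hom P
  · exact Or.inr hin
  · left
    have hsub : morSet E' ⊆ morSet E := fun x hx => hE'E x.1 hx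
    have hle : Nat.find hex ≤ (morSet E').ncard :=
      Nat.find_min' hex ⟨E', fun P => (hE'E P).trans (hEF P), hE'sat, hin, rfl⟩
    have heq : morSet E' = morSet E :=
      Set.eq_of_subset_of_ncard_le hsub (by rw [hEn]; exact hle) (morSet_finite E)
    intro P
    ext φ
    have h1 : (⟨P, φ⟩ : Σ P : Subgroup Ω, P →* Ω) ∈ morSet E' ↔
        (⟨P, φ⟩ : Σ P : Subgroup Ω, P →* Ω) ∈ morSet E := by rw [heq]
    exact h1

end SparseMin

end Cfsg.Agent.Helper87
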