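import Cfsg.Agent.Helper87.Sparse
import Cfsg.Agent.Helper87.SparseMin
import Cfsg.Agent.Helper85.Realized
import Cfsg.Agent.Helper84.ModelSub

/-!
# The model of a sparse fusion system: the Sylow subgroup is maximal (helper87)

For a fusion system `E` over `S` realized by `ι : S →* G` and a subgroup `H` of `G` containing `ι(S)`,
the maps of `E` induced by conjugation with elements of `H` form a subsystem `axSubSystem E ι H`,
realized by `H`.  If `E` is sparse and `G` is a model of `E`, this subsystem is `E` or the inner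
system, which forces `H = G` or `H = ι(S)`.
-/

set_option autoImplicit false

namespace Cfsg.Agent.Helper87

open Cfsg Cfsg.FusionSystem Cfsg.Agent.Helper84

section AxMax

universe u

variable {Ω : Type u} [Group Ω] {S : Subgroup Ω}

/-- The maps of `E` induced by conjugation with elements of the subgroup `H` of a group receiving `S`. -/
def axSubHom (E : FusionSystem S) {G : Type*} [Group G] (ι : S →* G) (H : Subgroup G)
    (P : Subgroup Ω) : Set (P →* Ω) :=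
  {φ | φ ∈ E.Hom P ∧ ∃ (hP : P ≤ S) (hφ : ∀ x : P, φ x ∈ S), ∃ h ∈ H,
    ∀ x : P, ι ⟨φ x, hφ x⟩ = h * ι ⟨x, hP x.2⟩ * h⁻¹}

/-- The subsystem of `E` of the maps induced by a subgroup `H ≥ ι(S)`. -/
def axSubSystem (E : FusionSystem S) {G : Type*} [Group G] (ι : S →* G) (H : Subgroup G)
    (hH : ι.range ≤ H) : FusionSystem S where
  Hom := axSubHom E ι H
  le_of_mem := fun h => E.le_of_mem h.1
  injective_of_mem := fun h => E.injective_of_mem h.1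
  conj_mem := by
    intro P g hP hg
    refine ⟨E.conj_mem hP hg, hP, fun x => S.mul_mem (S.mul_mem hg (hP x.2)) (S.inv_mem hg),
      ι ⟨g, hg⟩, hH ⟨_, rfl⟩, fun x => ?_⟩
    rw [← map_inv, ← map_mul, ← map_mul]
    rfl
  comp_mem := by
    rintro P Q φ ψ ⟨hφE, hP, hφ, h, hh, hc⟩ ⟨hψE, hQ, hψ, k, hk, hd⟩ hPQ
    refine ⟨E.comp_mem hφE hψE hPQ, hP, fun x => hψ _, k * h, H.mul_mem hk hh, fun x => ?_⟩
    have h1 : ι ⟨ψ (φ.codRestrict Q hPQ x), hψ _⟩ = k * ι ⟨φ x, hφ x⟩ * k⁻¹ :=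
      hd (φ.codRestrict Q hPQ x)
    rw [hc x] at h1
    show ι ⟨ψ (φ.codRestrict Q hPQ x), hψ _⟩ = _
    rw [h1]
    group
  inv_mem := by
    rintro P φ ⟨hφE, hP, hφ, h, hh, hc⟩
    obtain ⟨ψ, hψ, hψφ⟩ := E.inv_mem hφE
    refine ⟨ψ, ⟨hψ, (E.le_of_mem hψ).1, (E.le_of_mem hψ).2, h⁻¹, H.inv_mem hh, ?_⟩, hψφ⟩
    rintro ⟨y, x, rfl⟩
    have h1 := hc x
    have h2 : (⟨ψ ⟨φ x, ⟨x, rfl⟩⟩, (E.le_of_mem hψ).2 _⟩ : S) = ⟨x, hP x.2⟩ :=
      Subtype.ext (hψφ x)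
    rw [h2]
    have h3 : ι ⟨((⟨φ x, ⟨x, rfl⟩⟩ : φ.range) : Ω), (E.le_of_mem hψ).1 (⟨φ x, ⟨x, rfl⟩⟩ : φ.range).2⟩ =
        ι ⟨φ x, hφ x⟩ := rfl
    rw [h3, h1]
    group

theorem axSubSystem_isSubsystemOf (E : FusionSystem S) {G : Type*} [Group G] (ι : S →* G)
    (H : Subgroup G) (hH : ι.range ≤ H) : (axSubSystem E ι H hH).IsSubsystemOf E :=
  fun _ _ hφ => hφ.1

/-- The subsystem induced by `H` is realized by `H`. -/
theorem axSubSystem_realized (E : FusionSystem S) {G : Type*} [Group G] {ι : S →* G}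
    (hreal : E.IsRealizedBy ι) (H : Subgroup G) (hH : ι.range ≤ H) :
    (axSubSystem E ι H hH).IsRealizedBy (ι.codRestrict H (fun s => hH ⟨s, rfl⟩)) := by
  refine ⟨fun a b hab => hreal.1 (congrArg Subtype.val hab), fun P hP φ hφ => ⟨?_, ?_⟩⟩
  · rintro ⟨_, hP', hφ', h, hh, hc⟩
    exact ⟨⟨h, hh⟩, fun x => Subtype.ext (hc x)⟩
  · rintro ⟨g, hg⟩
    have hg' : ∀ x : P, ι ⟨φ x, hφ x⟩ = (g : G) * ι ⟨x, hP x.2⟩ * (g : G)⁻¹ :=
      fun x => congrArg Subtype.val (hg x)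
    exact ⟨(hreal.2 P hP φ hφ).mpr ⟨g, hg'⟩, hP, hφ, g, g.2, hg'⟩

/-- **The Sylow subgroup of the model of a sparse system is a maximal subgroup** (or everything). -/
theorem ax_model_maximal [Finite S] {p : ℕ} [Fact p.Prime] (E : FusionSystem S)
    (hsp : ∀ E' : FusionSystem S, E'.IsSaturated p → E'.IsSubsystemOf E →
      (∀ P : Subgroup Ω, E'.Hom P = E.Hom P) ∨
        (∀ P : Subgroup Ω, E'.Hom P = (innerFusionSystem S).Hom P))
    {G : Type*} [Group G] {ι : S →* G} (hM : E.IsModel p G ι) (H : Subgroup G)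
    (hH : ι.range ≤ H) : H = ι.range ∨ H = ⊤ := by
  have hRle := model_pCore_le_range E hM
  obtain ⟨hfin, hreal, ⟨T, hT⟩, hcen⟩ := hM
  have hinj := hreal.1
  have hsub := axSubSystem_isSubsystemOf E ι H hH
  have hrealH := axSubSystem_realized E hreal H hH
  have hTH : (T : Subgroup G) ≤ H := hT ▸ hH
  have hsat : (axSubSystem E ι H hH).IsSaturated p := by
    refine Helper85.saturated_of_realized _ _ hrealH (T.subtype hTH) ?_
    rw [Sylow.coe_subtype, hT]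
    ext ⟨y, hy⟩
    rw [Subgroup.mem_subgroupOf]
    constructor
    · rintro ⟨s, hs⟩
      exact ⟨s, Subtype.ext hs⟩
    · rintro ⟨s, hs⟩
      exact ⟨s, congrArg Subtype.val hs⟩
  have hOS := corePre_le (S := S) p ι
  have hcn : (pCore p G).Normal := Cfsg.pCore_normal p G
  have hOconj : ∀ (g : G) (y : ↥(corePre p ι)), g * ι ⟨y, hOS y.2⟩ * g⁻¹ ∈ ι.range := by
    intro g y
    exact hRle (hcn.conj_mem _ ((mem_corePre_iff p ι ⟨y, hOS y.2⟩).mp y.2) g)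
  have hkey : ∀ g k : G,
      (∀ y : ↥(corePre p ι), g * ι ⟨y, hOS y.2⟩ * g⁻¹ = k * ι ⟨y, hOS y.2⟩ * k⁻¹) →
      k⁻¹ * g ∈ pCore p G := by
    intro g k h
    apply hcen
    rw [Subgroup.mem_centralizer_iff]
    intro o ho
    obtain ⟨s, rfl⟩ := hRle ho
    have h1 := h ⟨s, (mem_corePre_iff p ι s).mpr ho⟩
    have h2 : ι ⟨((⟨(s : Ω), (mem_corePre_iff p ι s).mpr ho⟩ : ↥(corePre p ι)) : Ω),
        hOS ((mem_corePre_iff p ι s).mpr ho)⟩ = ι s := rfl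
    rw [h2] at h1
    calc ι s * (k⁻¹ * g) = k⁻¹ * (k * ι s * k⁻¹) * g := by group
      _ = k⁻¹ * (g * ι s * g⁻¹) * g := by rw [h1]
      _ = k⁻¹ * g * ι s := by group
  rcases hsp _ hsat hsub with hA | hB
  · right
    rw [eq_top_iff]
    intro g _
    obtain ⟨ψ, hψ, hψι⟩ := exists_conj_hom E hreal hOS g (hOconj g)
    rw [← hA] at hψ
    obtain ⟨_, hP, hφ, h, hh, hc⟩ := hψ
    have h1 : h⁻¹ * g ∈ pCore p G := by
      apply hkey
      intro y
      obtain ⟨hx, h2⟩ := hψι y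
      rw [← h2]
      exact hc y
    have h2 : g = h * (h⁻¹ * g) := by group
    rw [h2]
    exact H.mul_mem hh (hH (hRle h1))
  · left
    apply le_antisymm _ hH
    intro h hh
    obtain ⟨ψ, hψ, hψι⟩ := exists_conj_hom E hreal hOS h (hOconj h)
    have hψ' : ψ ∈ (axSubSystem E ι H hH).Hom (corePre p ι) :=
      ⟨hψ, hOS, fun x => (hψι x).1, h, hh, fun x => (hψι x).2⟩
    rw [hB] at hψ'
    obtain ⟨-, s, hs, hsψ⟩ := hψ'
    have h1 : (ι ⟨s, hs⟩)⁻¹ * h ∈ pCore p G := by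
      apply hkey
      intro y
      obtain ⟨hx, h2⟩ := hψι y
      rw [← h2]
      have h3 : (⟨ψ y, hx⟩ : S) = ⟨s, hs⟩ * ⟨y, hOS y.2⟩ * ⟨s, hs⟩⁻¹ := Subtype.ext (hsψ y)
      rw [h3, map_mul, map_mul, map_inv]
    have h2 : h = ι ⟨s, hs⟩ * ((ι ⟨s, hs⟩)⁻¹ * h) := by group
    rw [h2]
    exact ι.range.mul_mem ⟨_, rfl⟩ (hRle h1)

/-- Membership in the image along an injective homomorphism. -/
theorem ax_mem_imageAlong_iff {G : Type*} [Group G] {ι : S →* G} (hinj : Function.Injective ι)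
    (Y : Subgroup Ω) (s : S) : ι s ∈ imageAlong ι Y ↔ (s : Ω) ∈ Y := by
  constructor
  · rintro ⟨t, ht, hts⟩
    have e : t = s := hinj hts
    rw [← e]
    exact Subgroup.mem_subgroupOf.mp ht
  · intro h
    exact ⟨s, Subgroup.mem_subgroupOf.mpr h, rfl⟩

/-- A subgroup of `S` whose image in a realizing group is normal is normal in the system. -/
theorem ax_isNormal_of_image_normal (E : FusionSystem S) {G : Type*} [Group G] {ι : S →* G}
    (hreal : E.IsRealizedBy ι) {Z : Subgroup Ω} (hZS : Z ≤ S) (hZn : (imageAlong ι Z).Normal) :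
    E.IsNormal Z := by
  have hinj := hreal.1
  have hZr : imageAlong ι Z ≤ ι.range := by
    rintro _ ⟨s, -, rfl⟩
    exact ⟨s, rfl⟩
  refine ⟨hZS, fun P φ hφ => ?_⟩
  have hPS := hom_le E hφ
  obtain ⟨g, hg⟩ := (hreal.2 P hPS φ (hom_mem E hφ)).mp hφ
  let K : Subgroup Ω := ((ι.range).comap ((MulAut.conj g).toMonoidHom.comp ι)).map S.subtype
  have hKS : K ≤ S := Subgroup.map_subtype_le _
  have hPK : P ≤ K := by
    intro x hx
    refine ⟨⟨x, hPS hx⟩, ?_, rfl⟩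
    show g * ι ⟨x, hPS hx⟩ * g⁻¹ ∈ ι.range
    rw [← hg ⟨x, hx⟩]
    exact ⟨_, rfl⟩
  have hCK : Z ≤ K := by
    intro z hz
    refine ⟨⟨z, hZS hz⟩, ?_, rfl⟩
    show g * ι ⟨z, hZS hz⟩ * g⁻¹ ∈ ι.range
    exact hZr (hZn.conj_mem _ ((ax_mem_imageAlong_iff hinj Z ⟨z, hZS hz⟩).mpr hz) g)
  have hDK : P ⊔ Z ≤ K := sup_le hPK hCK
  have hDS : P ⊔ Z ≤ S := hDK.trans hKS
  have hconj : ∀ y : ↥(P ⊔ Z), g * ι ⟨y, hDS y.2⟩ * g⁻¹ ∈ ι.range := by
    intro y
    obtain ⟨s, hs, hsy⟩ := hDK y.2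
    have e : s = ⟨y, hDS y.2⟩ := Subtype.ext hsy
    rw [← e]
    exact hs
  obtain ⟨ψ, hψ, hψι⟩ := exists_conj_hom E hreal hDS g hconj
  refine ⟨ψ, hψ, fun x => ?_, ?_⟩
  · obtain ⟨hx, h2⟩ := hψι (Subgroup.inclusion le_sup_left x)
    have h3 : ι ⟨ψ (Subgroup.inclusion le_sup_left x), hx⟩ = ι ⟨φ x, hom_mem E hφ x⟩ := by
      rw [h2, hg x]
      rfl
    exact congrArg Subtype.val (hinj h3)
  · ext z
    constructor
    · rintro ⟨y, hy, rfl⟩
      obtain ⟨hx, h2⟩ := hψι y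
      have hy' : ι ⟨y, hDS y.2⟩ ∈ imageAlong ι Z :=
        (ax_mem_imageAlong_iff hinj Z ⟨y, hDS y.2⟩).mpr (Subgroup.mem_subgroupOf.mp hy)
      have h3 : ι ⟨ψ y, hx⟩ ∈ imageAlong ι Z := by
        rw [h2]
        exact hZn.conj_mem _ hy' g
      exact (ax_mem_imageAlong_iff hinj Z ⟨ψ y, hx⟩).mp h3
    · intro hz
      have hzS : z ∈ S := hZS hz
      have hz' : ι ⟨z, hzS⟩ ∈ imageAlong ι Z := (ax_mem_imageAlong_iff hinj Z ⟨z, hzS⟩).mpr hz
      have h1 : g⁻¹ * ι ⟨z, hzS⟩ * g⁻¹⁻¹ ∈ imageAlong ι Z := hZn.conj_mem _ hz' g⁻¹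
      obtain ⟨s, hs⟩ := hZr h1
      have hsC : (s : Ω) ∈ Z := (ax_mem_imageAlong_iff hinj Z s).mp (by rw [hs]; exact h1)
      refine ⟨⟨s, le_sup_right (a := P) hsC⟩, Subgroup.mem_subgroupOf.mpr hsC, ?_⟩
      obtain ⟨hx, h2⟩ := hψι ⟨s, le_sup_right (a := P) hsC⟩
      have h3 : ι ⟨ψ ⟨s, le_sup_right (a := P) hsC⟩, hx⟩ = ι ⟨z, hzS⟩ := by
        rw [h2]
        have e : ι ⟨((⟨(s : Ω), le_sup_right (a := P) hsC⟩ : ↥(P ⊔ Z)) : Ω),
            hDS (le_sup_right (a := P) hsC)⟩ = ι s := rfl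
        rw [e, hs]
        group
      exact congrArg Subtype.val (hinj h3)

/-- A map of the system from `R` into `R` gives an automorphism in `Aut_F(R)`. -/
theorem ax_exists_aut_of_hom [Finite S] (F : FusionSystem S) {R : Subgroup Ω} {ψ : R →* Ω}
    (hψ : ψ ∈ F.Hom R) (h : ∀ x : R, ψ x ∈ R) :
    ∃ σ ∈ F.autGroup R, ∀ x : R, ((σ x : R) : Ω) = ψ x := by
  have hRS := hom_le F hψ
  have hfin : Finite R := finite_of_le hRS
  have hinj : Function.Injective (ψ.codRestrict R h) := by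
    intro a b hab
    exact F.injective_of_mem hψ (congrArg (fun z : R => (z : Ω)) hab)
  refine ⟨MulEquiv.ofBijective _ ⟨hinj, Finite.surjective_of_injective hinj⟩, ?_, fun x => rfl⟩
  rw [mem_autGroup_iff F hRS]
  exact hom_of_eq F hψ (fun x => rfl)

end AxMax

end Cfsg.Agent.Helper87
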