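import Cfsg.Agent.Helper87.AutSys
import Cfsg.Agent.Helper84.FusionAlperin

set_option autoImplicit false

namespace Cfsg.Agent.Helper87

open Cfsg Cfsg.FusionSystem

variable {Ω : Type*} [Group Ω] {S : Subgroup Ω}

/-- A map of the system from `R` into `R` is an automorphism in `Aut_F(R)`. -/
theorem exists_aut_of_hom [Finite S] (F : FusionSystem S) {R : Subgroup Ω} {ψ : R →* Ω} (hψ : ψ ∈ F.Hom R)
    (h : ∀ x : R, ψ x ∈ R) : ∃ σ ∈ F.autGroup R, ∀ x : R, ((σ x : R) : Ω) = ψ x := by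
  have hRS := hom_le F hψ
  have hfin : Finite R := finite_of_le hRS
  have hinj : Function.Injective (ψ.codRestrict R h) := by
    intro a b hab
    exact F.injective_of_mem hψ (congrArg (fun z : R => (z : Ω)) hab)
  refine ⟨MulEquiv.ofBijective _ ⟨hinj, Finite.surjective_of_injective hinj⟩, ?_, fun x => rfl⟩
  rw [mem_autGroup_iff F hRS]
  exact hom_of_eq F hψ (fun x => rfl)

theorem pCore_map_conj_mem {G : Type*} [Group G] {p : ℕ} [Fact p.Prime] (A : Subgroup G) {γ κ : G} (hγ : γ ∈ A)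
    (hκ : κ ∈ (pCore p A).map A.subtype) : γ * κ * γ⁻¹ ∈ (pCore p A).map A.subtype := by
  obtain ⟨k, hk, rfl⟩ := hκ
  obtain ⟨N, hN, hNp, hkN⟩ := mem_pCore_iff.mp hk
  exact ⟨⟨γ, hγ⟩ * k * ⟨γ, hγ⟩⁻¹, mem_pCore_iff.mpr ⟨N, hN, hNp, hN.conj_mem k hkN _⟩, rfl⟩

theorem pCore_map_le_autInducedBy [Finite S] {p : ℕ} [Fact p.Prime] (F : FusionSystem S) {R : Subgroup Ω}
    (hfa : F.IsFullyAutomized p R) :
    (pCore p (F.autGroup R)).map (F.autGroup R).subtype ≤ autInducedBy S R := by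
  obtain ⟨hRS, R₀, hR₀⟩ := hfa
  rintro _ ⟨k, hk, rfl⟩
  obtain ⟨N, hN, hNp, hkN⟩ := mem_pCore_iff.mp hk
  have h1 := hNp.le_sylow_of_normal R₀ hkN
  rw [hR₀, Subgroup.mem_subgroupOf] at h1
  exact h1

theorem inn_le_pCore_map [Finite S] {p : ℕ} [Fact p.Prime] (hS : IsPGroup p S) (F : FusionSystem S)
    {R : Subgroup Ω} (hRS : R ≤ S) :
    (MulAut.conj : R →* MulAut R).range ≤ (pCore p (F.autGroup R)).map (F.autGroup R).subtype := by
  intro κ hκ
  have hRp : IsPGroup p R := hS.to_le hRS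
  refine mem_pCore_map_of_normal_pgroup (F.autGroup R) (MulAut.conj : R →* MulAut R).range ?_ ?_ hκ
    (inn_le_autGroup F hRS hκ)
  · exact IsPGroup.of_surjective hRp (MulAut.conj : R →* MulAut R).rangeRestrict
      (MonoidHom.rangeRestrict_surjective _)
  · intro γ _ κ hκ
    have := inn_normal R
    exact this.conj_mem κ hκ γ

/-- The elements of `N_S(R)` inducing on `R` an element of `O_p(Aut_F(R))`. -/
def pCoreNormalizer (F : FusionSystem S) (p : ℕ) (R : Subgroup Ω) : Subgroup Ω :=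
  ((((pCore p (F.autGroup R)).map (F.autGroup R).subtype).comap R.normalizerMonoidHom).map
    (Subgroup.normalizer (R : Set Ω)).subtype) ⊓ S

theorem mem_pCoreNormalizer (F : FusionSystem S) (p : ℕ) (R : Subgroup Ω) (y : Ω) :
    y ∈ pCoreNormalizer F p R ↔ y ∈ S ∧ ∃ hy : y ∈ Subgroup.normalizer (R : Set Ω),
      R.normalizerMonoidHom ⟨y, hy⟩ ∈ (pCore p (F.autGroup R)).map (F.autGroup R).subtype := by
  unfold pCoreNormalizer
  constructor
  · rintro ⟨⟨t, ht, rfl⟩, hS⟩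
    exact ⟨hS, t.2, ht⟩
  · rintro ⟨hS, hy, h⟩
    exact ⟨⟨⟨y, hy⟩, h, rfl⟩, hS⟩

theorem le_pCoreNormalizer [Finite S] {p : ℕ} [Fact p.Prime] (hS : IsPGroup p S) (F : FusionSystem S)
    {R : Subgroup Ω} (hRS : R ≤ S) : R ≤ pCoreNormalizer F p R := by
  intro y hy
  rw [mem_pCoreNormalizer]
  refine ⟨hRS hy, Subgroup.le_normalizer hy, ?_⟩
  have e : R.normalizerMonoidHom ⟨y, Subgroup.le_normalizer hy⟩ = MulAut.conj (⟨y, hy⟩ : R) := by
    ext x
    rw [Subgroup.normalizerMonoidHom_apply_apply_coe]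
    rfl
  rw [e]
  exact inn_le_pCore_map hS F hRS ⟨⟨y, hy⟩, rfl⟩

/-- `ExtProp F Q R`: `Q ≤ R ≤ S` and every element of `Aut_F(Q)` extends to an element of `Aut_F(R)`. -/
def ExtProp (F : FusionSystem S) (Q R : Subgroup Ω) : Prop :=
  Q ≤ R ∧ R ≤ S ∧ ∀ α ∈ F.autGroup Q, ∃ ψ ∈ F.autGroup R,
    ∀ (x : Q) (hx : (x : Ω) ∈ R), ((ψ ⟨x, hx⟩ : R) : Ω) = α x

theorem extProp_pCoreNormalizer [Finite S] {p : ℕ} [Fact p.Prime] (hS : IsPGroup p S) (F : FusionSystem S)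
    {Q R : Subgroup Ω} (hfa : F.IsFullyAutomized p R) (hrec : F.IsReceptive R) (h : ExtProp F Q R) :
    ExtProp F Q (pCoreNormalizer F p R) := by
  obtain ⟨hQR, hRS, hext⟩ := h
  have hRfin : Finite R := finite_of_le hRS
  have hRle : R ≤ pCoreNormalizer F p R := le_pCoreNormalizer hS F hRS
  refine ⟨hQR.trans hRle, inf_le_right, fun α hα => ?_⟩
  obtain ⟨ψ, hψ, hψα⟩ := hext α hα
  have hφ : R.subtype.comp ψ.toMonoidHom ∈ F.Hom R := (mem_autGroup_iff F hRS ψ).mp hψ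
  obtain ⟨ψh, hψh, hψh'⟩ := hrec.2 R _ hφ (range_subtype_comp_aut R ψ)
  have hkey : ∀ y, y ∈ pCoreNormalizer F p R → ∃ hyN : y ∈ Subgroup.normalizer (R : Set Ω),
      ψ * R.normalizerMonoidHom ⟨y, hyN⟩ * ψ⁻¹ ∈ (pCore p (F.autGroup R)).map (F.autGroup R).subtype := by
    intro y hy
    obtain ⟨-, hyN, hyK⟩ := (mem_pCoreNormalizer F p R y).mp hy
    exact ⟨hyN, pCore_map_conj_mem _ hψ hyK⟩
  have hle : pCoreNormalizer F p R ≤ extender S R (R.subtype.comp ψ.toMonoidHom) := by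
    intro y hy
    obtain ⟨hyN, hyK⟩ := hkey y hy
    have hyS : y ∈ S := ((mem_pCoreNormalizer F p R y).mp hy).1
    obtain ⟨h, hh, hh'⟩ := (mem_autInducedBy_iff S R _).mp (pCore_map_le_autInducedBy F hfa hyK)
    rw [mem_extender_iff]
    refine ⟨hyS, hyN, h, hh, fun x hx => ?_⟩
    have h1 := hh' (ψ x)
    show ((ψ ⟨y * x * y⁻¹, hx⟩ : R) : Ω) = h * ((ψ x : R) : Ω) * h⁻¹
    rw [← h1]
    have h2 : (ψ * R.normalizerMonoidHom ⟨y, hyN⟩ * ψ⁻¹) (ψ x) = ψ (R.normalizerMonoidHom ⟨y, hyN⟩ x) := by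
      simp
    rw [h2]
    congr 2
  have hψt : ψh.comp (Subgroup.inclusion hle) ∈ F.Hom (pCoreNormalizer F p R) := hom_restrict F hψh hle
  have hψtR : ∀ x : R, ψh ⟨x, hle (hRle x.2)⟩ = ((ψ x : R) : Ω) := fun x => hψh' x x.2 _
  have hmem : ∀ y : pCoreNormalizer F p R, (ψh.comp (Subgroup.inclusion hle)) y ∈ pCoreNormalizer F p R := by
    intro y
    obtain ⟨hyN, hyK⟩ := hkey y y.2
    have hzS : ψh ⟨y, hle y.2⟩ ∈ S := hom_mem F hψh _
    have hconj : ∀ r : R, ψh ⟨y, hle y.2⟩ * (r : Ω) * (ψh ⟨y, hle y.2⟩)⁻¹ =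
        (((ψ * R.normalizerMonoidHom ⟨y, hyN⟩ * ψ⁻¹) r : R) : Ω) := by
      intro r
      obtain ⟨x, rfl⟩ := ψ.surjective r
      have h1 : (ψ * R.normalizerMonoidHom ⟨y, hyN⟩ * ψ⁻¹) (ψ x) = ψ (R.normalizerMonoidHom ⟨y, hyN⟩ x) := by
        simp
      rw [h1, ← hψtR, ← hψtR, ← map_inv, ← map_mul, ← map_mul]
      congr 1
    have hzN : ψh ⟨y, hle y.2⟩ ∈ Subgroup.normalizer (R : Set Ω) := by
      apply Subgroup.mem_normalizer_fintype
      intro n hn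
      have h3 := hconj ⟨n, hn⟩
      rw [h3]
      exact Subtype.property _
    show ψh ⟨y, hle y.2⟩ ∈ pCoreNormalizer F p R
    rw [mem_pCoreNormalizer]
    refine ⟨hzS, hzN, ?_⟩
    have e : R.normalizerMonoidHom ⟨ψh ⟨y, hle y.2⟩, hzN⟩ = ψ * R.normalizerMonoidHom ⟨y, hyN⟩ * ψ⁻¹ := by
      ext r
      rw [Subgroup.normalizerMonoidHom_apply_apply_coe]
      exact hconj r
    rw [e]; exact hyK
  obtain ⟨σ, hσ, hσ'⟩ := exists_aut_of_hom F hψt hmem
  refine ⟨σ, hσ, fun x hx => ?_⟩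
  rw [hσ']
  show ψh ⟨x, _⟩ = α x
  rw [← hψα x (hQR x.2)]
  exact hψtR ⟨x, hQR x.2⟩

theorem centric_radical_of_pCoreNormalizer_eq [Finite S] {p : ℕ} [Fact p.Prime] (hS : IsPGroup p S)
    (F : FusionSystem S) {R : Subgroup Ω} (hfa : F.IsFullyAutomized p R) (hrec : F.IsReceptive R)
    (h : pCoreNormalizer F p R = R) : F.IsFullyNormalized R ∧ F.IsCentric R ∧ F.IsRadical p R := by
  have hRS := hrec.1
  have hRfin : Finite R := finite_of_le hRS
  refine ⟨Helper84.fullyNormalized_of_automized_receptive hS F hfa hrec, ?_, hRS, ?_⟩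
  · apply Helper84.centric_of_centralizerIn_le F (Helper84.receptive_fullyCentralized F R hrec)
    intro y hy
    have hyN : y ∈ Subgroup.normalizer (R : Set Ω) := Subgroup.centralizer_le_normalizer _ hy.2
    have e : R.normalizerMonoidHom ⟨y, hyN⟩ = 1 := by
      ext x
      rw [Subgroup.normalizerMonoidHom_apply_apply_coe]
      have h1 := hy.2 x x.2
      show y * (x : Ω) * y⁻¹ = x
      rw [← h1, mul_inv_cancel_right]
    refine h.le ((mem_pCoreNormalizer F p R y).mpr ⟨hy.1, hyN, ?_⟩)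
    rw [e]; exact Subgroup.one_mem _
  · apply le_antisymm
    · intro κ hκ
      obtain ⟨g, hg, hg'⟩ := (mem_autInducedBy_iff S R κ).mp (pCore_map_le_autInducedBy F hfa hκ)
      have hgN : g ∈ Subgroup.normalizer (R : Set Ω) := by
        apply Subgroup.mem_normalizer_fintype
        intro n hn
        rw [← hg' ⟨n, hn⟩]; exact Subtype.property _
      have e : R.normalizerMonoidHom ⟨g, hgN⟩ = κ := by
        ext x
        rw [Subgroup.normalizerMonoidHom_apply_apply_coe, hg']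
      have hgR : g ∈ R := h.le ((mem_pCoreNormalizer F p R g).mpr ⟨hg, hgN, e ▸ hκ⟩)
      refine ⟨⟨g, hgR⟩, ?_⟩
      ext x
      rw [hg']; rfl
    · exact inn_le_pCore_map hS F hRS

theorem extProp_transport (F : FusionSystem S) {Q R : Subgroup Ω} (h : ExtProp F Q R) {θ : R →* Ω}
    (hθ : θ ∈ F.Hom R) : ∃ Q', F.IsConj Q Q' ∧ ExtProp F Q' θ.range := by
  obtain ⟨hQR, hRS, hext⟩ := h
  have hθQ : θ.comp (Subgroup.inclusion hQR) ∈ F.Hom Q := hom_restrict F hθ hQR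
  have hle : (θ.comp (Subgroup.inclusion hQR)).range ≤ θ.range := by
    rintro _ ⟨x, rfl⟩
    exact ⟨Subgroup.inclusion hQR x, rfl⟩
  refine ⟨(θ.comp (Subgroup.inclusion hQR)).range, ⟨_, hθQ, rfl⟩, hle, hom_range_le F hθ, fun α hα => ?_⟩
  have hα' := aut_transport_symm F hθQ hα
  obtain ⟨ψ, hψ, hψα⟩ := hext _ hα'
  refine ⟨MulAut.congr (MonoidHom.ofInjective (F.injective_of_mem hθ)) ψ, aut_transport F hθ hψ, fun y hy => ?_⟩
  obtain ⟨x, rfl⟩ := (MonoidHom.ofInjective (F.injective_of_mem hθQ)).surjective y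
  have h1 : (MonoidHom.ofInjective (F.injective_of_mem hθ)).symm
      ⟨((MonoidHom.ofInjective (F.injective_of_mem hθQ) x : (θ.comp (Subgroup.inclusion hQR)).range) : Ω), hy⟩ =
      ⟨x, hQR x.2⟩ := by
    rw [MulEquiv.symm_apply_eq]
    exact Subtype.ext rfl
  show ((MonoidHom.ofInjective (F.injective_of_mem hθ) (ψ ((MonoidHom.ofInjective (F.injective_of_mem hθ)).symm
    ⟨_, hy⟩)) : θ.range) : Ω) = _
  rw [h1]
  have h2 := hψα x (hQR x.2)
  have h3 : ψ ⟨x, hQR x.2⟩ = Subgroup.inclusion hQR ((MonoidHom.ofInjective (F.injective_of_mem hθQ)).symm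
      (α (MonoidHom.ofInjective (F.injective_of_mem hθQ) x))) := Subtype.ext h2
  rw [h3]
  have h4 : ∀ w : Q, ((MonoidHom.ofInjective (F.injective_of_mem hθ) (Subgroup.inclusion hQR w) : θ.range) : Ω) =
      ((MonoidHom.ofInjective (F.injective_of_mem hθQ) w : (θ.comp (Subgroup.inclusion hQR)).range) : Ω) :=
    fun w => rfl
  rw [h4, MulEquiv.apply_symm_apply]

theorem exists_max_extProp [Finite S] (F : FusionSystem S) {Q : Subgroup Ω} (hQ : Q ≤ S) :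
    ∃ Q' R', F.IsConj Q Q' ∧ ExtProp F Q' R' ∧
      ∀ Q₂ R₂, F.IsConj Q Q₂ → ExtProp F Q₂ R₂ → Nat.card R₂ ≤ Nat.card R' := by
  have key : ∀ (n : ℕ) (Q' R' : Subgroup Ω), F.IsConj Q Q' → ExtProp F Q' R' → Nat.card S - Nat.card R' = n →
      ∃ Q' R', F.IsConj Q Q' ∧ ExtProp F Q' R' ∧
        ∀ Q₂ R₂, F.IsConj Q Q₂ → ExtProp F Q₂ R₂ → Nat.card R₂ ≤ Nat.card R' := by
    intro n
    induction n using Nat.strong_induction_on with
    | _ n ih =>
      intro Q' R' hc he hn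
      by_cases hmax : ∀ Q₂ R₂, F.IsConj Q Q₂ → ExtProp F Q₂ R₂ → Nat.card R₂ ≤ Nat.card R'
      · exact ⟨Q', R', hc, he, hmax⟩
      · push Not at hmax
        obtain ⟨Q₂, R₂, hc₂, he₂, hlt⟩ := hmax
        have hR₂S : Nat.card R₂ ≤ Nat.card S := card_le_card_S he₂.2.1
        exact ih (Nat.card S - Nat.card R₂) (by omega) Q₂ R₂ hc₂ he₂ rfl
  exact key _ Q Q ⟨Q.subtype, subtype_mem F hQ, Subgroup.range_subtype Q⟩
    ⟨le_rfl, hQ, fun α hα => ⟨α, hα, fun x hx => rfl⟩⟩ rfl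

end Cfsg.Agent.Helper87
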