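import Mathlib
import Cfsg.Agent.Helper87.PStable
import Cfsg.Prelude.Def_OddOrderLocal
import Cfsg.Prelude.Def_PLocal

/-! Structure of metacyclic p-groups, p odd (helper87). -/

set_option autoImplicit false

namespace Cfsg.Agent.Helper87

open scoped commutatorElement

theorem pow_prime_pow_modEq_self {p : ℕ} [Fact p.Prime] (r k : ℕ) : r ^ (p ^ k) ≡ r [MOD p] := by
  induction k with
  | zero => simp [Nat.ModEq.refl]
  | succ k ih =>
    have h1 : r ^ (p ^ (k + 1)) = (r ^ (p ^ k)) ^ p := by rw [pow_succ, pow_mul]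
    rw [h1]
    have h2 : (r ^ (p ^ k)) ^ p ≡ r ^ (p ^ k) [MOD p] := by
      rw [← ZMod.natCast_eq_natCast_iff]
      push_cast
      exact ZMod.pow_card _
    exact h2.trans ih

theorem modEq_one_of_pow_prime {p m r : ℕ} [Fact p.Prime] (hp : p ≠ 2) (hm : 1 ≤ m)
    (h : r ^ p ≡ 1 [MOD p ^ m]) : r ≡ 1 [MOD p ^ (m - 1)] := by
  have hpp : p.Prime := Fact.out
  have hodd : Odd p := hpp.odd_of_ne_two hp
  have h1 : r ^ p ≡ 1 [MOD p] := Nat.ModEq.of_dvd (dvd_pow_self p (by omega)) h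
  have h2 : r ≡ 1 [MOD p] := by
    have h3 := pow_prime_pow_modEq_self (p := p) r 1
    rw [pow_one] at h3
    exact h3.symm.trans h1
  rcases Nat.lt_or_ge r 2 with hr | hr
  · interval_cases r
    · exfalso
      have : p ∣ 1 := by
        have := (Nat.modEq_iff_dvd' (n := p) (Nat.zero_le 1)).mp h2
        simpa using this
      exact hpp.one_lt.ne' (Nat.dvd_one.mp this)
    · exact Nat.ModEq.refl _
  · have hdvd : p ∣ r - 1 := (Nat.modEq_iff_dvd' (by omega)).mp h2.symm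
    have hnd : ¬ p ∣ r := by
      intro hd
      have h4 : p ∣ 1 := by
        have h5 : p ∣ r - (r - 1) := Nat.dvd_sub hd hdvd
        have h6 : r - (r - 1) = 1 := by omega
        rwa [h6] at h5
      exact hpp.one_lt.ne' (Nat.dvd_one.mp h4)
    have hval := padicValNat.pow_sub_pow (p := p) hodd (show 1 < r by omega) hdvd hnd (n := p) hpp.ne_zero
    rw [one_pow, padicValNat_self] at hval
    have hpos : 1 ≤ r ^ p := Nat.one_le_pow _ _ (by omega)
    have hdvd2 : p ^ m ∣ r ^ p - 1 := (Nat.modEq_iff_dvd' hpos).mp h.symm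
    have hne : r ^ p - 1 ≠ 0 := by
      have : 2 ^ 1 ≤ r ^ p := (Nat.pow_le_pow_left hr 1).trans (Nat.pow_le_pow_right (by omega) hpp.one_lt.le)
      omega
    have hle := (padicValNat_dvd_iff_le (p := p) hne).mp hdvd2
    rw [hval] at hle
    have hne2 : r - 1 ≠ 0 := by omega
    have hdvd3 : p ^ (m - 1) ∣ r - 1 := (padicValNat_dvd_iff_le (p := p) hne2).mpr (by omega)
    exact ((Nat.modEq_iff_dvd' (by omega)).mpr hdvd3).symm


section
variable {G : Type*} [Group G]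

theorem conj_pow_iter (x a : G) (r : ℕ) (h : x * a * x⁻¹ = a ^ r) (k : ℕ) :
    x ^ k * a * (x ^ k)⁻¹ = a ^ (r ^ k) := by
  induction k with
  | zero => simp
  | succ k ih =>
    have h1 : x ^ (k + 1) * a * (x ^ (k + 1))⁻¹ = x * (x ^ k * a * (x ^ k)⁻¹) * x⁻¹ := by
      rw [pow_succ']; group
    rw [h1, ih, ← conj_pow, h, ← pow_mul, pow_succ, mul_comm]

/-- A generator of a cyclic normal subgroup of a finite `p`-group, with the exponent by which each
element acts. -/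
theorem exists_cyclic_gen [Finite G] {p : ℕ} [Fact p.Prime] (hG : IsPGroup p G) (N : Subgroup G) [N.Normal]
    (hN : IsCyclic N) :
    ∃ (a : G) (m : ℕ), a ∈ N ∧ orderOf a = p ^ m ∧ (∀ n ∈ N, ∃ k : ℕ, n = a ^ k) ∧
      ∀ x : G, ∃ r : ℕ, x * a * x⁻¹ = a ^ r := by
  obtain ⟨g, hg⟩ := hN.exists_generator
  have hfin : Finite (Subgroup.zpowers (g : G)) := inferInstance
  have hmem : ∀ n ∈ N, ∃ k : ℕ, n = (g : G) ^ k := by
    intro n hn
    have h1 := hg ⟨n, hn⟩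
    obtain ⟨k, hk⟩ := Subgroup.mem_zpowers_iff.mp h1
    have h2 : n ∈ Subgroup.zpowers (g : G) := by
      refine Subgroup.mem_zpowers_iff.mpr ⟨k, ?_⟩
      have := congrArg (fun z : N => (z : G)) hk
      simpa using this
    have h3 := (mem_powers_iff_mem_zpowers (G := G)).mpr h2
    obtain ⟨j, hj⟩ := h3
    exact ⟨j, hj.symm⟩
  obtain ⟨m, hm⟩ := (IsPGroup.iff_orderOf.mp hG) (g : G)
  refine ⟨g, m, g.2, hm, hmem, fun x => ?_⟩
  have h1 : x * (g : G) * x⁻¹ ∈ N := Subgroup.Normal.conj_mem inferInstance _ g.2 x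
  obtain ⟨r, hr⟩ := hmem _ h1
  exact ⟨r, hr⟩


theorem comm_pow_eq_one_of_pow_mem [Finite G] {p : ℕ} [Fact p.Prime] (hp : p ≠ 2) (hG : IsPGroup p G)
    (N : Subgroup G) [N.Normal] (hN : IsCyclic N) (x : G) (hx : x ^ p ∈ N) (n : G) (hn : n ∈ N) :
    (x * n * x⁻¹ * n⁻¹) ^ p = 1 := by
  obtain ⟨a, m, haN, hord, hgen, hact⟩ := exists_cyclic_gen hG N hN
  obtain ⟨r, hr⟩ := hact x
  obtain ⟨k, rfl⟩ := hgen n hn
  have h1 : x * a ^ k * x⁻¹ = a ^ (r * k) := by rw [← conj_pow, hr, ← pow_mul]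
  obtain ⟨j, hj⟩ := hgen _ hx
  have h2 : x ^ p * a * (x ^ p)⁻¹ = a := by
    rw [hj]
    have hc : Commute (a ^ j) a := (Commute.refl a).pow_left j
    rw [hc.eq, mul_inv_cancel_right]
  have h3 := conj_pow_iter x a r hr p
  rw [h2] at h3
  have h4 : r ^ p ≡ 1 [MOD p ^ m] := by
    rw [← hord]
    exact pow_eq_pow_iff_modEq.mp (by rw [pow_one]; exact h3.symm)
  rw [h1]
  have hcomm : Commute (a ^ (r * k)) ((a ^ k)⁻¹) := ((Commute.refl a).pow_pow _ _).inv_right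
  rw [hcomm.mul_pow, inv_pow, ← pow_mul, ← pow_mul, mul_inv_eq_one, pow_eq_pow_iff_modEq, hord]
  rcases Nat.eq_zero_or_pos m with hm0 | hmpos
  · subst hm0
    simp [Nat.modEq_one]
  · have h5 := modEq_one_of_pow_prime hp hmpos h4
    have h6 : p * r ≡ p * 1 [MOD p * p ^ (m - 1)] := Nat.ModEq.mul_left' p h5
    have h7 : p * p ^ (m - 1) = p ^ m := by
      rw [← pow_succ']; congr 1; omega
    rw [h7] at h6
    have h8 := h6.mul_left k
    calc r * k * p = k * (p * r) := by ring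
      _ ≡ k * (p * 1) [MOD p ^ m] := h8
      _ = k * p := by ring

theorem conj_eq_of_pow_eq_one [Finite G] {p : ℕ} [Fact p.Prime] (hG : IsPGroup p G) (N : Subgroup G)
    [N.Normal] (hN : IsCyclic N) (x w : G) (hw : w ∈ N) (hwp : w ^ p = 1) : x * w * x⁻¹ = w := by
  have hpp : p.Prime := Fact.out
  obtain ⟨a, m, haN, hord, hgen, hact⟩ := exists_cyclic_gen hG N hN
  obtain ⟨r, hr⟩ := hact x
  obtain ⟨j, rfl⟩ := hgen w hw
  rw [← conj_pow, hr, ← pow_mul, pow_eq_pow_iff_modEq, hord]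
  rcases Nat.eq_zero_or_pos m with hm0 | hmpos
  · subst hm0
    simp [Nat.modEq_one]
  · obtain ⟨k, hk⟩ := (IsPGroup.iff_orderOf.mp hG) x
    have hx1 : x ^ (p ^ k) = 1 := by rw [← hk]; exact pow_orderOf_eq_one x
    have h1 := conj_pow_iter x a r hr (p ^ k)
    rw [hx1, one_mul, inv_one, mul_one] at h1
    have h2 : r ^ (p ^ k) ≡ 1 [MOD p ^ m] := by
      rw [← hord]
      exact pow_eq_pow_iff_modEq.mp (by rw [pow_one]; exact h1.symm)
    have h3 : r ^ (p ^ k) ≡ 1 [MOD p] := Nat.ModEq.of_dvd (dvd_pow_self p (by omega)) h2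
    have h4 : r ≡ 1 [MOD p] := (pow_prime_pow_modEq_self r k).symm.trans h3
    have h5 : p ^ m ∣ j * p := by
      rw [← hord]
      exact orderOf_dvd_of_pow_eq_one (by rw [pow_mul]; exact hwp)
    have h7 : p ^ (m - 1) * p = p ^ m := by
      rw [← pow_succ]; congr 1; omega
    have h6 : p ^ (m - 1) ∣ j := by
      rw [← h7] at h5
      exact Nat.dvd_of_mul_dvd_mul_right hpp.pos h5
    obtain ⟨j', rfl⟩ := h6
    have h8 : p ^ (m - 1) * r ≡ p ^ (m - 1) * 1 [MOD p ^ (m - 1) * p] := Nat.ModEq.mul_left' _ h4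
    rw [h7] at h8
    calc r * (p ^ (m - 1) * j') = j' * (p ^ (m - 1) * r) := by ring
      _ ≡ j' * (p ^ (m - 1) * 1) [MOD p ^ m] := h8.mul_left j'
      _ = p ^ (m - 1) * j' := by ring

/-- In a finite cyclic group a subgroup of exponent dividing `n` has at most `n` elements. -/
theorem card_le_of_forall_pow_eq_one {C : Type*} [Group C] [Finite C] [IsCyclic C] (H : Subgroup C) {n : ℕ}
    (hn : 0 < n) (h : ∀ x ∈ H, x ^ n = 1) : Nat.card H ≤ n := by
  classical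
  have := Fintype.ofFinite C
  have h1 := IsCyclic.card_pow_eq_one_le (α := C) hn
  have h2 : Nat.card H ≤ (Finset.univ.filter (fun a : C => a ^ n = 1)).card := by
    rw [← Nat.card_eq_finsetCard]
    exact Nat.card_le_card_of_injective (fun x : H => (⟨x.1, by simp [h x.1 x.2]⟩ :
      (Finset.univ.filter (fun a : C => a ^ n = 1)))) (by
        intro a b hab
        exact Subtype.ext (congrArg (fun z : (Finset.univ.filter (fun a : C => a ^ n = 1)) => (z : C)) hab))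
  exact h2.trans h1


theorem mul_comm_of_isCyclic {C : Type*} [Group C] [IsCyclic C] (a b : C) : a * b = b * a := by
  letI := IsCyclic.commGroup (α := C)
  exact mul_comm a b

theorem mem_zpowers_of_pow_eq_one {C : Type*} [Group C] [Finite C] [IsCyclic C] {p : ℕ} [Fact p.Prime]
    (u v : C) (hu : u ^ p = 1) (hv : v ^ p = 1) (hv1 : v ≠ 1) : u ∈ Subgroup.zpowers v := by
  have hpp : p.Prime := Fact.out
  let T : Subgroup C :=
    { carrier := {x | x ^ p = 1}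
      mul_mem' := fun {a b} ha hb => by
        show (a * b) ^ p = 1
        have hc : Commute a b := mul_comm_of_isCyclic a b
        rw [hc.mul_pow, ha, hb, one_mul]
      one_mem' := one_pow p
      inv_mem' := fun {a} ha => by
        show (a⁻¹) ^ p = 1
        rw [inv_pow, ha, inv_one] }
  have hT : Nat.card T ≤ p := card_le_of_forall_pow_eq_one T hpp.pos (fun x hx => hx)
  have hle : Subgroup.zpowers v ≤ T := by
    rw [Subgroup.zpowers_le]; exact hv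
  have hord : orderOf v = p := by
    have h1 : orderOf v ∣ p := orderOf_dvd_of_pow_eq_one hv
    rcases (Nat.dvd_prime hpp).mp h1 with h2 | h2
    · exact absurd (orderOf_eq_one_iff.mp h2) hv1
    · exact h2
  have heq : Subgroup.zpowers v = T := by
    apply Subgroup.eq_of_le_of_card_ge hle
    rw [Nat.card_zpowers, hord]; exact hT
  rw [heq]
  exact hu

theorem comm_mem_of_isCyclic_quotient (N : Subgroup G) [N.Normal] (hQ : IsCyclic (G ⧸ N)) (x y : G) :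
    x * y * x⁻¹ * y⁻¹ ∈ N := by
  rw [← QuotientGroup.eq_one_iff]
  simp only [QuotientGroup.mk_mul, QuotientGroup.mk_inv]
  rw [mul_comm_of_isCyclic (x : G ⧸ N) (y : G ⧸ N)]
  simp

theorem comm_pow_eq_one_of_mem [Finite G] {p : ℕ} [Fact p.Prime] (hp : p ≠ 2) (hG : IsPGroup p G)
    (N : Subgroup G) [N.Normal] (hN : IsCyclic N) (n v : G) (hn : n ∈ N) (hv : v ^ p ∈ N) :
    (n * v * n⁻¹ * v⁻¹) ^ p = 1 := by
  have h1 := comm_pow_eq_one_of_pow_mem hp hG N hN v hv n⁻¹ (N.inv_mem hn)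
  have h2 : n * v * n⁻¹ * v⁻¹ = n * (v * n⁻¹ * v⁻¹ * n⁻¹⁻¹) * n⁻¹ := by group
  rw [h2, conj_pow, h1, mul_one, mul_inv_cancel]

theorem comm_pow_eq_one_of_pow_mem_pow_mem [Finite G] {p : ℕ} [Fact p.Prime] (hp : p ≠ 2) (hG : IsPGroup p G)
    (N : Subgroup G) [N.Normal] (hN : IsCyclic N) (hQ : IsCyclic (G ⧸ N)) (u v : G) (hu : u ^ p ∈ N)
    (hv : v ^ p ∈ N) : (u * v * u⁻¹ * v⁻¹) ^ p = 1 := by
  by_cases hvN : v ∈ N
  · exact comm_pow_eq_one_of_pow_mem hp hG N hN u hu v hvN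
  by_cases huN : u ∈ N
  · exact comm_pow_eq_one_of_mem hp hG N hN u v huN hv
  have h1 : (u : G ⧸ N) ∈ Subgroup.zpowers (v : G ⧸ N) := by
    apply mem_zpowers_of_pow_eq_one (p := p)
    · rw [← QuotientGroup.mk_pow]; exact (QuotientGroup.eq_one_iff _).mpr hu
    · rw [← QuotientGroup.mk_pow]; exact (QuotientGroup.eq_one_iff _).mpr hv
    · intro h; exact hvN ((QuotientGroup.eq_one_iff _).mp h)
  obtain ⟨k, hk⟩ := Subgroup.mem_zpowers_iff.mp h1
  have hn : v ^ (-k) * u ∈ N := by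
    rw [← QuotientGroup.eq_one_iff]
    simp only [QuotientGroup.mk_mul, QuotientGroup.mk_zpow]
    rw [← hk, ← zpow_add]
    simp
  have h2 : u * v * u⁻¹ * v⁻¹ = v ^ k * ((v ^ (-k) * u) * v * (v ^ (-k) * u)⁻¹ * v⁻¹) * (v ^ k)⁻¹ := by group
  rw [h2, conj_pow, comm_pow_eq_one_of_mem hp hG N hN _ v hn hv, mul_one, mul_inv_cancel]

theorem mul_pow_prime_eq_one [Finite G] {p : ℕ} [Fact p.Prime] (hp : p ≠ 2) (hG : IsPGroup p G)
    (N : Subgroup G) [N.Normal] (hN : IsCyclic N) (hQ : IsCyclic (G ⧸ N)) (x y : G) (hx : x ^ p = 1)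
    (hy : y ^ p = 1) : (x * y) ^ p = 1 := by
  have hpp : p.Prime := Fact.out
  have hc : ⁅y, x⁆ ^ p = 1 := by
    rw [commutatorElement_def]
    exact comm_pow_eq_one_of_pow_mem_pow_mem hp hG N hN hQ y x (by rw [hy]; exact N.one_mem)
      (by rw [hx]; exact N.one_mem)
  have hcN : ⁅y, x⁆ ∈ N := by
    rw [commutatorElement_def]
    exact comm_mem_of_isCyclic_quotient N hQ y x
  have hcx : Commute ⁅y, x⁆ x := by
    have h1 := conj_eq_of_pow_eq_one hG N hN x ⁅y, x⁆ hcN hc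
    show ⁅y, x⁆ * x = x * ⁅y, x⁆
    nth_rewrite 1 [← h1]
    group
  have hcy : Commute ⁅y, x⁆ y := by
    have h1 := conj_eq_of_pow_eq_one hG N hN y ⁅y, x⁆ hcN hc
    show ⁅y, x⁆ * y = y * ⁅y, x⁆
    nth_rewrite 1 [← h1]
    group
  rw [mul_pow_class_two x y hcx hcy p, hx, hy, one_mul, one_mul]
  have h2 : 2 < p := by
    have := hpp.two_le
    omega
  obtain ⟨k, hk⟩ : p ∣ p.choose 2 := hpp.dvd_choose_self (by norm_num) h2
  rw [hk, pow_mul, hc, one_pow]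


theorem card_omega_le [Finite G] {p : ℕ} [Fact p.Prime] (N : Subgroup G) [N.Normal] (hN : IsCyclic N)
    (hQ : IsCyclic (G ⧸ N)) (Vg : Subgroup G) (hV : ∀ x ∈ Vg, x ^ p = 1) : Nat.card Vg ≤ p ^ 2 := by
  have hpp : p.Prime := Fact.out
  let f : Vg →* G ⧸ N := (QuotientGroup.mk' N).comp Vg.subtype
  have h1 : Nat.card f.ker * Nat.card f.range = Nat.card Vg := by
    rw [← Subgroup.index_ker]; exact Subgroup.card_mul_index f.ker
  have h2 : Nat.card f.range ≤ p := by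
    apply card_le_of_forall_pow_eq_one f.range hpp.pos
    rintro _ ⟨v, rfl⟩
    show ((QuotientGroup.mk' N) (v : G)) ^ p = 1
    rw [← map_pow, hV v v.2, map_one]
  have h3 : Nat.card f.ker ≤ Nat.card (Vg.subgroupOf N) := by
    have hmem : ∀ x : f.ker, ((x : Vg) : G) ∈ N := by
      intro x
      have := x.2
      rw [MonoidHom.mem_ker] at this
      exact (QuotientGroup.eq_one_iff _).mp this
    exact Nat.card_le_card_of_injective (fun x : f.ker => (⟨⟨((x : Vg) : G), hmem x⟩,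
      Subgroup.mem_subgroupOf.mpr (x : Vg).2⟩ : Vg.subgroupOf N)) (by
        intro a b hab
        have := congrArg (fun z : Vg.subgroupOf N => ((z : N) : G)) hab
        exact Subtype.ext (Subtype.ext this))
  have h4 : Nat.card (Vg.subgroupOf N) ≤ p := by
    apply card_le_of_forall_pow_eq_one (Vg.subgroupOf N) hpp.pos
    intro x hx
    apply Subtype.ext
    rw [Subgroup.coe_pow]
    exact hV _ (Subgroup.mem_subgroupOf.mp hx)
  calc Nat.card Vg = Nat.card f.ker * Nat.card f.range := h1.symm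
    _ ≤ p * p := Nat.mul_le_mul (h3.trans h4) h2
    _ = p ^ 2 := by ring

theorem exists_product_form [Finite G] (N : Subgroup G) [N.Normal] (hN : IsCyclic N)
    (hQ : IsCyclic (G ⧸ N)) (M : Subgroup G) :
    ∃ a ∈ M, ∃ b ∈ M, ∀ m ∈ M, ∃ i j : ℕ, m = b ^ j * a ^ i := by
  have hcyc1 : IsCyclic ↥(M ⊓ N) := Subgroup.isCyclic_of_le (inf_le_right : M ⊓ N ≤ N)
  obtain ⟨g, hg⟩ := hcyc1.exists_generator
  obtain ⟨gq, hgq⟩ := (inferInstance : IsCyclic ↥(M.map (QuotientGroup.mk' N))).exists_generator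
  obtain ⟨b, hbM, hb⟩ := gq.2
  refine ⟨g, g.2.1, b, hbM, fun m hm => ?_⟩
  have h1 := hgq ⟨QuotientGroup.mk' N m, ⟨m, hm, rfl⟩⟩
  obtain ⟨k, hk⟩ := Subgroup.mem_zpowers_iff.mp h1
  have hk' : (QuotientGroup.mk' N b) ^ k = QuotientGroup.mk' N m := by
    have := congrArg (fun z : M.map (QuotientGroup.mk' N) => (z : G ⧸ N)) hk
    simpa [hb] using this
  have hn : b ^ (-k) * m ∈ M ⊓ N := by
    refine ⟨M.mul_mem (M.zpow_mem hbM _) hm, ?_⟩
    show b ^ (-k) * m ∈ N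
    rw [← QuotientGroup.eq_one_iff]
    have h2 : ((b ^ (-k) * m : G) : G ⧸ N) = (QuotientGroup.mk' N b) ^ (-k) * QuotientGroup.mk' N m := by
      simp
    rw [h2, ← hk', ← zpow_add]
    simp
  have h3 := hg ⟨_, hn⟩
  obtain ⟨l, hl⟩ := Subgroup.mem_zpowers_iff.mp h3
  have hl' : (g : G) ^ l = b ^ (-k) * m := by
    have := congrArg (fun z : ↥(M ⊓ N) => (z : G)) hl
    simpa using this
  have h4 : b ^ k ∈ Submonoid.powers b :=
    (mem_powers_iff_mem_zpowers (G := G)).mpr (Subgroup.zpow_mem_zpowers b k)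
  have h5 : (g : G) ^ l ∈ Submonoid.powers (g : G) :=
    (mem_powers_iff_mem_zpowers (G := G)).mpr (Subgroup.zpow_mem_zpowers _ l)
  obtain ⟨j, hj⟩ := h4
  obtain ⟨i, hi⟩ := h5
  have hj' : b ^ j = b ^ k := hj
  have hi' : (g : G) ^ i = (g : G) ^ l := hi
  refine ⟨i, j, ?_⟩
  show m = b ^ j * (g : G) ^ i
  rw [hj', hi', hl']
  group

end

theorem metacyclic_odd_structure {Ω : Type*} [Group Ω] {p : ℕ} [Fact p.Prime] (hp : p ≠ 2) (P : Subgroup Ω)
    [Finite P] (hP : IsPGroup p P) (hm : Cfsg.IsMetacyclic ↥P) :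
    ∃ A W : Subgroup Ω, (∀ x, x ∈ Cfsg.omegaOne p P ↔ x ∈ P ∧ x ^ p = 1) ∧
      Nat.card (Cfsg.omegaOne p P) ≤ p ^ 2 ∧ Nat.card W ≤ p ∧
      (∀ z, z ∈ W ↔ z ∈ A ∧ z ^ p = 1) ∧ A ≤ P ∧
      (∀ x ∈ P, ∀ y ∈ P, x * y * x⁻¹ * y⁻¹ ∈ A) ∧
      (∀ w ∈ W, ∀ g ∈ P, g * w * g⁻¹ = w) ∧
      (∀ v ∈ Cfsg.omegaOne p P, ∀ g ∈ P, g * v * g⁻¹ * v⁻¹ ∈ W) ∧
      (∀ M : Subgroup Ω, M ≤ P → ∃ a ∈ M, ∃ b ∈ M, ∀ m ∈ M, ∃ i j : ℕ, m = b ^ j * a ^ i) := by
  have hpp : p.Prime := Fact.out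
  obtain ⟨N, hNn, hNc, hQc⟩ := hm
  let Vg : Subgroup P :=
    { carrier := {x | x ^ p = 1}
      mul_mem' := fun {a b} ha hb => mul_pow_prime_eq_one hp hP N hNc hQc a b ha hb
      one_mem' := one_pow p
      inv_mem' := fun {a} ha => by
        show (a⁻¹) ^ p = 1
        rw [inv_pow, ha, inv_one] }
  have hVmem : ∀ x : P, x ∈ Vg ↔ x ^ p = 1 := fun x => Iff.rfl
  have hset : {x : Ω | x ∈ P ∧ x ^ p = 1} = ((Vg.map P.subtype : Subgroup Ω) : Set Ω) := by
    ext x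
    constructor
    · rintro ⟨hx, hxp⟩
      exact ⟨⟨x, hx⟩, Subtype.ext hxp, rfl⟩
    · rintro ⟨y, hy, rfl⟩
      exact ⟨y.2, by
        have := congrArg (fun z : P => (z : Ω)) ((hVmem y).mp hy)
        simpa using this⟩
  have hVeq : Cfsg.omegaOne p P = Vg.map P.subtype := by
    unfold Cfsg.omegaOne
    rw [hset, Subgroup.closure_eq]
  have hV1 : ∀ x, x ∈ Cfsg.omegaOne p P ↔ x ∈ P ∧ x ^ p = 1 := by
    intro x
    rw [hVeq, ← SetLike.mem_coe, ← hset]
    rfl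
  have hW1 : ∀ z : Ω, z ∈ (Vg ⊓ N).map P.subtype ↔ z ∈ N.map P.subtype ∧ z ^ p = 1 := by
    intro z
    constructor
    · rintro ⟨y, ⟨hy1, hy2⟩, rfl⟩
      exact ⟨⟨y, hy2, rfl⟩, by
        have := congrArg (fun z : P => (z : Ω)) ((hVmem y).mp hy1)
        simpa using this⟩
    · rintro ⟨⟨y, hy, rfl⟩, hz⟩
      exact ⟨y, ⟨(hVmem y).mpr (Subtype.ext hz), hy⟩, rfl⟩
  refine ⟨N.map P.subtype, (Vg ⊓ N).map P.subtype, hV1, ?_, ?_, hW1, ?_, ?_, ?_, ?_, ?_⟩
  · rw [hVeq, Subgroup.card_map_of_injective P.subtype_injective]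
    exact card_omega_le N hNc hQc Vg (fun x hx => hx)
  · rw [Subgroup.card_map_of_injective P.subtype_injective]
    have h1 : Nat.card ((Vg ⊓ N).subgroupOf N) ≤ p := by
      apply card_le_of_forall_pow_eq_one _ hpp.pos
      intro x hx
      apply Subtype.ext
      rw [Subgroup.coe_pow]
      exact (Subgroup.mem_subgroupOf.mp hx).1
    rwa [Nat.card_congr (Subgroup.subgroupOfEquivOfLe (inf_le_right : Vg ⊓ N ≤ N)).toEquiv] at h1
  · rintro _ ⟨y, -, rfl⟩
    exact y.2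
  · intro x hx y hy
    exact ⟨⟨x, hx⟩ * ⟨y, hy⟩ * ⟨x, hx⟩⁻¹ * ⟨y, hy⟩⁻¹,
      comm_mem_of_isCyclic_quotient N hQc _ _, rfl⟩
  · rintro _ ⟨w, ⟨hw1, hw2⟩, rfl⟩ g hg
    have h1 := conj_eq_of_pow_eq_one hP N hNc ⟨g, hg⟩ w hw2 hw1
    have := congrArg (fun z : P => (z : Ω)) h1
    simpa using this
  · intro v hv g hg
    rw [hVeq] at hv
    obtain ⟨v', hv', rfl⟩ := hv
    refine ⟨⟨g, hg⟩ * v' * ⟨g, hg⟩⁻¹ * v'⁻¹, ⟨?_, comm_mem_of_isCyclic_quotient N hQc _ _⟩, rfl⟩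
    refine (hVmem _).mpr ?_
    apply mul_pow_prime_eq_one hp hP N hNc hQc
    · rw [conj_pow, (hVmem v').mp hv', mul_one, mul_inv_cancel]
    · rw [inv_pow, (hVmem v').mp hv', inv_one]
  · intro M hMP
    obtain ⟨a, ha, b, hb, hab⟩ := exists_product_form N hNc hQc (M.subgroupOf P)
    refine ⟨a, Subgroup.mem_subgroupOf.mp ha, b, Subgroup.mem_subgroupOf.mp hb, fun m hm => ?_⟩
    obtain ⟨i, j, hij⟩ := hab ⟨m, hMP hm⟩ (Subgroup.mem_subgroupOf.mpr hm)
    refine ⟨i, j, ?_⟩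
    have := congrArg (fun z : P => (z : Ω)) hij
    simpa using this

end Cfsg.Agent.Helper87
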