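import Mathlib
import Cfsg.Agent.Helper87.Metacyclic

/-! Group theory for the metacyclic strongly closed subgroup theorem (helper87). -/

set_option autoImplicit false

namespace Cfsg.Agent.Helper87

section
variable {G : Type*} [Group G] {p : ℕ} [Fact p.Prime]

/-- If `W < V` have orders `p`, `p²`, a subgroup containing `W` and an element of `V \ W` contains `V`. -/
theorem le_of_card_sq (V W H : Subgroup G) [Finite V] (hV : Nat.card V = p ^ 2) (hW : Nat.card W = p)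
    (hWV : W ≤ V) (hWH : W ≤ H) (x : G) (hxV : x ∈ V) (hxH : x ∈ H) (hxW : x ∉ W) : V ≤ H := by
  have hpp : p.Prime := Fact.out
  have h1 : Nat.card ↥(H ⊓ V) ∣ p ^ 2 := by
    rw [← hV]; exact Subgroup.card_dvd_of_le inf_le_right
  obtain ⟨m, hm, hm'⟩ := (Nat.dvd_prime_pow hpp).mp h1
  have hWHV : W ≤ H ⊓ V := le_inf hWH hWV
  have hfin : Finite ↥(H ⊓ V) :=
    Finite.of_injective (Subgroup.inclusion (inf_le_right : H ⊓ V ≤ V)) (Subgroup.inclusion_injective _)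
  have h2 : ¬ Nat.card ↥(H ⊓ V) ≤ Nat.card W := by
    intro hle
    have := Subgroup.eq_of_le_of_card_ge hWHV hle
    exact hxW (this ▸ ⟨hxH, hxV⟩)
  have h3 : m = 2 := by
    rw [hm', hW] at h2
    interval_cases m
    · exact absurd (by simpa using hpp.one_lt.le) h2
    · exact absurd (by simp) h2
    · rfl
  have h4 : H ⊓ V = V := Subgroup.eq_of_le_of_card_ge inf_le_right (by rw [hm', h3, hV])
  exact h4 ▸ inf_le_left

/-- In a group of prime order every element is a power of any nontrivial element. -/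
theorem exists_pow_eq_of_card_prime (W : Subgroup G) (hW : Nat.card W = p) (c : G) (hc : c ∈ W) (hc1 : c ≠ 1)
    (w : G) (hw : w ∈ W) : ∃ y : ℕ, c ^ y = w := by
  have h := mem_powers_of_prime_card (G := W) hW (g := ⟨c, hc⟩) (g' := ⟨w, hw⟩)
    (fun h => hc1 (congrArg Subtype.val h))
  obtain ⟨y, hy⟩ := h
  exact ⟨y, congrArg Subtype.val hy⟩

/-- Two subgroups of order `p` sharing a nontrivial element coincide. -/
theorem eq_of_card_prime_of_mem (L W : Subgroup G) [Finite W] (hL : Nat.card L = p) (hW : Nat.card W = p) (c : G)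
    (hcL : c ∈ L) (hcW : c ∈ W) (hc1 : c ≠ 1) : L = W := by
  have hle : L ≤ W := by
    intro l hl
    obtain ⟨y, rfl⟩ := exists_pow_eq_of_card_prime L hL c hcL hc1 l hl
    exact W.pow_mem hcW y
  exact Subgroup.eq_of_le_of_card_ge hle (by rw [hL, hW])

/-- The line lemma: a `t`-invariant line of `V` is `W` when `t` acts as a transvection. -/
theorem line_eq_of_transvection (V W L : Subgroup G) [Finite V] (hV : Nat.card V = p ^ 2) (hW : Nat.card W = p)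
    (hWV : W ≤ V) (hLV : L ≤ V) (hL : Nat.card L = p) (t : G)
    (htL : ∀ l ∈ L, t * l * t⁻¹ ∈ L) (htW : ∀ w ∈ W, t * w * t⁻¹ = w)
    (htV : ∀ v ∈ V, t * v * t⁻¹ * v⁻¹ ∈ W) (hnf : ∃ v ∈ V, t * v * t⁻¹ ≠ v) : L = W := by
  have hpp : p.Prime := Fact.out
  have hfinW : Finite W := Finite.of_injective (Subgroup.inclusion hWV) (Subgroup.inclusion_injective _)
  by_contra hne
  have hLnt : ∃ l ∈ L, l ≠ 1 := by
    by_contra hcon
    push Not at hcon
    have : L = ⊥ := (Subgroup.eq_bot_iff_forall L).mpr hcon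
    rw [this, Subgroup.card_bot] at hL
    exact hpp.one_lt.ne hL
  obtain ⟨l, hl, hl1⟩ := hLnt
  have hlW : l ∉ W := fun h => hne (eq_of_card_prime_of_mem L W hL hW l hl h hl1)
  have hcomm : t * l * t⁻¹ * l⁻¹ = 1 := by
    by_contra hc
    exact hne (eq_of_card_prime_of_mem L W hL hW _ (L.mul_mem (htL l hl) (L.inv_mem hl)) (htV l (hLV hl)) hc)
  have hfix : t * l * t⁻¹ = l := by
    have := congrArg (· * l) hcomm
    simpa using this
  have hle := le_of_card_sq V W (Subgroup.centralizer {t}) hV hW hWV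
    (fun w hw => by
      rw [Subgroup.mem_centralizer_iff]
      intro h hh
      rw [Set.mem_singleton_iff] at hh
      subst hh
      have := htW w hw
      calc h * w = (h * w * h⁻¹) * h := by group
        _ = w * h := by rw [this])
    l (hLV hl)
    (by
      rw [Subgroup.mem_centralizer_iff]
      intro h hh
      rw [Set.mem_singleton_iff] at hh
      subst hh
      calc h * l = (h * l * h⁻¹) * h := by group
        _ = l * h := by rw [hfix]) hlW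
  obtain ⟨v, hv, hv'⟩ := hnf
  apply hv'
  have h1 := hle hv
  rw [Subgroup.mem_centralizer_iff] at h1
  have h2 := h1 t rfl
  rw [h2]; group

/-- The `SL₂` word: from two transvections one gets `-1`. -/
theorem sl2_word_inverts (τ b : MulAut G) (e₁ e₂ : G) (hc : e₁ * e₂ = e₂ * e₁) (h1 : τ e₁ = e₁)
    (h2 : τ e₂ = e₁ * e₂) (h3 : b e₂ = e₂) (h4 : b e₁ = e₁ * e₂⁻¹) :
    ((τ * b * τ) * (τ * b * τ)) e₁ = e₁⁻¹ ∧ ((τ * b * τ) * (τ * b * τ)) e₂ = e₂⁻¹ := by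
  have hω1 : (τ * b * τ) e₁ = e₂⁻¹ := by
    simp only [MulAut.mul_apply, h1, h4, map_mul, map_inv, h2]
    rw [hc, mul_inv_rev, mul_inv_cancel_left]
  have hω2 : (τ * b * τ) e₂ = e₁ := by
    simp only [MulAut.mul_apply, h1, h4, map_mul, map_inv, h2, h3]
    group
  constructor
  · rw [MulAut.mul_apply, hω1, map_inv, hω2]
  · rw [MulAut.mul_apply, hω2, hω1]

/-- The image of the last power map of an abelian `p`-group `D` with `Ω₁(D) = V` of order `p²`, under a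
transvection `t`, is `V` or `W`. -/
theorem exists_exponent_image (D V W : Subgroup G) [Finite D]
    (hD : IsPGroup p D) (hDab : ∀ x ∈ D, ∀ y ∈ D, x * y = y * x)
    (hWV : W ≤ V) (hVD : V ≤ D) (hV : Nat.card V = p ^ 2) (hW : Nat.card W = p)
    (hDV : ∀ d ∈ D, d ^ p = 1 → d ∈ V)
    (t : G) (htD : ∀ d ∈ D, t * d * t⁻¹ ∈ D) (htW : ∀ w ∈ W, t * w * t⁻¹ = w)
    (htV : ∀ v ∈ V, t * v * t⁻¹ * v⁻¹ ∈ W) (hnf : ∃ v ∈ V, t * v * t⁻¹ ≠ v) :
    ∃ e : ℕ, (∀ d ∈ D, (d ^ e) ^ p = 1) ∧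
      ((∀ v ∈ V, ∃ d ∈ D, d ^ e = v) ∨ ((∀ d ∈ D, d ^ e ∈ W) ∧ ∀ w ∈ W, ∃ d ∈ D, d ^ e = w)) := by
  classical
  have hpp : p.Prime := Fact.out
  have hfinV : Finite V := Finite.of_injective (Subgroup.inclusion hVD) (Subgroup.inclusion_injective _)
  have hex : ∃ n : ℕ, ∀ d ∈ D, d ^ (p ^ n) = 1 := by
    obtain ⟨k, hk⟩ := (IsPGroup.iff_card (p := p) (G := D)).mp hD
    refine ⟨k, fun d hd => ?_⟩
    have h1 : (⟨d, hd⟩ : D) ^ (p ^ k) = 1 := by rw [← hk]; exact pow_card_eq_one'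
    exact congrArg Subtype.val h1
  have hn0 : Nat.find hex ≠ 0 := by
    intro h0
    have h1 := Nat.find_spec hex
    rw [h0] at h1
    have h2 : V = ⊥ := by
      rw [Subgroup.eq_bot_iff_forall]
      intro v hv
      simpa using h1 v (hVD hv)
    rw [h2, Subgroup.card_bot] at hV
    have : 1 < p ^ 2 := Nat.one_lt_pow (by norm_num) hpp.one_lt
    omega
  obtain ⟨n', hn'⟩ := Nat.exists_eq_succ_of_ne_zero hn0
  have hspec := Nat.find_spec hex
  rw [hn'] at hspec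
  have hmin : ¬ ∀ d ∈ D, d ^ (p ^ n') = 1 := Nat.find_min hex (by rw [hn']; exact Nat.lt_succ_self n')
  push Not at hmin
  obtain ⟨d₀, hd₀, hd₀'⟩ := hmin
  have he1 : ∀ d ∈ D, (d ^ (p ^ n')) ^ p = 1 := by
    intro d hd
    rw [← pow_mul, ← pow_succ]
    exact hspec d hd
  refine ⟨p ^ n', he1, ?_⟩
  let E : Subgroup G :=
    { carrier := {x | ∃ d ∈ D, d ^ (p ^ n') = x}
      mul_mem' := by
        rintro _ _ ⟨a, ha, rfl⟩ ⟨b, hb, rfl⟩
        exact ⟨a * b, D.mul_mem ha hb, (Commute.mul_pow (hDab a ha b hb) _)⟩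
      one_mem' := ⟨1, D.one_mem, one_pow _⟩
      inv_mem' := by
        rintro _ ⟨a, ha, rfl⟩
        exact ⟨a⁻¹, D.inv_mem ha, inv_pow _ _⟩ }
  have hEV : E ≤ V := by
    rintro _ ⟨d, hd, rfl⟩
    exact hDV _ (D.pow_mem hd _) (he1 d hd)
  have hEcard : Nat.card E ∣ p ^ 2 := by
    rw [← hV]; exact Subgroup.card_dvd_of_le hEV
  obtain ⟨m, hm, hm'⟩ := (Nat.dvd_prime_pow hpp).mp hEcard
  have hm0 : m ≠ 0 := by
    intro h0
    rw [h0, pow_zero] at hm'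
    have h1 : E = ⊥ := Subgroup.eq_bot_of_card_eq E hm'
    have h2 : d₀ ^ (p ^ n') ∈ E := ⟨d₀, hd₀, rfl⟩
    rw [h1, Subgroup.mem_bot] at h2
    exact hd₀' h2
  have hm12 : m = 1 ∨ m = 2 := by omega
  rcases hm12 with h1 | h2
  · right
    rw [h1, pow_one] at hm'
    have hEW : E = W := line_eq_of_transvection V W E hV hW hWV hEV hm' t (by
        rintro _ ⟨d, hd, rfl⟩
        exact ⟨t * d * t⁻¹, htD d hd, conj_pow⟩) htW htV hnf
    refine ⟨fun d hd => ?_, fun w hw => ?_⟩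
    · rw [← hEW]; exact ⟨d, hd, rfl⟩
    · rw [← hEW] at hw; exact hw
  · left
    have hEV' : E = V := Subgroup.eq_of_le_of_card_ge hEV (by rw [hm', h2, hV])
    intro v hv
    rw [← hEV'] at hv
    exact hv

/-- Index and `p`-th powers from a transvection action. -/
theorem card_eq_mul_of_transvection (M D V W : Subgroup G) [Finite M]
    (hWV : W ≤ V) (hVD : V ≤ D) (hDM : D ≤ M) (hDab : ∀ x ∈ D, ∀ y ∈ D, x * y = y * x)
    (hV : Nat.card V = p ^ 2) (hW : Nat.card W = p)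
    (hWc : ∀ w ∈ W, ∀ m ∈ M, m * w * m⁻¹ = w)
    (hVW : ∀ v ∈ V, ∀ m ∈ M, m * v * m⁻¹ * v⁻¹ ∈ W)
    (hCent : ∀ m ∈ M, (∀ v ∈ V, m * v * m⁻¹ = v) → m ∈ D)
    (t : G) (htM : t ∈ M) (htD : t ∉ D) :
    Nat.card M = p * Nat.card D ∧ ∀ x ∈ M, x ^ p ∈ D := by
  classical
  have hpp : p.Prime := Fact.out
  have hVM : V ≤ M := hVD.trans hDM
  have hfinV : Finite V := Finite.of_injective (Subgroup.inclusion hVM) (Subgroup.inclusion_injective _)
  have hfinW : Finite W := Finite.of_injective (Subgroup.inclusion (hWV.trans hVM)) (Subgroup.inclusion_injective _)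
  have hex : ∃ e₂ ∈ V, e₂ ∉ W := by
    by_contra hcon
    push Not at hcon
    have h1 : V = W := le_antisymm hcon hWV
    rw [h1, hW] at hV
    have : p < p ^ 2 := by
      calc p = p ^ 1 := (pow_one p).symm
        _ < p ^ 2 := Nat.pow_lt_pow_right hpp.one_lt (by norm_num)
    omega
  obtain ⟨e₂, he₂V, he₂W⟩ := hex
  have hmul : ∀ a b : M, (a * b : G) * e₂ * (a * b : G)⁻¹ * e₂⁻¹ =
      ((a : G) * e₂ * (a : G)⁻¹ * e₂⁻¹) * ((b : G) * e₂ * (b : G)⁻¹ * e₂⁻¹) := by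
    intro a b
    have h1 := hWc _ (hVW e₂ he₂V b b.2) a a.2
    have h2 := hWc _ (hVW e₂ he₂V b b.2) _ (hVM (hWV (hVW e₂ he₂V a a.2)))
    calc (a * b : G) * e₂ * (a * b : G)⁻¹ * e₂⁻¹
        = ((a : G) * ((b : G) * e₂ * (b : G)⁻¹ * e₂⁻¹) * (a : G)⁻¹) * ((a : G) * e₂ * (a : G)⁻¹ * e₂⁻¹) := by
          group
      _ = ((b : G) * e₂ * (b : G)⁻¹ * e₂⁻¹) * ((a : G) * e₂ * (a : G)⁻¹ * e₂⁻¹) := by rw [h1]
      _ = (((a : G) * e₂ * (a : G)⁻¹ * e₂⁻¹) * ((b : G) * e₂ * (b : G)⁻¹ * e₂⁻¹) *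
            ((a : G) * e₂ * (a : G)⁻¹ * e₂⁻¹)⁻¹) * ((a : G) * e₂ * (a : G)⁻¹ * e₂⁻¹) := by rw [h2]
      _ = _ := by group
  let κ : M →* W := MonoidHom.mk' (fun m => ⟨(m : G) * e₂ * (m : G)⁻¹ * e₂⁻¹, hVW e₂ he₂V m m.2⟩)
    (fun a b => Subtype.ext (hmul a b))
  have hker : ∀ m : M, m ∈ κ.ker ↔ (m : G) ∈ D := by
    intro m
    rw [MonoidHom.mem_ker]
    constructor
    · intro h
      have h1 : (m : G) * e₂ * (m : G)⁻¹ * e₂⁻¹ = 1 := congrArg Subtype.val h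
      have h2 : (m : G) * e₂ = e₂ * (m : G) := by
        have := congrArg (· * (e₂ * (m : G))) h1
        simpa [mul_assoc] using this
      apply hCent m m.2
      have hle := le_of_card_sq V W (Subgroup.centralizer {(m : G)}) hV hW hWV
        (fun w hw => by
          rw [Subgroup.mem_centralizer_iff]
          intro h hh
          rw [Set.mem_singleton_iff] at hh
          subst hh
          have := hWc w hw m m.2
          calc (m : G) * w = ((m : G) * w * (m : G)⁻¹) * (m : G) := by group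
            _ = w * (m : G) := by rw [this])
        e₂ he₂V
        (by
          rw [Subgroup.mem_centralizer_iff]
          intro h hh
          rw [Set.mem_singleton_iff] at hh
          subst hh
          exact h2) he₂W
      intro v hv
      have h3 := hle hv
      rw [Subgroup.mem_centralizer_iff] at h3
      rw [h3 (m : G) rfl]; group
    · intro h
      apply Subtype.ext
      show (m : G) * e₂ * (m : G)⁻¹ * e₂⁻¹ = 1
      rw [hDab _ h e₂ (hVD he₂V)]; group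
  have hkerD : Nat.card κ.ker = Nat.card D := by
    have h1 : κ.ker = D.subgroupOf M := by
      ext m
      rw [hker, Subgroup.mem_subgroupOf]
    rw [h1]
    exact Nat.card_congr (Subgroup.subgroupOfEquivOfLe hDM).toEquiv
  have hrange : Nat.card κ.range = p := by
    have h1 : Nat.card κ.range ∣ p := by
      rw [← hW]; exact Subgroup.card_subgroup_dvd_card _
    rcases (Nat.dvd_prime hpp).mp h1 with h | h
    · exfalso
      have h2 : κ.range = ⊥ := Subgroup.eq_bot_of_card_eq _ h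
      have h3 : κ ⟨t, htM⟩ ∈ κ.range := ⟨_, rfl⟩
      rw [h2, Subgroup.mem_bot] at h3
      exact htD ((hker ⟨t, htM⟩).mp (MonoidHom.mem_ker.mpr h3))
    · exact h
  constructor
  · have h1 := Subgroup.card_mul_index κ.ker
    rw [Subgroup.index_ker, hkerD, hrange] at h1
    rw [← h1, mul_comm]
  · intro x hx
    have h1 : (⟨x, hx⟩ : M) ^ p ∈ κ.ker := by
      rw [MonoidHom.mem_ker, map_pow, ← hW]
      exact pow_card_eq_one'
    exact (hker _).mp h1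

/-- Counting: a product of two cyclic groups cannot have all `(x^p)^e` trivial. -/
theorem exists_pow_pow_ne_one (M D V : Subgroup G) [Finite M]
    (hDM : D ≤ M) (hDab : ∀ x ∈ D, ∀ y ∈ D, x * y = y * x)
    (hV : Nat.card V = p ^ 2)
    (e : ℕ) (he1 : ∀ d ∈ D, d ^ e ∈ V) (he2 : ∀ v ∈ V, ∃ d ∈ D, d ^ e = v)
    (hcard : Nat.card M = p * Nat.card D) (hpow : ∀ x ∈ M, x ^ p ∈ D)
    (hprod : ∃ a ∈ M, ∃ b ∈ M, ∀ m ∈ M, ∃ i j : ℕ, m = b ^ j * a ^ i) :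
    ∃ x ∈ M, (x ^ p) ^ e ≠ 1 := by
  classical
  have hpp : p.Prime := Fact.out
  by_contra hcon
  push Not at hcon
  have hfinD : Finite D := Finite.of_injective (Subgroup.inclusion hDM) (Subgroup.inclusion_injective _)
  let π : D →* V := MonoidHom.mk' (fun d => ⟨(d : G) ^ e, he1 d d.2⟩)
    (fun a b => Subtype.ext (Commute.mul_pow (hDab a a.2 b b.2) e))
  have hπsurj : Function.Surjective π := by
    rintro ⟨v, hv⟩
    obtain ⟨d, hd, hdv⟩ := he2 v hv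
    exact ⟨⟨d, hd⟩, Subtype.ext hdv⟩
  have hcardD : Nat.card D = Nat.card π.ker * p ^ 2 := by
    have h1 := Subgroup.card_mul_index π.ker
    rw [Subgroup.index_ker, MonoidHom.range_eq_top.mpr hπsurj, Subgroup.card_top, hV] at h1
    exact h1.symm
  obtain ⟨a, ha, b, hb, hab⟩ := hprod
  have hmemker : ∀ x ∈ M, ∀ k : ℕ, ∃ n : π.ker, ((n : D) : G) = (x ^ p) ^ k := by
    intro x hx k
    refine ⟨⟨⟨(x ^ p) ^ k, D.pow_mem (hpow x hx) k⟩, ?_⟩, rfl⟩
    rw [MonoidHom.mem_ker]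
    apply Subtype.ext
    show ((x ^ p) ^ k) ^ e = 1
    rw [← pow_mul, mul_comm, pow_mul, hcon x hx, one_pow]
  let f : Fin p × Fin p × π.ker → M := fun z =>
    ⟨b ^ (z.1 : ℕ) * ((z.2.2 : D) : G) * a ^ (z.2.1 : ℕ),
      M.mul_mem (M.mul_mem (M.pow_mem hb _) (hDM (z.2.2 : D).2)) (M.pow_mem ha _)⟩
  have hfsurj : Function.Surjective f := by
    rintro ⟨m, hm⟩
    obtain ⟨i, j, hij⟩ := hab m hm
    obtain ⟨n₁, hn₁⟩ := hmemker b hb (j / p)
    obtain ⟨n₂, hn₂⟩ := hmemker a ha (i / p)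
    refine ⟨(⟨j % p, Nat.mod_lt _ hpp.pos⟩, ⟨i % p, Nat.mod_lt _ hpp.pos⟩, n₁ * n₂), ?_⟩
    apply Subtype.ext
    show b ^ (j % p) * (((n₁ * n₂ : π.ker) : D) : G) * a ^ (i % p) = m
    rw [Subgroup.coe_mul, Subgroup.coe_mul, hn₁, hn₂, hij]
    have hj : b ^ j = b ^ (j % p) * (b ^ p) ^ (j / p) := by
      rw [← pow_mul, ← pow_add, Nat.mod_add_div]
    have hi : a ^ i = (a ^ p) ^ (i / p) * a ^ (i % p) := by
      rw [← pow_mul, ← pow_add, Nat.div_add_mod]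
    rw [hj, hi]
    group
  have hle := Nat.card_le_card_of_surjective f hfsurj
  rw [Nat.card_prod, Nat.card_prod, Nat.card_fin, hcard, hcardD] at hle
  have hk : 0 < Nat.card π.ker := Nat.card_pos
  have hp2 : 2 ≤ p := hpp.two_le
  have : p * (p * Nat.card π.ker) < p * (Nat.card π.ker * p ^ 2) := by
    apply Nat.mul_lt_mul_of_pos_left _ hpp.pos
    calc p * Nat.card π.ker < p * Nat.card π.ker * p := by
          nlinarith [Nat.mul_pos hpp.pos hk]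
      _ = Nat.card π.ker * p ^ 2 := by ring
  omega

theorem inv_conj_pow' (x y : G) (n : ℕ) : (x⁻¹ * y * x) ^ n = x⁻¹ * y ^ n * x := by
  have := conj_pow (a := x⁻¹) (b := y) (i := n)
  rwa [inv_inv] at this

/-- Power computation in class two over an abelian normal subgroup. -/
theorem pow_mul_pow_eq_of_transvection (hp : p ≠ 2) (D : Subgroup G)
    (hDab : ∀ x ∈ D, ∀ y ∈ D, x * y = y * x) (x d : G) (hd : d ∈ D)
    (hxD : ∀ y ∈ D, x⁻¹ * y * x ∈ D) (hxp : x ^ p ∈ D) (e : ℕ) (c : G)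
    (hc : x⁻¹ * d ^ e * x = d ^ e * c) (hcx : x⁻¹ * c * x = c) (hcv : c * d ^ e = d ^ e * c)
    (hvp : (d ^ e) ^ p = 1) (hcp : c ^ p = 1) :
    ((x * d) ^ p) ^ e = (x ^ p) ^ e := by
  have hpp : p.Prime := Fact.out
  have hcomm : Commute c (d ^ e) := hcv
  have key : ∀ k : ℕ, ∃ y ∈ D, (x * d) ^ k = x ^ k * y ∧ y ^ e = (d ^ e) ^ k * c ^ (k.choose 2) := by
    intro k
    induction k with
    | zero => exact ⟨1, D.one_mem, by simp, by simp⟩
    | succ k ih =>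
      obtain ⟨y, hy, h1, h2⟩ := ih
      refine ⟨x⁻¹ * y * x * d, D.mul_mem (hxD y hy) hd, ?_, ?_⟩
      · rw [pow_succ, h1, pow_succ]; group
      · have h3 : (x⁻¹ * y * x * d) ^ e = (x⁻¹ * y * x) ^ e * d ^ e :=
          Commute.mul_pow (hDab _ (hxD y hy) d hd) e
        have h4 : x⁻¹ * ((d ^ e) ^ k * c ^ (k.choose 2)) * x =
            (x⁻¹ * d ^ e * x) ^ k * (x⁻¹ * c * x) ^ (k.choose 2) := by
          rw [inv_conj_pow', inv_conj_pow']; group
        rw [h3, inv_conj_pow', h2, h4, hc, hcx, (hcomm.symm.mul_pow k)]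
        have h5 : (k + 1).choose 2 = k + k.choose 2 := by
          rw [Nat.choose_succ_succ, Nat.choose_one_right]
        rw [h5, pow_succ (d ^ e) k, pow_add c k]
        have h6 : Commute (c ^ k) (d ^ e) := hcomm.pow_left k
        have h7 : Commute (c ^ (k.choose 2)) (d ^ e) := hcomm.pow_left _
        calc (d ^ e) ^ k * c ^ k * c ^ k.choose 2 * d ^ e
            = (d ^ e) ^ k * c ^ k * (c ^ k.choose 2 * d ^ e) := by group
          _ = (d ^ e) ^ k * c ^ k * (d ^ e * c ^ k.choose 2) := by rw [h7.eq]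
          _ = (d ^ e) ^ k * (c ^ k * d ^ e) * c ^ k.choose 2 := by group
          _ = (d ^ e) ^ k * (d ^ e * c ^ k) * c ^ k.choose 2 := by rw [h6.eq]
          _ = _ := by group
  obtain ⟨y, hy, h1, h2⟩ := key p
  have hp3 : 2 < p := lt_of_le_of_ne hpp.two_le (Ne.symm hp)
  have hdvd : p ∣ p.choose 2 := hpp.dvd_choose_self (by norm_num) hp3
  obtain ⟨q, hq⟩ := hdvd
  have hy1 : y ^ e = 1 := by
    rw [h2, hvp, hq, pow_mul, hcp, one_pow, one_mul]
  rw [h1, Commute.mul_pow (hDab _ hxp y hy) e, hy1, mul_one]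

/-- The final contradiction: no endomorphism of `M` inverts `V`. -/
theorem no_inverting_extension (hp : p ≠ 2)
    (M D V W : Subgroup G) [Finite M]
    (hWV : W ≤ V) (hVD : V ≤ D) (hDM : D ≤ M)
    (hDab : ∀ x ∈ D, ∀ y ∈ D, x * y = y * x)
    (hDn : ∀ m ∈ M, ∀ d ∈ D, m * d * m⁻¹ ∈ D)
    (hV : Nat.card V = p ^ 2) (hW : Nat.card W = p)
    (hVp : ∀ v ∈ V, v ^ p = 1) (hDV : ∀ d ∈ D, d ^ p = 1 → d ∈ V)
    (hWc : ∀ w ∈ W, ∀ m ∈ M, m * w * m⁻¹ = w)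
    (hVW : ∀ v ∈ V, ∀ m ∈ M, m * v * m⁻¹ * v⁻¹ ∈ W)
    (hCent : ∀ m ∈ M, (∀ v ∈ V, m * v * m⁻¹ = v) → m ∈ D)
    (t : G) (htM : t ∈ M) (htD : t ∉ D)
    (e : ℕ) (he1 : ∀ d ∈ D, (d ^ e) ^ p = 1) (he2 : ∀ v ∈ V, ∃ d ∈ D, d ^ e = v)
    (σ : M →* G) (hσM : ∀ m : M, σ m ∈ M) (hσV : ∀ m : M, (m : G) ∈ V → σ m = (m : G)⁻¹)
    (hprod : ∃ a ∈ M, ∃ b ∈ M, ∀ m ∈ M, ∃ i j : ℕ, m = b ^ j * a ^ i) : False := by
  have hpp : p.Prime := Fact.out
  have hVM : V ≤ M := hVD.trans hDM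
  obtain ⟨hcard, hpow⟩ := card_eq_mul_of_transvection M D V W hWV hVD hDM hDab hV hW hWc hVW hCent t htM htD
  have he1' : ∀ d ∈ D, d ^ e ∈ V := fun d hd => hDV _ (D.pow_mem hd e) (he1 d hd)
  obtain ⟨x, hxM, hx⟩ := exists_pow_pow_ne_one M D V hDM hDab hV e he1' he2 hcard hpow hprod
  have huV : (x ^ p) ^ e ∈ V := he1' _ (hpow x hxM)
  -- Claim C
  have hdD : x⁻¹ * σ ⟨x, hxM⟩ ∈ D := by
    apply hCent _ (M.mul_mem (M.inv_mem hxM) (hσM _))
    intro v hv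
    have hcW : x * v * x⁻¹ * v⁻¹ ∈ W := hVW v hv x hxM
    have h1 : σ (⟨x, hxM⟩ * ⟨v, hVM hv⟩ * ⟨x, hxM⟩⁻¹ * ⟨v, hVM hv⟩⁻¹) = (x * v * x⁻¹ * v⁻¹)⁻¹ :=
      hσV _ (hWV hcW)
    rw [map_mul, map_mul, map_mul, map_inv, map_inv, hσV ⟨v, hVM hv⟩ hv] at h1
    simp only [inv_inv] at h1
    have h2 : v * (x * v * x⁻¹ * v⁻¹) * v⁻¹ = x * v * x⁻¹ * v⁻¹ := hWc _ hcW v (hVM hv)
    set s := σ ⟨x, hxM⟩ with hs
    have h3 : s * v * s⁻¹ = x * v * x⁻¹ := by
      have h4 : s * v⁻¹ * s⁻¹ = (x * v * x⁻¹ * v⁻¹)⁻¹ * v⁻¹ := by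
        rw [← h1]; group
      have h5 : s * v * s⁻¹ = (s * v⁻¹ * s⁻¹)⁻¹ := by group
      rw [h5, h4]
      calc ((x * v * x⁻¹ * v⁻¹)⁻¹ * v⁻¹)⁻¹ = v * (x * v * x⁻¹ * v⁻¹) * v⁻¹ * v := by group
        _ = x * v * x⁻¹ * v⁻¹ * v := by rw [h2]
        _ = x * v * x⁻¹ := by group
    calc x⁻¹ * s * v * (x⁻¹ * s)⁻¹ = x⁻¹ * (s * v * s⁻¹) * x := by group
      _ = x⁻¹ * (x * v * x⁻¹) * x := by rw [h3]
      _ = v := by group
  set d := x⁻¹ * σ ⟨x, hxM⟩ with hd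
  have hσx : σ ⟨x, hxM⟩ = x * d := by rw [hd]; group
  -- Claim B
  have hvV : d ^ e ∈ V := he1' d hdD
  have hcW : x⁻¹ * d ^ e * x * (d ^ e)⁻¹ ∈ W := by
    have := hVW _ hvV x⁻¹ (M.inv_mem hxM)
    rwa [inv_inv] at this
  have hcv : (x⁻¹ * d ^ e * x * (d ^ e)⁻¹) * d ^ e = d ^ e * (x⁻¹ * d ^ e * x * (d ^ e)⁻¹) := by
    have := hWc _ hcW _ (hVM hvV)
    calc (x⁻¹ * d ^ e * x * (d ^ e)⁻¹) * d ^ e
        = (d ^ e * (x⁻¹ * d ^ e * x * (d ^ e)⁻¹) * (d ^ e)⁻¹) * d ^ e := by rw [this]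
      _ = _ := by group
  have hB := pow_mul_pow_eq_of_transvection hp D hDab x d hdD
    (fun y hy => by
      have := hDn x⁻¹ (M.inv_mem hxM) y hy
      rwa [inv_inv] at this) (hpow x hxM) e (x⁻¹ * d ^ e * x * (d ^ e)⁻¹)
    (by rw [← hcv]; group)
    (by
      have := hWc _ hcW x⁻¹ (M.inv_mem hxM)
      rwa [inv_inv] at this) hcv (he1 d hdD) (hVp _ (hWV hcW))
  -- conclusion
  have h1 : σ ((⟨x, hxM⟩ ^ p) ^ e) = ((x ^ p) ^ e)⁻¹ := hσV _ huV
  rw [map_pow, map_pow, hσx, hB] at h1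
  have h2 : ((x ^ p) ^ e) ^ 2 = 1 := by
    rw [pow_two]
    nth_rewrite 1 [h1]
    exact inv_mul_cancel _
  have h3 : orderOf ((x ^ p) ^ e) ∣ Nat.gcd 2 p :=
    Nat.dvd_gcd (orderOf_dvd_of_pow_eq_one h2) (orderOf_dvd_of_pow_eq_one (hVp _ huV))
  have h4 : Nat.gcd 2 p = 1 := by
    rw [Nat.gcd_comm]
    exact (Nat.Prime.coprime_iff_not_dvd hpp).mpr (fun h => hp ((Nat.prime_dvd_prime_iff_eq hpp Nat.prime_two).mp h))
  rw [h4, Nat.dvd_one, orderOf_eq_one_iff] at h3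
  exact hx h3

end

/-- Two transvection-like automorphisms generate an automorphism inverting `V`. -/
theorem exists_inverting_aut {R : Type*} [Group R] {p : ℕ} [Fact p.Prime] (V W : Subgroup R) [Finite V]
    (hV : Nat.card V = p ^ 2) (hW : Nat.card W = p) (hWV : W ≤ V)
    (hVab : ∀ x ∈ V, ∀ y ∈ V, x * y = y * x)
    (τ γ : MulAut R) (hτW : ∀ w ∈ W, τ w = w) (hτV : ∀ v ∈ V, τ v * v⁻¹ ∈ W)
    (hτnf : ∃ v ∈ V, τ v ≠ v) (hγV : ∀ v ∈ V, γ v ∈ V) (hγV' : ∀ v ∈ V, γ⁻¹ v ∈ V)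
    (w : R) (hw : w ∈ W) (hγw : γ w ∉ W) :
    ∃ h₀ ∈ Subgroup.closure ({τ, γ} : Set (MulAut R)), ∀ v ∈ V, h₀ v = v⁻¹ := by
  classical
  have hpp : p.Prime := Fact.out
  have hτm : τ ∈ Subgroup.closure ({τ, γ} : Set (MulAut R)) := Subgroup.subset_closure (by simp)
  have hγm : γ ∈ Subgroup.closure ({τ, γ} : Set (MulAut R)) := Subgroup.subset_closure (by simp)
  set e₂ := γ w with he₂
  have he₂V : e₂ ∈ V := hγV w (hWV hw)
  set e₁ := τ e₂ * e₂⁻¹ with he₁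
  have he₁W : e₁ ∈ W := hτV e₂ he₂V
  have he₁V : e₁ ∈ V := hWV he₁W
  have hfix : ∀ β : MulAut R, (∀ w ∈ W, β w = w) → β e₂ = e₂ → ∀ v ∈ V, β v = v := by
    intro β hβW hβe v hv
    have := le_of_card_sq V W (MonoidHom.eqLocus β.toMonoidHom (MonoidHom.id R)) hV hW hWV
      (fun w hw => hβW w hw) e₂ he₂V hβe hγw
    exact this hv
  have he₁1 : e₁ ≠ 1 := by
    intro h
    have h1 : τ e₂ = e₂ := by
      have := congrArg (· * e₂) h
      simpa [he₁] using this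
    obtain ⟨v, hv, hv'⟩ := hτnf
    exact hv' (hfix τ hτW h1 v hv)
  have hτe₁ : τ e₁ = e₁ := hτW e₁ he₁W
  have hτe₂ : τ e₂ = e₁ * e₂ := by rw [he₁]; group
  set τ' := γ * τ * γ⁻¹ with hτ'
  have hτ'e₂ : τ' e₂ = e₂ := by
    rw [hτ', MulAut.mul_apply, MulAut.mul_apply, he₂, MulAut.inv_apply_self, hτW w hw]
  set z := γ⁻¹ e₁ with hz
  have hzV : z ∈ V := hγV' e₁ he₁V
  set c' := τ z * z⁻¹ with hc'
  have hc'W : c' ∈ W := hτV z hzV
  have hγz : γ z = e₁ := by rw [hz, MulAut.apply_inv_self]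
  set u := γ c' with hu
  have huV : u ∈ V := hγV c' (hWV hc'W)
  have hτ'e₁ : τ' e₁ = e₁ * u := by
    rw [hτ', MulAut.mul_apply, MulAut.mul_apply, ← hz]
    have : τ z = c' * z := by rw [hc']; group
    rw [this, map_mul, hγz, ← hu]
    exact hVab u huV e₁ he₁V
  have hτ'u : τ' u = u := by
    rw [hτ', MulAut.mul_apply, MulAut.mul_apply, hu, MulAut.inv_apply_self, hτW c' hc'W]
  have hc'1 : c' ≠ 1 := by
    intro h
    have h1 : τ' e₁ = e₁ := by rw [hτ'e₁, hu, h, map_one, mul_one]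
    have h2 : ∀ w' ∈ W, τ' w' = w' := by
      intro w' hw'
      obtain ⟨y, rfl⟩ := exists_pow_eq_of_card_prime W hW e₁ he₁W he₁1 w' hw'
      rw [map_pow, h1]
    obtain ⟨v, hv, hv'⟩ := hτnf
    apply hv'
    have h3 := hfix τ' h2 hτ'e₂ (γ v) (hγV v hv)
    rw [hτ', MulAut.mul_apply, MulAut.mul_apply, MulAut.inv_apply_self] at h3
    exact γ.injective h3
  obtain ⟨y, hy⟩ := exists_pow_eq_of_card_prime W hW c' hc'W hc'1 w⁻¹ (W.inv_mem hw)
  set b := τ' ^ y with hb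
  have hbe₂ : b e₂ = e₂ := aut_pow_fix τ' e₂ hτ'e₂ y
  have hbe₁ : b e₁ = e₁ * e₂⁻¹ := by
    rw [hb, aut_pow_apply_of_fix τ' e₁ u hτ'e₁ hτ'u y, hu, ← map_pow, hy, map_inv]
  have hcomm : e₁ * e₂ = e₂ * e₁ := hVab e₁ he₁V e₂ he₂V
  obtain ⟨hh1, hh2⟩ := sl2_word_inverts τ b e₁ e₂ hcomm hτe₁ hτe₂ hbe₂ hbe₁
  refine ⟨(τ * b * τ) * (τ * b * τ), ?_, ?_⟩
  · have hbm : b ∈ Subgroup.closure ({τ, γ} : Set (MulAut R)) :=
      Subgroup.pow_mem _ (Subgroup.mul_mem _ (Subgroup.mul_mem _ hγm hτm) (Subgroup.inv_mem _ hγm)) y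
    exact Subgroup.mul_mem _ (Subgroup.mul_mem _ (Subgroup.mul_mem _ hτm hbm) hτm)
      (Subgroup.mul_mem _ (Subgroup.mul_mem _ hτm hbm) hτm)
  · set h₀ := (τ * b * τ) * (τ * b * τ) with hh₀
    let H : Subgroup R :=
      { carrier := {x | x ∈ V ∧ h₀ x = x⁻¹}
        mul_mem' := fun {a c} ha hc => ⟨V.mul_mem ha.1 hc.1, by
          rw [map_mul, ha.2, hc.2, mul_inv_rev, hVab _ (V.inv_mem ha.1) _ (V.inv_mem hc.1)]⟩
        one_mem' := ⟨V.one_mem, by simp⟩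
        inv_mem' := fun {a} ha => ⟨V.inv_mem ha.1, by rw [map_inv, ha.2]⟩ }
    have hle := le_of_card_sq V W H hV hW hWV (fun w' hw' => by
        obtain ⟨y', rfl⟩ := exists_pow_eq_of_card_prime W hW e₁ he₁W he₁1 w' hw'
        exact ⟨V.pow_mem he₁V y', by rw [map_pow, hh1, inv_pow]⟩) e₂ he₂V ⟨he₂V, hh2⟩ hγw
    intro v hv
    exact (hle hv).2

/-- A nontrivial `p`-element has a power of order `p`. -/
theorem exists_pow_order_p {G : Type*} [Group G] {p : ℕ} (c : G) (hc : ∃ k : ℕ, c ^ (p ^ k) = 1) (hc1 : c ≠ 1) :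
    ∃ j : ℕ, c ^ j ≠ 1 ∧ (c ^ j) ^ p = 1 := by
  classical
  have h0 : Nat.find hc ≠ 0 := by
    intro h
    have := Nat.find_spec hc
    rw [h, pow_zero, pow_one] at this
    exact hc1 this
  obtain ⟨k, hk⟩ := Nat.exists_eq_succ_of_ne_zero h0
  refine ⟨p ^ k, Nat.find_min hc (by rw [hk]; exact Nat.lt_succ_self k), ?_⟩
  rw [← pow_mul, ← pow_succ, ← Nat.succ_eq_add_one, ← hk]
  exact Nat.find_spec hc

end Cfsg.Agent.Helper87
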