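import Mathlib
import Cfsg.Agent.Helper87.MetaEnd
import Cfsg.Agent.Helper2.PGroup
import Cfsg.Agent.Helper70.FrattiniAut

set_option autoImplicit false

namespace Cfsg.Agent.Helper87

section
variable {G : Type*} [Group G] [Finite G]

/-- Automorphisms acting trivially modulo a characteristic subgroup are closed under powers. -/
theorem aut_pow_mul_inv_mem (Φ : Subgroup G) (β : MulAut G) (hβΦ : ∀ x ∈ Φ, β x ∈ Φ)
    (h : ∀ x : G, β x * x⁻¹ ∈ Φ) (i : ℕ) : ∀ x : G, (β ^ i) x * x⁻¹ ∈ Φ := by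
  induction i with
  | zero => intro x; simp
  | succ i ih =>
    intro x
    have e : (β ^ (i + 1)) x * x⁻¹ = β ((β ^ i) x * x⁻¹) * (β x * x⁻¹) := by
      rw [pow_succ', MulAut.mul_apply, map_mul, map_inv]
      group
    rw [e]
    exact Φ.mul_mem (hβΦ _ (ih x)) (h x)

omit [Finite G] in
theorem aut_mem_frattini (β : MulAut G) (x : G) (hx : x ∈ frattini G) : β x ∈ frattini G := by
  have h := Subgroup.characteristic_iff_map_le.mp (frattini_characteristic (G := G)) β
  exact h ⟨x, hx, rfl⟩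

/-- **Burnside** for `p = 2`: a nontrivial automorphism of odd order of a finite `2`-group acts nontrivially
on the Frattini quotient. -/
theorem exists_not_mem_frattini_of_odd_aut (hG : IsPGroup 2 G) (β : MulAut G) (m : ℕ) (hm : Odd m)
    (hβm : β ^ m = 1) (hβ : β ≠ 1) : ∃ x : G, β x * x⁻¹ ∉ frattini G := by
  have : Fact (Nat.Prime 2) := ⟨Nat.prime_two⟩
  by_contra hcon
  push Not at hcon
  obtain ⟨n, hn⟩ := (IsPGroup.iff_card (p := 2) (G := G)).mp hG
  obtain ⟨r, hr⟩ := hG.index (frattini G)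
  have hA : ∀ α ∈ Subgroup.zpowers β, ∀ x : G, α x * x⁻¹ ∈ frattini G := by
    intro α hα
    obtain ⟨i, rfl⟩ := (mem_powers_iff_mem_zpowers (G := MulAut G)).mpr hα
    exact aut_pow_mul_inv_mem (frattini G) β (fun x hx => aut_mem_frattini β x hx) hcon i
  have h1 := Helper70.card_aut_trivial_on_frattini_quotient_dvd hn hr (Subgroup.zpowers β) hA
  rw [Nat.card_zpowers] at h1
  have h2 : orderOf β ∣ m := orderOf_dvd_of_pow_eq_one hβm
  have h3 : orderOf β ∣ Nat.gcd (2 ^ (r * (n - r))) m := Nat.dvd_gcd h1 h2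
  have h4 : Nat.gcd (2 ^ (r * (n - r))) m = 1 :=
    Nat.Coprime.pow_left _ (Nat.coprime_two_left.mpr hm)
  rw [h4, Nat.dvd_one, orderOf_eq_one_iff] at h3
  exact hβ h3

/-- The Frattini quotient of a product of two cyclic subgroups has order at most `4`. -/
theorem index_frattini_le_four (hG : IsPGroup 2 G) (a b : G) (hab : ∀ g : G, ∃ i j : ℕ, g = b ^ j * a ^ i) :
    (frattini G).index ≤ 4 := by
  have : Fact (Nat.Prime 2) := ⟨Nat.prime_two⟩
  rw [Subgroup.index_eq_card]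
  let f : Fin 2 × Fin 2 → G ⧸ frattini G := fun z => QuotientGroup.mk (b ^ (z.1 : ℕ) * a ^ (z.2 : ℕ))
  have hsq : ∀ x : G, (QuotientGroup.mk (x ^ 2) : G ⧸ frattini G) = 1 := fun x =>
    (QuotientGroup.eq_one_iff _).mpr (Helper2.pow_mem_frattini_of_isPGroup hG x)
  have hf : Function.Surjective f := by
    intro q
    obtain ⟨g, rfl⟩ := QuotientGroup.mk_surjective q
    obtain ⟨i, j, rfl⟩ := hab g
    refine ⟨(⟨j % 2, Nat.mod_lt _ (by norm_num)⟩, ⟨i % 2, Nat.mod_lt _ (by norm_num)⟩), ?_⟩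
    show (QuotientGroup.mk (b ^ (j % 2) * a ^ (i % 2)) : G ⧸ frattini G) = QuotientGroup.mk (b ^ j * a ^ i)
    have hj : b ^ j = b ^ (j % 2) * (b ^ (j / 2)) ^ 2 := by
      rw [← pow_mul, ← pow_add, mul_comm, Nat.mod_add_div]
    have hi : a ^ i = a ^ (i % 2) * (a ^ (i / 2)) ^ 2 := by
      rw [← pow_mul, ← pow_add, mul_comm, Nat.mod_add_div]
    rw [hj, hi, QuotientGroup.mk_mul, QuotientGroup.mk_mul, QuotientGroup.mk_mul, QuotientGroup.mk_mul,
      hsq, hsq, mul_one, mul_one]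
  have := Nat.card_le_card_of_surjective f hf
  simpa using this

/-- **Irreducibility**: a nontrivial automorphism of odd order of a two-generator `2`-group leaves no proper
subgroup outside the Frattini subgroup invariant. -/
theorem le_frattini_of_invariant (hG : IsPGroup 2 G) (a b : G) (hab : ∀ g : G, ∃ i j : ℕ, g = b ^ j * a ^ i)
    (β : MulAut G) (m : ℕ) (hm : Odd m) (hβm : β ^ m = 1) (hβ : β ≠ 1)
    (H : Subgroup G) (hH : ∀ h ∈ H, β h ∈ H) (hHtop : H ≠ ⊤) : H ≤ frattini G := by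
  have : Fact (Nat.Prime 2) := ⟨Nat.prime_two⟩
  by_contra hle
  have hMtop : H ⊔ frattini G ≠ ⊤ := fun h => hHtop (frattini_nongenerating h)
  have hΦM : frattini G ≤ H ⊔ frattini G := le_sup_right
  have hMΦ : ¬ H ⊔ frattini G ≤ frattini G := fun h => hle (le_sup_left.trans h)
  have hidx := index_frattini_le_four hG a b hab
  have hmul := Subgroup.relIndex_mul_index hΦM
  have h1 : (H ⊔ frattini G).index ≠ 1 := fun h => hMtop (Subgroup.index_eq_one.mp h)
  have h2 : (frattini G).relIndex (H ⊔ frattini G) ≠ 1 := fun h => hMΦ (Subgroup.relIndex_eq_one.mp h)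
  have h0 : (H ⊔ frattini G).index ≠ 0 := Subgroup.index_ne_zero_of_finite
  have h0' : (frattini G).relIndex (H ⊔ frattini G) ≠ 0 := by
    intro h; rw [h, zero_mul] at hmul
    exact Subgroup.index_ne_zero_of_finite hmul.symm
  have hM2 : (H ⊔ frattini G).index = 2 := by
    have hA : 2 ≤ (H ⊔ frattini G).index := by omega
    have hB : 2 ≤ (frattini G).relIndex (H ⊔ frattini G) := by omega
    nlinarith
  have hΦ2 : (frattini G).relIndex (H ⊔ frattini G) = 2 := by
    rw [hM2] at hmul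
    omega
  -- invariance of `M`
  have hMinv : ∀ g ∈ H ⊔ frattini G, β g ∈ H ⊔ frattini G := by
    intro g hg
    have h3 : Subgroup.map β.toMonoidHom (H ⊔ frattini G) ≤ H ⊔ frattini G := by
      rw [Subgroup.map_sup]
      refine sup_le_sup ?_ ?_
      · rintro _ ⟨h, hh, rfl⟩; exact hH h hh
      · rintro _ ⟨h, hh, rfl⟩; exact aut_mem_frattini β h hh
    exact h3 ⟨g, hg, rfl⟩
  have hpowinv : ∀ (K : Subgroup G), (∀ g ∈ K, β g ∈ K) → ∀ (i : ℕ), ∀ g ∈ K, (β ^ i) g ∈ K := by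
    intro K hK i
    induction i with
    | zero => intro g hg; simpa using hg
    | succ i ih =>
      intro g hg
      rw [pow_succ, MulAut.mul_apply]
      exact ih _ (hK g hg)
  obtain ⟨m', rfl⟩ : ∃ m', m = m' + 1 := ⟨m - 1, by have := hm.pos; omega⟩
  have hback : ∀ (K : Subgroup G), (∀ g ∈ K, β g ∈ K) → ∀ g, β g ∈ K → g ∈ K := by
    intro K hK g hg
    have h3 := hpowinv K hK m' _ hg
    have h4 : (β ^ m') (β g) = (β ^ (m' + 1)) g := by rw [pow_succ, MulAut.mul_apply]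
    rw [h4, hβm] at h3
    exact h3
  have hc2 : ∀ g : G, β g * g⁻¹ ∈ H ⊔ frattini G := by
    intro g
    rw [Subgroup.mul_mem_iff_of_index_two hM2, Subgroup.inv_mem_iff]
    exact ⟨fun h => hback _ hMinv g h, fun h => hMinv g h⟩
  have hc1 : ∀ u ∈ H ⊔ frattini G, β u * u⁻¹ ∈ frattini G := by
    intro u hu
    have h3 : ((frattini G).subgroupOf (H ⊔ frattini G)).index = 2 := hΦ2
    have h4 := Subgroup.mul_mem_iff_of_index_two h3 (a := (⟨β u, hMinv u hu⟩ : ↥(H ⊔ frattini G)))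
      (b := (⟨u, hu⟩ : ↥(H ⊔ frattini G))⁻¹)
    rw [Subgroup.inv_mem_iff] at h4
    have h5 : (⟨β u, hMinv u hu⟩ : ↥(H ⊔ frattini G)) * (⟨u, hu⟩ : ↥(H ⊔ frattini G))⁻¹ ∈
        (frattini G).subgroupOf (H ⊔ frattini G) :=
      h4.mpr ⟨fun h => hback (frattini G) (fun x hx => aut_mem_frattini β x hx) u (Subgroup.mem_subgroupOf.mp h),
        fun h => Subgroup.mem_subgroupOf.mpr (aut_mem_frattini β u (Subgroup.mem_subgroupOf.mp h))⟩
    exact Subgroup.mem_subgroupOf.mp h5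
  have hsq2 : ∀ g : G, (β ^ 2) g * g⁻¹ ∈ frattini G := by
    intro g
    have e : (β ^ 2) g * g⁻¹ = (β (β g * g⁻¹) * (β g * g⁻¹)⁻¹) * (β g * g⁻¹) ^ 2 := by
      rw [pow_two, MulAut.mul_apply, map_mul, map_inv, pow_two]
      group
    rw [e]
    exact (frattini G).mul_mem (hc1 _ (hc2 g)) (Helper2.pow_mem_frattini_of_isPGroup hG _)
  obtain ⟨k, hk⟩ := hm
  have hβeq : β = (β ^ 2) ^ (k + 1) := by
    rw [← pow_mul]
    have : 2 * (k + 1) = (m' + 1) + 1 := by omega
    rw [this, pow_succ, hβm, one_mul]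
  have hall : ∀ g : G, β g * g⁻¹ ∈ frattini G := by
    intro g
    have := aut_pow_mul_inv_mem (frattini G) (β ^ 2) (fun x hx => aut_mem_frattini _ x hx) hsq2 (k + 1) g
    rwa [← hβeq] at this
  obtain ⟨x, hx⟩ := exists_not_mem_frattini_of_odd_aut hG β (m' + 1) ⟨k, hk⟩ hβm hβ
  exact hx (hall x)

end

end Cfsg.Agent.Helper87
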