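import Cfsg.Agent.Helper87.SubCons

set_option autoImplicit false

/-!
# Subnormal subsystems of constrained fusion systems are constrained (part B)
-/

namespace Cfsg.Agent.Helper87

open Cfsg Cfsg.FusionSystem Cfsg.Agent.Helper84

section SubConsB

theorem eq_one_of_pow_coprime {G : Type*} [Group G] {p : ℕ} [Fact p.Prime] {x : G} {m k : ℕ}
    (h1 : x ^ m = 1) (h2 : x ^ p ^ k = 1) (hm : ¬ p ∣ m) : x = 1 := by
  have d1 : orderOf x ∣ m := orderOf_dvd_of_pow_eq_one h1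
  have d2 : orderOf x ∣ p ^ k := orderOf_dvd_of_pow_eq_one h2
  obtain ⟨j, -, hj⟩ := (Nat.dvd_prime_pow (Fact.out : p.Prime)).mp d2
  rcases Nat.eq_zero_or_pos j with h0 | hpos
  · rw [h0, pow_zero] at hj
    exact orderOf_eq_one_iff.mp hj
  · exfalso
    apply hm
    have : p ∣ orderOf x := by
      rw [hj]
      exact dvd_pow_self p (Nat.pos_iff_ne_zero.mp hpos)
    exact this.trans d1

/-- In a finite group `G` whose `p`-core contains its centralizer, the elements acting trivially on a normal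
subgroup `R ≤ O_p(G)` and on `O_p(G)` modulo `R` lie in `O_p(G)`. -/
theorem mem_pCore_of_stabilizes {G : Type*} [Group G] [Finite G] {p : ℕ} [Fact p.Prime]
    (hcR : Subgroup.centralizer ((pCore p G : Subgroup G) : Set G) ≤ pCore p G)
    (hcorep : IsPGroup p (pCore p G))
    (R : Subgroup G) (hRc : R ≤ pCore p G) (hRn : ∀ x : G, ∀ r ∈ R, x * r * x⁻¹ ∈ R)
    (g : G) (hg1 : ∀ o ∈ pCore p G, g * o * g⁻¹ * o⁻¹ ∈ R) (hg2 : ∀ r ∈ R, g * r * g⁻¹ = r) :
    g ∈ pCore p G := by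
  have hcn : (pCore p G).Normal := Cfsg.pCore_normal p G
  let B : Subgroup G :=
    { carrier := {b | (∀ o ∈ pCore p G, b * o * b⁻¹ * o⁻¹ ∈ R) ∧ ∀ r ∈ R, b * r * b⁻¹ = r}
      one_mem' := by
        refine ⟨fun o _ => ?_, fun r _ => ?_⟩
        · have e : (1 : G) * o * 1⁻¹ * o⁻¹ = 1 := by group
          rw [e]
          exact R.one_mem
        · group
      mul_mem' := by
        rintro a b ⟨ha1, ha2⟩ ⟨hb1, hb2⟩
        refine ⟨fun o ho => ?_, fun r hr => ?_⟩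
        · have e : a * b * o * (a * b)⁻¹ * o⁻¹ =
              (a * (b * o * b⁻¹ * o⁻¹) * a⁻¹) * (a * o * a⁻¹ * o⁻¹) := by group
          rw [e, ha2 _ (hb1 o ho)]
          exact R.mul_mem (hb1 o ho) (ha1 o ho)
        · have e : a * b * r * (a * b)⁻¹ = a * (b * r * b⁻¹) * a⁻¹ := by group
          rw [e, hb2 r hr, ha2 r hr]
      inv_mem' := by
        rintro b ⟨hb1, hb2⟩
        refine ⟨fun o ho => ?_, fun r hr => ?_⟩
        · have ho' : b⁻¹ * o * b ∈ pCore p G := by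
            have := hcn.conj_mem o ho b⁻¹
            simpa using this
          have h1 := hb1 _ ho'
          have e1 : b * (b⁻¹ * o * b) * b⁻¹ * (b⁻¹ * o * b)⁻¹ = o * (b⁻¹ * o * b)⁻¹ := by group
          rw [e1] at h1
          have h2 := R.inv_mem h1
          have e2 : (o * (b⁻¹ * o * b)⁻¹)⁻¹ = b⁻¹ * o * b⁻¹⁻¹ * o⁻¹ := by group
          rw [e2] at h2
          exact h2
        · have h1 := hb2 r hr
          have e : b⁻¹ * r * b⁻¹⁻¹ = b⁻¹ * r * b := by group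
          rw [e]
          calc b⁻¹ * r * b = b⁻¹ * (b * r * b⁻¹) * b := by rw [h1]
            _ = r := by group }
  have hBmem : ∀ b : G, b ∈ B ↔ (∀ o ∈ pCore p G, b * o * b⁻¹ * o⁻¹ ∈ R) ∧ ∀ r ∈ R, b * r * b⁻¹ = r :=
    fun b => Iff.rfl
  have hBn : B.Normal := by
    refine ⟨fun b hb x => ?_⟩
    obtain ⟨hb1, hb2⟩ := (hBmem b).mp hb
    refine (hBmem _).mpr ⟨fun o ho => ?_, fun r hr => ?_⟩
    · have ho' : x⁻¹ * o * x ∈ pCore p G := by
        have := hcn.conj_mem o ho x⁻¹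
        simpa using this
      have h1 := hRn x _ (hb1 _ ho')
      have e : x * b * x⁻¹ * o * (x * b * x⁻¹)⁻¹ * o⁻¹ =
          x * (b * (x⁻¹ * o * x) * b⁻¹ * (x⁻¹ * o * x)⁻¹) * x⁻¹ := by group
      rw [e]
      exact h1
    · have hr' : x⁻¹ * r * x ∈ R := by
        have := hRn x⁻¹ r hr
        simpa using this
      have h1 := hb2 _ hr'
      calc x * b * x⁻¹ * r * (x * b * x⁻¹)⁻¹ = x * (b * (x⁻¹ * r * x) * b⁻¹) * x⁻¹ := by group
        _ = x * (x⁻¹ * r * x) * x⁻¹ := by rw [h1]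
        _ = r := by group
  have hBp : IsPGroup p B := by
    rintro ⟨b, hb⟩
    have hn0 : orderOf b ≠ 0 := (orderOf_pos b).ne'
    obtain ⟨a, m, hm, hn⟩ := Nat.exists_eq_pow_mul_and_not_dvd hn0 p (Fact.out : p.Prime).ne_one
    have hc : b ^ p ^ a ∈ B := B.pow_mem hb _
    obtain ⟨hc1, hc2⟩ := (hBmem _).mp hc
    have hcm : (b ^ p ^ a) ^ m = 1 := by
      rw [← pow_mul, ← hn]
      exact pow_orderOf_eq_one b
    have hcent : b ^ p ^ a ∈ Subgroup.centralizer ((pCore p G : Subgroup G) : Set G) := by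
      rw [Subgroup.mem_centralizer_iff]
      intro o ho
      have hr := hc1 o ho
      have hrc := hc2 _ hr
      have hpow : ∀ j : ℕ, (b ^ p ^ a) ^ j * o * ((b ^ p ^ a) ^ j)⁻¹ =
          (b ^ p ^ a * o * (b ^ p ^ a)⁻¹ * o⁻¹) ^ j * o := by
        intro j
        induction j with
        | zero => simp
        | succ j ih =>
          have e1 : (b ^ p ^ a) ^ (j + 1) * o * ((b ^ p ^ a) ^ (j + 1))⁻¹ =
              b ^ p ^ a * ((b ^ p ^ a) ^ j * o * ((b ^ p ^ a) ^ j)⁻¹) * (b ^ p ^ a)⁻¹ := by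
            rw [pow_succ']
            group
          rw [e1, ih]
          have e2 : b ^ p ^ a * ((b ^ p ^ a * o * (b ^ p ^ a)⁻¹ * o⁻¹) ^ j * o) * (b ^ p ^ a)⁻¹ =
              (b ^ p ^ a * (b ^ p ^ a * o * (b ^ p ^ a)⁻¹ * o⁻¹) ^ j * (b ^ p ^ a)⁻¹) *
                (b ^ p ^ a * o * (b ^ p ^ a)⁻¹) := by group
          rw [e2, ← conj_pow, hrc, pow_succ]
          group
      have h1 := hpow m
      rw [hcm] at h1
      have h2 : (b ^ p ^ a * o * (b ^ p ^ a)⁻¹ * o⁻¹) ^ m = 1 := by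
        have e3 : (1 : G) * o * 1⁻¹ = o := by group
        rw [e3] at h1
        exact (mul_eq_right.mp h1.symm)
      obtain ⟨k, hk⟩ := hcorep ⟨_, hRc hr⟩
      have hk' : (b ^ p ^ a * o * (b ^ p ^ a)⁻¹ * o⁻¹) ^ p ^ k = 1 := congrArg Subtype.val hk
      have h3 := eq_one_of_pow_coprime h2 hk' hm
      calc o * b ^ p ^ a = (b ^ p ^ a * o * (b ^ p ^ a)⁻¹ * o⁻¹)⁻¹ * (b ^ p ^ a * o) := by group
        _ = b ^ p ^ a * o := by rw [h3]; group
    obtain ⟨k, hk⟩ := hcorep ⟨_, hcR hcent⟩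
    have hk' : (b ^ p ^ a) ^ p ^ k = 1 := congrArg Subtype.val hk
    have h4 := eq_one_of_pow_coprime hcm hk' hm
    exact ⟨a, Subtype.ext h4⟩
  have hBle : B ≤ pCore p G := by
    unfold pCore
    exact le_sSup ⟨hBn, hBp⟩
  exact hBle ((hBmem g).mpr ⟨hg1, hg2⟩)

end SubConsB

end Cfsg.Agent.Helper87
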