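import Cfsg.Agent.Helper87.NormSys

set_option autoImplicit false

namespace Cfsg.Agent.Helper87

open Cfsg Cfsg.FusionSystem
open scoped commutatorElement Pointwise

variable {Ω : Type*} [Group Ω]

/-- The automizer of `Q ≤ P` in the fusion system of the group on `P`. -/
theorem mem_groupFusion_autGroup_iff (P : Subgroup Ω) {Q : Subgroup Ω} (hQ : Q ≤ P) (α : MulAut Q) :
    α ∈ (groupFusionSystem P).autGroup Q ↔ ∃ g : Ω, ∀ x : Q, ((α x : Q) : Ω) = g * (x : Ω) * g⁻¹ := by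
  rw [mem_autGroup_iff _ hQ]
  constructor
  · rintro ⟨-, -, g, hg⟩
    exact ⟨g, fun x => hg x⟩
  · rintro ⟨g, hg⟩
    exact ⟨hQ, fun x => hQ (α x).2, g, fun x => hg x⟩

/-- The automizer of `Q ≤ P` in the fusion system of the group on `P` is the image of `N(Q)`. -/
theorem groupFusion_autGroup_eq_range (P : Subgroup Ω) {Q : Subgroup Ω} (hQ : Q ≤ P) :
    (groupFusionSystem P).autGroup Q = Q.normalizerMonoidHom.range := by
  ext α
  rw [mem_groupFusion_autGroup_iff P hQ]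
  constructor
  · rintro ⟨g, hg⟩
    have hgN : g ∈ Subgroup.normalizer (Q : Set Ω) := by
      rw [Subgroup.mem_normalizer_iff]
      intro h
      constructor
      · intro hh
        have := hg ⟨h, hh⟩
        rw [← this]
        exact (α _).2
      · intro hh
        have h1 := hg (α.symm ⟨g * h * g⁻¹, hh⟩)
        rw [MulEquiv.apply_symm_apply] at h1
        have h2 : h = ((α.symm ⟨g * h * g⁻¹, hh⟩ : Q) : Ω) := by
          have h3 : g * h * g⁻¹ = g * ((α.symm ⟨g * h * g⁻¹, hh⟩ : Q) : Ω) * g⁻¹ := h1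
          exact mul_left_cancel (mul_right_cancel h3)
        rw [h2]
        exact (α.symm _).2
    refine ⟨⟨g, hgN⟩, ?_⟩
    ext x
    rw [Subgroup.normalizerMonoidHom_apply_apply_coe, hg]
  · rintro ⟨n, rfl⟩
    exact ⟨n, fun x => Subgroup.normalizerMonoidHom_apply_apply_coe Q n x⟩

/-- The image of `n` in `G/K`, `K = ker f`, lies in `O_p(G/K)` iff `f n` lies in `O_p(f(G))`. -/
theorem mk_mem_pCore_quotient_iff {G H : Type*} [Group G] [Group H] {p : ℕ} [Fact p.Prime] (f : G →* H)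
    (K : Subgroup G) [K.Normal] (hK : K = f.ker) (n : G) :
    (QuotientGroup.mk n : G ⧸ K) ∈ pCore p (G ⧸ K) ↔ f n ∈ (pCore p f.range).map f.range.subtype := by
  constructor
  · intro h
    obtain ⟨M, hM, hMp, hn⟩ := mem_pCore_iff.mp h
    refine mem_pCore_map_of_normal_pgroup f.range ((M.comap (QuotientGroup.mk' K)).map f) ?_ ?_
      ⟨n, hn, rfl⟩ ⟨n, rfl⟩
    · rintro ⟨_, g, hg, rfl⟩
      obtain ⟨k, hk⟩ := hMp ⟨_, hg⟩
      refine ⟨k, Subtype.ext ?_⟩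
      show (f g) ^ (p ^ k) = 1
      have h1 : ((QuotientGroup.mk' K g) ^ (p ^ k) : G ⧸ K) = 1 := congrArg Subtype.val hk
      rw [← map_pow, QuotientGroup.mk'_apply, QuotientGroup.eq_one_iff, hK] at h1
      rw [← map_pow]
      exact h1
    · rintro _ ⟨h, rfl⟩ _ ⟨g, hg, rfl⟩
      refine ⟨h * g * h⁻¹, ?_, by simp⟩
      show QuotientGroup.mk' K (h * g * h⁻¹) ∈ M
      rw [map_mul, map_mul, map_inv]
      exact hM.conj_mem _ hg _
  · rintro ⟨y, hy, hyn⟩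
    obtain ⟨N₀, hN₀, hN₀p, hyN⟩ := mem_pCore_iff.mp hy
    have hnorm : ((N₀.map f.range.subtype).comap f).Normal := by
      constructor
      intro x hx g
      rw [Subgroup.mem_comap] at hx ⊢
      obtain ⟨w, hw, hwx⟩ := hx
      refine ⟨⟨f g, ⟨g, rfl⟩⟩ * w * ⟨f g, ⟨g, rfl⟩⟩⁻¹, hN₀.conj_mem w hw _, ?_⟩
      rw [map_mul, map_mul, map_inv, hwx, map_mul, map_mul, map_inv]
      rfl
    refine mem_pCore_iff.mpr ⟨((N₀.map f.range.subtype).comap f).map (QuotientGroup.mk' K),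
      hnorm.map _ (QuotientGroup.mk'_surjective K), ?_, ⟨n, ?_, rfl⟩⟩
    · rintro ⟨_, x, hx, rfl⟩
      obtain ⟨w, hw, hwx⟩ := hx
      obtain ⟨k, hk⟩ := hN₀p ⟨w, hw⟩
      refine ⟨k, Subtype.ext ?_⟩
      show (QuotientGroup.mk' K x) ^ (p ^ k) = 1
      rw [← map_pow, QuotientGroup.mk'_apply, QuotientGroup.eq_one_iff, hK, MonoidHom.mem_ker, map_pow,
        ← hwx]
      have h1 : (w ^ (p ^ k) : f.range) = 1 := congrArg Subtype.val hk
      have h2 := congrArg (f.range.subtype) h1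
      rw [map_pow, map_one] at h2
      exact h2
    · exact ⟨y, hyN, hyn⟩

theorem quadratic_coe_eq {Q : Subgroup Ω} {g : Ω} (hg : g ∈ Subgroup.normalizer (Q : Set Ω)) (a : Q) :
    (((Q.normalizerMonoidHom ⟨g, hg⟩ a⁻¹) * a * (Q.normalizerMonoidHom ⟨g, hg⟩ a⁻¹) *
      (Q.normalizerMonoidHom ⟨g, hg⟩ (Q.normalizerMonoidHom ⟨g, hg⟩ a)) : Q) : Ω) =
      ⁅(a : Ω)⁻¹, g⁆⁻¹ * g * ⁅(a : Ω)⁻¹, g⁆ * g⁻¹ := by
  have e : ∀ y : Q, ((Q.normalizerMonoidHom ⟨g, hg⟩ y : Q) : Ω) = g * y * g⁻¹ :=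
    fun y => Subgroup.normalizerMonoidHom_apply_apply_coe Q ⟨g, hg⟩ y
  rw [Subgroup.coe_mul, Subgroup.coe_mul, Subgroup.coe_mul, e, e, e, Subgroup.coe_inv,
    commutatorElement_def]
  group

/-- The group-theoretic form of a quadratic action gives the identity on the automorphism. -/
theorem quadratic_of_commutator_eq_bot {Q : Subgroup Ω} {g : Ω}
    (hg : g ∈ Subgroup.normalizer (Q : Set Ω))
    (h : ⁅⁅Q, Subgroup.zpowers g⁆, Subgroup.zpowers g⁆ = ⊥) (a : Q) :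
    (Q.normalizerMonoidHom ⟨g, hg⟩ a⁻¹) * a * (Q.normalizerMonoidHom ⟨g, hg⟩ a⁻¹) *
      (Q.normalizerMonoidHom ⟨g, hg⟩ (Q.normalizerMonoidHom ⟨g, hg⟩ a)) = 1 := by
  apply Subtype.ext
  rw [quadratic_coe_eq, Subgroup.coe_one]
  have h1 : ⁅(a : Ω)⁻¹, g⁆ ∈ ⁅Q, Subgroup.zpowers g⁆ :=
    Subgroup.commutator_mem_commutator (Q.inv_mem a.2) (Subgroup.mem_zpowers g)
  have h2 : ⁅⁅(a : Ω)⁻¹, g⁆, g⁆ ∈ ⁅⁅Q, Subgroup.zpowers g⁆, Subgroup.zpowers g⁆ :=
    Subgroup.commutator_mem_commutator h1 (Subgroup.mem_zpowers g)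
  rw [h, Subgroup.mem_bot] at h2
  generalize ⁅(a : Ω)⁻¹, g⁆ = w at h2
  rw [commutatorElement_def] at h2
  have h3 : w⁻¹ * g * w * g⁻¹ = w⁻¹ * (w * g * w⁻¹ * g⁻¹)⁻¹ * w := by group
  rw [h3, h2]
  group

/-- The identity on the automorphism gives the group-theoretic form of a quadratic action. -/
theorem commutator_eq_bot_of_quadratic {Q : Subgroup Ω} {g : Ω}
    (hg : g ∈ Subgroup.normalizer (Q : Set Ω))
    (h : ∀ a : Q, (Q.normalizerMonoidHom ⟨g, hg⟩ a⁻¹) * a * (Q.normalizerMonoidHom ⟨g, hg⟩ a⁻¹) *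
      (Q.normalizerMonoidHom ⟨g, hg⟩ (Q.normalizerMonoidHom ⟨g, hg⟩ a)) = 1) :
    ⁅⁅Q, Subgroup.zpowers g⁆, Subgroup.zpowers g⁆ = ⊥ := by
  -- `⁅a, g⁆` commutes with `g` for `a ∈ Q`
  have h1 : ∀ a ∈ Q, ⁅a, g⁆ * g = g * ⁅a, g⁆ := by
    intro a ha
    have h2 := congrArg Subtype.val (h ⟨a⁻¹, Q.inv_mem ha⟩)
    rw [quadratic_coe_eq, Subgroup.coe_one] at h2
    have h2' : ⁅a, g⁆⁻¹ * g * ⁅a, g⁆ * g⁻¹ = 1 := by
      have e : ((⟨a⁻¹, Q.inv_mem ha⟩ : Q) : Ω)⁻¹ = a := inv_inv a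
      rw [e] at h2
      exact h2
    generalize ⁅a, g⁆ = c at h2'
    have h3 : g * c = c * (c⁻¹ * g * c * g⁻¹) * g := by group
    rw [h3, h2']
    group
  -- the subgroup of `h` commuting with `g` such that all `⁅a, h⁆` commute with `g`
  have hle : Subgroup.zpowers g ≤
      { carrier := {h | h * g = g * h ∧ ∀ a ∈ Q, ⁅a, h⁆ * g = g * ⁅a, h⁆}
        mul_mem' := by
          rintro x y ⟨hx, hx'⟩ ⟨hy, hy'⟩
          refine ⟨by rw [mul_assoc, hy, ← mul_assoc, hx, mul_assoc], fun a ha => ?_⟩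
          have e : ⁅a, x * y⁆ = ⁅a, x⁆ * (x * ⁅a, y⁆ * x⁻¹) := by
            simp only [commutatorElement_def]; group
          have hx1 : x⁻¹ * g = g * x⁻¹ := by
            calc x⁻¹ * g = x⁻¹ * (g * x) * x⁻¹ := by group
              _ = x⁻¹ * (x * g) * x⁻¹ := by rw [hx]
              _ = g * x⁻¹ := by group
          rw [e]
          calc ⁅a, x⁆ * (x * ⁅a, y⁆ * x⁻¹) * g = ⁅a, x⁆ * (x * ⁅a, y⁆ * (x⁻¹ * g)) := by group
            _ = ⁅a, x⁆ * (x * (⁅a, y⁆ * g) * x⁻¹) := by rw [hx1]; group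
            _ = ⁅a, x⁆ * ((x * g) * ⁅a, y⁆ * x⁻¹) := by rw [hy' a ha]; group
            _ = (⁅a, x⁆ * g) * (x * ⁅a, y⁆ * x⁻¹) := by rw [hx]; group
            _ = g * (⁅a, x⁆ * (x * ⁅a, y⁆ * x⁻¹)) := by rw [hx' a ha]; group
        one_mem' := by
          refine ⟨by rw [one_mul, mul_one], fun a _ => ?_⟩
          rw [commutatorElement_def]
          group
        inv_mem' := by
          rintro x ⟨hx, hx'⟩
          have hx1 : x⁻¹ * g = g * x⁻¹ := by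
            calc x⁻¹ * g = x⁻¹ * (g * x) * x⁻¹ := by group
              _ = x⁻¹ * (x * g) * x⁻¹ := by rw [hx]
              _ = g * x⁻¹ := by group
          refine ⟨hx1, fun a ha => ?_⟩
          have e : ⁅a, x⁻¹⁆ = x⁻¹ * ⁅a, x⁆⁻¹ * x := by
            simp only [commutatorElement_def]; group
          have h4 : ⁅a, x⁆⁻¹ * g = g * ⁅a, x⁆⁻¹ := by
            calc ⁅a, x⁆⁻¹ * g = ⁅a, x⁆⁻¹ * (g * ⁅a, x⁆) * ⁅a, x⁆⁻¹ := by group
              _ = ⁅a, x⁆⁻¹ * (⁅a, x⁆ * g) * ⁅a, x⁆⁻¹ := by rw [hx' a ha]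
              _ = g * ⁅a, x⁆⁻¹ := by group
          rw [e]
          calc x⁻¹ * ⁅a, x⁆⁻¹ * x * g = x⁻¹ * ⁅a, x⁆⁻¹ * (x * g) := by group
            _ = x⁻¹ * (⁅a, x⁆⁻¹ * g) * x := by rw [hx]; group
            _ = (x⁻¹ * g) * ⁅a, x⁆⁻¹ * x := by rw [h4]; group
            _ = g * (x⁻¹ * ⁅a, x⁆⁻¹ * x) := by rw [hx1]; group } := by
    rw [Subgroup.zpowers_le]
    exact ⟨rfl, h1⟩
  rw [Subgroup.commutator_eq_bot_iff_le_centralizer, Subgroup.commutator_le]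
  intro a ha x hx
  rw [Subgroup.mem_centralizer_iff]
  intro y hy
  obtain ⟨k, rfl⟩ := Subgroup.mem_zpowers_iff.mp hy
  have h5 : Commute g ⁅a, x⁆ := ((hle hx).2 a ha).symm
  exact (h5.zpow_left k).eq

end Cfsg.Agent.Helper87
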