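import Mathlib
import Cfsg.Prelude.Def_PLocal
import Cfsg.Agent.S0108
import Cfsg.Agent.Helper63.HHPSol
import Cfsg.Agent.Helper11.ActionPStable
import Cfsg.Agent.Helper87.AxNoSL2

/-!
# Groups with a maximal Sylow `p`-subgroup, `p` odd (helper87)

If a Sylow `p`-subgroup `S` of the finite group `G` is a maximal subgroup (or all of `G`) and `p` is
odd, then `G / O_p(G)` has an abelian normal `p`-complement (Thompson's normal `p`-complement theorem),
so `SL(2, p)` is not a section of `G` and `G` acts `p`-stably on its normal `p`-subgroups.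
-/

set_option autoImplicit false

namespace Cfsg.Agent.Helper87

open Cfsg Cfsg.Agent.Helper19
open scoped commutatorElement

universe u

section AxStruct

variable {G : Type u} [Group G] [Finite G] {p : ℕ} [Fact p.Prime]

/-- Maximality of a Sylow subgroup passes to the quotient by a normal subgroup. -/
theorem ax_max_quot (S : Sylow p G)
    (hmax : ∀ H : Subgroup G, (S : Subgroup G) ≤ H → H = S ∨ H = ⊤) (Q : Subgroup G) [Q.Normal]
    (Hb : Subgroup (G ⧸ Q)) (hle : (S : Subgroup G).map (QuotientGroup.mk' Q) ≤ Hb) :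
    Hb = (S : Subgroup G).map (QuotientGroup.mk' Q) ∨ Hb = ⊤ := by
  have hsurj : Function.Surjective (QuotientGroup.mk' Q) := QuotientGroup.mk'_surjective Q
  have h1 : (S : Subgroup G) ≤ Hb.comap (QuotientGroup.mk' Q) := by
    intro x hx
    exact Subgroup.mem_comap.mpr (hle (Subgroup.mem_map_of_mem _ hx))
  have h2 : (Hb.comap (QuotientGroup.mk' Q)).map (QuotientGroup.mk' Q) = Hb :=
    Subgroup.map_comap_eq_self_of_surjective hsurj Hb
  rcases hmax _ h1 with h | h
  · left
    rw [← h2, h]
  · right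
    rw [← h2, h]
    exact Subgroup.map_top_of_surjective _ hsurj

/-- In a group `Γ` with `O_p(Γ) = 1` whose Sylow `p`-subgroup `P` is maximal or everything, a
nontrivial subgroup of `P` normalized by `P` has normalizer `P`. -/
theorem ax_normalizer_eq (P : Sylow p G) (hO : pCore p G = ⊥)
    (hmax : ∀ H : Subgroup G, (P : Subgroup G) ≤ H → H = P ∨ H = ⊤) (X : Subgroup G)
    (hXP : X ≤ (P : Subgroup G)) (hX : X ≠ ⊥)
    (hPX : (P : Subgroup G) ≤ Subgroup.normalizer (X : Set G)) :
    Subgroup.normalizer (X : Set G) = (P : Subgroup G) := by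
  rcases hmax _ hPX with h | h
  · exact h
  · exfalso
    have hXn : X.Normal := Subgroup.normalizer_eq_top_iff.mp h
    have h1 : X ≤ pCore p G := Helper11.le_pCore X (P.isPGroup'.to_le hXP)
    rw [hO] at h1
    exact hX (le_bot_iff.mp h1)

/-- A finite group whose Sylow `p`-subgroup (`p` odd) is maximal or everything has no `SL(2, p)`
section. -/
theorem ax_no_sl2_of_maximal_sylow (hp : p ≠ 2) (S : Sylow p G)
    (hmax : ∀ H : Subgroup G, (S : Subgroup G) ≤ H → H = S ∨ H = ⊤) :
    ¬ Helper33.IsSectionOf G (Matrix.SpecialLinearGroup (Fin 2) (ZMod p)) := by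
  classical
  have hpp : p.Prime := Fact.out
  set Q := pCore p G with hQdef
  have hQn : Q.Normal := Helper11.pCore_normal p G
  have hQp : IsPGroup p Q := Helper11.pCore_isPGroup p G
  set π := QuotientGroup.mk' Q with hπdef
  have hsurj : Function.Surjective π := QuotientGroup.mk'_surjective Q
  set Sb : Sylow p (G ⧸ Q) := S.mapSurjective hsurj with hSbdef
  have hSbcoe : (Sb : Subgroup (G ⧸ Q)) = (S : Subgroup G).map π := Sylow.coe_mapSurjective hsurj S
  have hO : pCore p (G ⧸ Q) = ⊥ := Helper63.HHP.pCore_quotient_pCore_eq_bot p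
  have hmax' : ∀ Hb : Subgroup (G ⧸ Q), (Sb : Subgroup (G ⧸ Q)) ≤ Hb →
      Hb = (Sb : Subgroup (G ⧸ Q)) ∨ Hb = ⊤ := by
    intro Hb hle
    rw [hSbcoe] at hle ⊢
    exact ax_max_quot S hmax Q Hb hle
  -- Step 1: `G / Q` has a normal `p`-complement
  have hnil : PNil p (⊤ : Subgroup (G ⧸ Q)) := by
    by_cases hSb : (Sb : Subgroup (G ⧸ Q)) = ⊥
    · have h0 : (Nat.card (⊤ : Subgroup (G ⧸ Q))).Coprime p := by
        rw [Subgroup.card_top (G := G ⧸ Q), Nat.coprime_comm, Nat.Prime.coprime_iff_not_dvd hpp]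
        intro hdvd
        exact Sb.ne_bot_of_dvd_card hdvd hSb
      exact pNil_of_coprime_card _ h0
    · apply thompson_npc hp (Cfsg.Agent.S0108.frobHyp p) Sb
      · have h1 := ax_normalizer_eq Sb hO hmax' (ZZ (Sb : Subgroup (G ⧸ Q))) inf_le_left
          (center_ne_bot Sb.isPGroup' hSb)
          (Subgroup.le_normalizer.trans (normalizer_le_normalizer_center _))
        apply pNil_of_isPGroup
        exact Sb.isPGroup'.to_le ((Subgroup.centralizer_le_normalizer _).trans h1.le)
      · have h1 := ax_normalizer_eq Sb hO hmax' (JJ p (Sb : Subgroup (G ⧸ Q))) (JJ_le p _)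
          (JJ_ne_bot Sb.isPGroup' hSb)
          (Subgroup.le_normalizer.trans (normalizer_le_normalizer_JJ p _))
        rw [h1]
        exact pNil_of_isPGroup Sb.isPGroup'
  -- Step 2: the normal `p`-complement is abelian
  set Nb := pComp p hnil with hNbdef
  have hNbn : Nb.Normal := pComp_normal hnil
  have hNbcop : (Nat.card Nb).Coprime p := card_pComp_coprime hnil
  have hinf : ∀ X : Subgroup (G ⧸ Q), X ≤ Nb → (Sb : Subgroup (G ⧸ Q)) ⊓ X = ⊥ := by
    intro X hX
    rw [eq_bot_iff]
    intro x hx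
    obtain ⟨k, hk⟩ := isPGroup_pow_eq_one Sb.isPGroup' hx.1
    exact Subgroup.mem_bot.mpr (eq_one_of_pow_of_coprime hk ((mem_pComp hnil).mp (hX hx.2)))
  have hab : ∀ x ∈ Nb, ∀ y ∈ Nb, x * y = y * x := by
    by_cases hNb : Nb = ⊥
    · intro x hx y hy
      rw [hNb, Subgroup.mem_bot] at hx hy
      rw [hx, hy]
    · apply abelian_of_minimal_invariant Nb (Sb : Subgroup (G ⧸ Q)) hNbcop (fun x hx => hx)
        Sb.isPGroup' hNb
      intro X hXN hSX
      rcases hmax' ((Sb : Subgroup (G ⧸ Q)) ⊔ X) le_sup_left with h | h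
      · left
        have h1 : X ≤ (Sb : Subgroup (G ⧸ Q)) := by
          rw [← h]
          exact le_sup_right
        have h2 := hinf X hXN
        rw [inf_eq_right.mpr h1] at h2
        exact h2
      · right
        have c1 := card_sup_mul_card_inf' (Sb : Subgroup (G ⧸ Q)) X hSX
        rw [hinf X hXN, Subgroup.card_bot, mul_one, h] at c1
        have hSN : (Sb : Subgroup (G ⧸ Q)) ≤ Subgroup.normalizer (Nb : Set (G ⧸ Q)) := by
          rw [Subgroup.normalizer_eq_top]
          exact le_top
        have c2 := card_sup_mul_card_inf' (Sb : Subgroup (G ⧸ Q)) Nb hSN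
        have htop : (Sb : Subgroup (G ⧸ Q)) ⊔ Nb = ⊤ := by
          rw [eq_top_iff, ← h]
          exact sup_le_sup_left hXN _
        rw [hinf Nb le_rfl, Subgroup.card_bot, mul_one, htop] at c2
        have c3 : Nat.card X = Nat.card Nb := by
          have hpos : 0 < Nat.card (Sb : Subgroup (G ⧸ Q)) := Nat.card_pos
          have : Nat.card (Sb : Subgroup (G ⧸ Q)) * Nat.card X =
              Nat.card (Sb : Subgroup (G ⧸ Q)) * Nat.card Nb := by rw [← c1, ← c2]
          exact Nat.eq_of_mul_eq_mul_left hpos this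
        exact Subgroup.eq_of_le_of_card_ge hXN c3.ge
  -- Step 3: the preimage `K` of the complement
  apply ax_no_sl2_section hp (Nb.comap π)
  · intro g
    obtain ⟨k, hk⟩ := exists_pow_coprime p (π g)
    refine ⟨k, ?_⟩
    rw [Subgroup.mem_comap, map_pow]
    exact (mem_pComp hnil).mpr hk
  · intro x hx y hy
    have h1 : π ⁅x, y⁆ = 1 := by
      rw [map_commutatorElement, commutatorElement_eq_one_iff_mul_comm]
      exact hab _ (Subgroup.mem_comap.mp hx) _ (Subgroup.mem_comap.mp hy)
    have h2 : ⁅x, y⁆ ∈ Q := (QuotientGroup.eq_one_iff _).mp h1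
    obtain ⟨j, hj⟩ := hQp ⟨_, h2⟩
    exact ⟨j, by simpa using congrArg Subtype.val hj⟩

/-- A finite group whose Sylow `p`-subgroup (`p` odd) is maximal or everything acts `p`-stably on
its normal `p`-subgroups. -/
theorem ax_pstable_of_maximal_sylow (hp : p ≠ 2) (S : Sylow p G)
    (hmax : ∀ H : Subgroup G, (S : Subgroup G) ≤ H → H = S ∨ H = ⊤) :
    ∀ (V : Subgroup G) [V.Normal], IsPGroup p V → IsPStableOn p V :=
  fun V _ hV => Helper11.isPStableOn_of_no_sl2 hp (ax_no_sl2_of_maximal_sylow hp S hmax) V hV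

end AxStruct

end Cfsg.Agent.Helper87
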