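import Cfsg.Agent.Helper87.AxZJ
import Cfsg.Agent.Helper87.AxStruct
import Cfsg.Agent.Helper87.AxMax
import Cfsg.Agent.Helper84.Model

/-!
# An axiomatic Glauberman–Thompson nilpotency criterion for fusion systems (helper87)

Let `p` be odd, `F` a saturated fusion system over `S` and `𝒜` a nonempty family of abelian subgroups
of `S` satisfying an invariance axiom and a replacement axiom.  If the normalizer system of the
intersection `I(S)` of the family is inner, then `F` is inner.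

Proof: a non-inner `F` contains a sparse saturated subsystem `E` over `S`, which is constrained and has
a model `G` in which the image of `S` is a maximal subgroup.  Then `G` acts `p`-stably on its normal
`p`-subgroups (`AxStruct`), so the image of `I(S)` is normal in `G` by the axiomatic ZJ-theorem
(`AxZJ`), hence `I(S)` is normal in `E`, and `E` is contained in the normalizer system of `I(S)`.
-/

set_option autoImplicit false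

namespace Cfsg.Agent.Helper87

open Cfsg Cfsg.FusionSystem Cfsg.Agent.Helper84
open scoped commutatorElement

section AxFus

universe u

variable {Ω : Type u} [Group Ω] {S : Subgroup Ω}

/-- The image of a family of subgroups of `S` along `ι`. -/
abbrev axImg {G : Type*} [Group G] (ι : S →* G) (𝒜 : Set (Subgroup Ω)) : Set (Subgroup G) :=
  (fun A => imageAlong ι A) '' 𝒜

/-- In a sparse system with a model, for odd `p`, the intersection of an axiomatic family is normal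
in the system. -/
theorem ax_family_isNormal [Finite S] {p : ℕ} [Fact p.Prime] (hp : p ≠ 2) (E : FusionSystem S)
    (hsp : ∀ E' : FusionSystem S, E'.IsSaturated p → E'.IsSubsystemOf E →
      (∀ P : Subgroup Ω, E'.Hom P = E.Hom P) ∨
        (∀ P : Subgroup Ω, E'.Hom P = (innerFusionSystem S).Hom P))
    {G : Type u} [Group G] {ι : S →* G} (hM : E.IsModel p G ι)
    (𝒜 : Set (Subgroup Ω)) (h𝒜 : ∀ A ∈ 𝒜, A ≤ S ∧ IsMulCommutative ↥A) (hne : 𝒜.Nonempty)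
    (hinv : ∀ Q : Subgroup Ω, Q ≤ S → (∃ A ∈ 𝒜, A ≤ Q) → ∀ α ∈ E.autGroup Q, ∀ x : ↥Q,
      (x : Ω) ∈ (⨅ A ∈ {A : Subgroup Ω | A ∈ 𝒜 ∧ A ≤ Q}, A) →
      (((α : MulAut ↥Q) x : ↥Q) : Ω) ∈ (⨅ A ∈ {A : Subgroup Ω | A ∈ 𝒜 ∧ A ≤ Q}, A))
    (hrep : ∀ B : Subgroup Ω, B ≤ S → ⁅⁅B, B⁆, B⁆ = ⊥ → (∃ A ∈ 𝒜, ⁅B, B⁆ ≤ A ∧ ¬ B ≤ A) →
      ∃ A ∈ 𝒜, ⁅B, B⁆ ≤ A ∧ ¬ B ≤ A ∧ B ≤ Subgroup.normalizer (A : Set Ω)) :
    E.IsNormal (⨅ A ∈ 𝒜, A) := by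
  have hmax := fun H hH => ax_model_maximal E hsp hM H hH
  obtain ⟨hfin, hreal, ⟨T, hT⟩, hcen⟩ := hM
  have hinj := hreal.1
  have hmax' : ∀ H : Subgroup G, (T : Subgroup G) ≤ H → H = T ∨ H = ⊤ := by
    intro H hH
    rw [hT] at hH ⊢
    exact hmax H hH
  have hst := ax_pstable_of_maximal_sylow hp T hmax'
  have himr : ∀ Y : Subgroup Ω, imageAlong ι Y ≤ ι.range := by
    rintro Y _ ⟨s, -, rfl⟩
    exact ⟨s, rfl⟩
  have hcoe : ∀ s t : S, ((⁅s, t⁆ : S) : Ω) = ⁅(s : Ω), (t : Ω)⁆ := fun s t => rfl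
  -- (1) the image family consists of abelian subgroups of `T`
  have h1 : ∀ A' ∈ axImg ι 𝒜, A' ≤ (T : Subgroup G) ∧ ∀ x ∈ A', ∀ y ∈ A', x * y = y * x := by
    rintro _ ⟨A, hA, rfl⟩
    refine ⟨by rw [hT]; exact himr A, ?_⟩
    rintro _ ⟨s, hs, rfl⟩ _ ⟨t, ht, rfl⟩
    have hAc := (h𝒜 A hA).2
    have h2 := hAc.is_comm.comm (⟨s, Subgroup.mem_subgroupOf.mp hs⟩ : A)
      ⟨t, Subgroup.mem_subgroupOf.mp ht⟩
    have h3 : s * t = t * s := Subtype.ext (congrArg (fun a : ↥A => (a : Ω)) h2)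
    rw [← map_mul, ← map_mul, h3]
  have h2 : (axImg ι 𝒜).Nonempty := hne.image _
  -- (3) invariance
  have h3 : ∀ R : Subgroup G, R ≤ (T : Subgroup G) → (∃ A' ∈ axImg ι 𝒜, A' ≤ R) →
      ∀ m ∈ Subgroup.normalizer (R : Set G), ∀ y ∈ axI (axImg ι 𝒜) R,
        m * y * m⁻¹ ∈ axI (axImg ι 𝒜) R := by
    rintro R hRT ⟨_, ⟨A₁, hA₁, rfl⟩, hA₁R⟩ m hm y hy
    have hRr : R ≤ ι.range := hT ▸ hRT
    have hR₀S : preimageAlong ι R ≤ S := Helper85.preimageAlong_le ι R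
    have hmemR : ∀ s : S, (s : Ω) ∈ preimageAlong ι R ↔ ι s ∈ R := fun s => by
      rw [Helper85.mem_preimageAlong]
      exact ⟨fun ⟨_, h⟩ => h, fun h => ⟨s.2, h⟩⟩
    have hle : ∀ A : Subgroup Ω, A ≤ S → (imageAlong ι A ≤ R ↔ A ≤ preimageAlong ι R) := by
      intro A hAS
      constructor
      · intro h a ha
        exact (hmemR ⟨a, hAS ha⟩).mpr (h ((ax_mem_imageAlong_iff hinj A ⟨a, hAS ha⟩).mpr ha))
      · rintro h _ ⟨t, ht, rfl⟩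
        exact (hmemR t).mp (h (Subgroup.mem_subgroupOf.mp ht))
    have hA₁R₀ : A₁ ≤ preimageAlong ι R := (hle A₁ (h𝒜 A₁ hA₁).1).mp hA₁R
    have hconj : ∀ x : ↥(preimageAlong ι R), m * ι ⟨x, hR₀S x.2⟩ * m⁻¹ ∈ R := fun x =>
      (Subgroup.mem_normalizer_iff.mp hm _).mp ((hmemR ⟨x, hR₀S x.2⟩).mp x.2)
    obtain ⟨ψ, hψ, hψι⟩ := exists_conj_hom E hreal hR₀S m (fun x => hRr (hconj x))
    have hψR : ∀ x : ↥(preimageAlong ι R), ψ x ∈ preimageAlong ι R := by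
      intro x
      obtain ⟨hx, h2⟩ := hψι x
      apply (hmemR ⟨ψ x, hx⟩).mpr
      rw [h2]
      exact hconj x
    obtain ⟨α, hα, hαψ⟩ := ax_exists_aut_of_hom E hψ hψR
    have hy' := Subgroup.mem_sInf.mp hy
    have hyA₁ : y ∈ imageAlong ι A₁ := hy' _ ⟨⟨A₁, hA₁, rfl⟩, hA₁R⟩
    obtain ⟨s, hsA, rfl⟩ := hyA₁
    have hsR₀ : (s : Ω) ∈ preimageAlong ι R := hA₁R₀ (Subgroup.mem_subgroupOf.mp hsA)
    have hsI : (s : Ω) ∈ (⨅ A ∈ {A : Subgroup Ω | A ∈ 𝒜 ∧ A ≤ preimageAlong ι R}, A) := by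
      simp only [Subgroup.mem_iInf]
      rintro A ⟨hA, hAR₀⟩
      have h4 := hy' _ ⟨⟨A, hA, rfl⟩, (hle A (h𝒜 A hA).1).mpr hAR₀⟩
      exact (ax_mem_imageAlong_iff hinj A s).mp h4
    have h5 := hinv _ hR₀S ⟨A₁, hA₁, hA₁R₀⟩ α hα ⟨s, hsR₀⟩ hsI
    simp only [Subgroup.mem_iInf] at h5
    apply Subgroup.mem_sInf.mpr
    rintro _ ⟨⟨A, hA, rfl⟩, hAR⟩
    have h6 : ((α ⟨s, hsR₀⟩ : ↥(preimageAlong ι R)) : Ω) ∈ A :=
      h5 A ⟨hA, (hle A (h𝒜 A hA).1).mp hAR⟩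
    obtain ⟨hx, h7⟩ := hψι ⟨s, hsR₀⟩
    have h8 : m * ι s * m⁻¹ = ι ⟨ψ ⟨s, hsR₀⟩, hx⟩ := h7.symm
    rw [h8]
    apply (ax_mem_imageAlong_iff hinj A ⟨ψ ⟨s, hsR₀⟩, hx⟩).mpr
    show ψ ⟨s, hsR₀⟩ ∈ A
    rw [← hαψ]
    exact h6
  -- (4) replacement
  have h4 : ∀ B : Subgroup G, B.Normal → IsPGroup p B →
      ⁅B, B⁆ ≤ Subgroup.centralizer (B : Set G) →
      (∃ A' ∈ axImg ι 𝒜, ⁅B, B⁆ ≤ A' ∧ ¬ B ≤ A') →
      ∃ A' ∈ axImg ι 𝒜, ⁅B, B⁆ ≤ A' ∧ ¬ B ≤ A' ∧ B ≤ Subgroup.normalizer (A' : Set G) := by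
    rintro B hBn hBp hcl ⟨_, ⟨A, hA, rfl⟩, hB'A, hBA⟩
    have hBr : B ≤ ι.range := by
      rw [← hT]
      exact hBp.le_sylow_of_normal T
    have hB₀S : preimageAlong ι B ≤ S := Helper85.preimageAlong_le ι B
    have hmemB : ∀ s : S, (s : Ω) ∈ preimageAlong ι B ↔ ι s ∈ B := fun s => by
      rw [Helper85.mem_preimageAlong]
      exact ⟨fun ⟨_, h⟩ => h, fun h => ⟨s.2, h⟩⟩
    have hcomm : ∀ s t : S, (s : Ω) ∈ preimageAlong ι B → (t : Ω) ∈ preimageAlong ι B →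
        ι ⁅s, t⁆ ∈ ⁅B, B⁆ := by
      intro s t hs ht
      rw [map_commutatorElement]
      exact Subgroup.commutator_mem_commutator ((hmemB s).mp hs) ((hmemB t).mp ht)
    have hcl₀ : ⁅⁅preimageAlong ι B, preimageAlong ι B⁆, preimageAlong ι B⁆ = ⊥ := by
      rw [Subgroup.commutator_eq_bot_iff_le_centralizer, Subgroup.commutator_le]
      intro x hx y hy
      rw [Subgroup.mem_centralizer_iff]
      intro z hz
      have h5 := hcomm ⟨x, hB₀S hx⟩ ⟨y, hB₀S hy⟩ hx hy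
      have h6 := (Subgroup.mem_centralizer_iff.mp (hcl h5)) (ι ⟨z, hB₀S hz⟩)
        ((hmemB ⟨z, hB₀S hz⟩).mp hz)
      have h7 : (⟨z, hB₀S hz⟩ : S) * ⁅(⟨x, hB₀S hx⟩ : S), ⟨y, hB₀S hy⟩⁆ =
          ⁅(⟨x, hB₀S hx⟩ : S), ⟨y, hB₀S hy⟩⁆ * ⟨z, hB₀S hz⟩ :=
        hinj (by rw [map_mul, map_mul, h6])
      exact congrArg Subtype.val h7
    have hB₀'A : ⁅preimageAlong ι B, preimageAlong ι B⁆ ≤ A := by
      rw [Subgroup.commutator_le]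
      intro x hx y hy
      have h5 := hB'A (hcomm ⟨x, hB₀S hx⟩ ⟨y, hB₀S hy⟩ hx hy)
      exact (ax_mem_imageAlong_iff hinj A _).mp h5
    have hB₀A : ¬ preimageAlong ι B ≤ A := by
      intro h
      apply hBA
      intro b hb
      obtain ⟨s, rfl⟩ := hBr hb
      exact (ax_mem_imageAlong_iff hinj A s).mpr (h ((hmemB s).mpr hb))
    obtain ⟨A₂, hA₂, hB₀'A₂, hB₀A₂, hB₀N⟩ := hrep _ hB₀S hcl₀ ⟨A, hA, hB₀'A, hB₀A⟩
    refine ⟨imageAlong ι A₂, ⟨A₂, hA₂, rfl⟩, ?_, ?_, ?_⟩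
    · rw [Subgroup.commutator_le]
      intro b hb c hc
      obtain ⟨s, rfl⟩ := hBr hb
      obtain ⟨t, rfl⟩ := hBr hc
      rw [← map_commutatorElement]
      apply (ax_mem_imageAlong_iff hinj A₂ ⁅s, t⁆).mpr
      rw [hcoe]
      exact hB₀'A₂ (Subgroup.commutator_mem_commutator ((hmemB s).mpr hb) ((hmemB t).mpr hc))
    · intro h
      apply hB₀A₂
      intro x hx
      exact (ax_mem_imageAlong_iff hinj A₂ ⟨x, hB₀S hx⟩).mp
        (h ((hmemB ⟨x, hB₀S hx⟩).mp hx))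
    · intro b hb
      obtain ⟨s, rfl⟩ := hBr hb
      have hsN := hB₀N ((hmemB s).mpr hb)
      apply mem_normalizer_of_forall_conj_mem
      rintro _ ⟨t, ht, rfl⟩
      have h5 : (s : Ω) * (t : Ω) * (s : Ω)⁻¹ ∈ A₂ :=
        (Subgroup.mem_normalizer_iff.mp hsN _).mp (Subgroup.mem_subgroupOf.mp ht)
      have h6 : ι s * ι t * (ι s)⁻¹ = ι (s * t * s⁻¹) := by rw [map_mul, map_mul, map_inv]
      rw [h6]
      exact (ax_mem_imageAlong_iff hinj A₂ (s * t * s⁻¹)).mpr h5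
  have hnorm := ax_zj_normal hcen hst T (axImg ι 𝒜) h1 h2 h3 h4
  obtain ⟨A₀, hA₀⟩ := hne
  have hZS : (⨅ A ∈ 𝒜, A) ≤ S := (iInf₂_le A₀ hA₀).trans (h𝒜 A₀ hA₀).1
  have heq : imageAlong ι (⨅ A ∈ 𝒜, A) = axI (axImg ι 𝒜) (T : Subgroup G) := by
    ext y
    constructor
    · rintro ⟨s, hs, rfl⟩
      apply Subgroup.mem_sInf.mpr
      rintro _ ⟨⟨A, hA, rfl⟩, -⟩
      have h5 : (s : Ω) ∈ (⨅ A ∈ 𝒜, A) := Subgroup.mem_subgroupOf.mp hs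
      simp only [Subgroup.mem_iInf] at h5
      exact (ax_mem_imageAlong_iff hinj A s).mpr (h5 A hA)
    · intro hy
      have h5 := Subgroup.mem_sInf.mp hy
      obtain ⟨s, hs, rfl⟩ := h5 _ ⟨⟨A₀, hA₀, rfl⟩, (h1 _ ⟨A₀, hA₀, rfl⟩).1⟩
      apply (ax_mem_imageAlong_iff hinj _ s).mpr
      simp only [Subgroup.mem_iInf]
      intro A hA
      exact (ax_mem_imageAlong_iff hinj A s).mp (h5 _ ⟨⟨A, hA, rfl⟩, (h1 _ ⟨A, hA, rfl⟩).1⟩)
  exact ax_isNormal_of_image_normal E hreal hZS (heq ▸ hnorm)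

/-- The normalizer system of any subgroup of `S` in the inner system is inner. -/
theorem ax_nsys_inner [Finite S] (F : FusionSystem S)
    (hin : ∀ P : Subgroup Ω, F.Hom P = (innerFusionSystem S).Hom P) (Z : Subgroup Ω)
    (hZS : Z ≤ S) (N : FusionSystem (normalizerIn S Z)) (hN : F.IsNormalizerSystem Z N) :
    ∀ P : Subgroup Ω, N.Hom P = (innerFusionSystem (normalizerIn S Z)).Hom P := by
  have hfZ : Finite Z := finite_of_le hZS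
  intro P
  ext φ
  rw [hN P]
  constructor
  · rintro ⟨hφF, hPN, hφN, ψ, hψ, hψφ, hψZ⟩
    rw [hin] at hψ
    obtain ⟨hPZ, g, hg, hgψ⟩ := hψ
    refine ⟨hPN, g, ⟨hg, ?_⟩, fun x => ?_⟩
    · apply mem_normalizer_of_forall_conj_mem
      intro z hz
      have h1 : ψ ⟨z, le_sup_right (a := P) hz⟩ ∈ (Z.subgroupOf (P ⊔ Z)).map ψ :=
        ⟨_, Subgroup.mem_subgroupOf.mpr hz, rfl⟩
      rw [hψZ, hgψ] at h1
      exact h1
    · rw [← hψφ x, hgψ]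
      rfl
  · rintro ⟨hPN, g, hg, hgφ⟩
    have hPS : P ≤ S := hPN.trans inf_le_left
    refine ⟨?_, hPN, ?_, ?_⟩
    · rw [hin]
      exact ⟨hPS, g, hg.1, hgφ⟩
    · intro x
      rw [hgφ]
      exact (normalizerIn S Z).mul_mem ((normalizerIn S Z).mul_mem hg (hPN x.2))
        ((normalizerIn S Z).inv_mem hg)
    · refine ⟨conjHom (P ⊔ Z) g, ?_, fun x => (hgφ x).symm, ?_⟩
      · rw [hin]
        exact ⟨sup_le hPS hZS, g, hg.1, fun x => rfl⟩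
      · ext z
        constructor
        · rintro ⟨y, hy, rfl⟩
          exact (Subgroup.mem_normalizer_iff.mp hg.2 _).mp (Subgroup.mem_subgroupOf.mp hy)
        · intro hz
          have h1 : g⁻¹ * z * g ∈ Z := (Subgroup.mem_normalizer_iff''.mp hg.2 z).mp hz
          refine ⟨⟨g⁻¹ * z * g, le_sup_right (a := P) h1⟩, Subgroup.mem_subgroupOf.mpr h1, ?_⟩
          show g * (g⁻¹ * z * g) * g⁻¹ = z
          group

/-- **Axiomatic Glauberman–Thompson nilpotency criterion**: if the normalizer system of the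
intersection of the family is inner, then the system is inner. -/
theorem ax_inner_of_nsys_inner [Finite S] (p : ℕ) [Fact p.Prime] (hS : IsPGroup p S)
    (F : FusionSystem S) (hF : F.IsSaturated p) (hp : p ≠ 2)
    (𝒜 : Set (Subgroup Ω)) (h𝒜 : ∀ A ∈ 𝒜, A ≤ S ∧ IsMulCommutative ↥A) (hne : 𝒜.Nonempty)
    (hinv : ∀ Q : Subgroup Ω, Q ≤ S → (∃ A ∈ 𝒜, A ≤ Q) → ∀ α ∈ F.autGroup Q, ∀ x : ↥Q,
      (x : Ω) ∈ (⨅ A ∈ {A : Subgroup Ω | A ∈ 𝒜 ∧ A ≤ Q}, A) →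
      (((α : MulAut ↥Q) x : ↥Q) : Ω) ∈ (⨅ A ∈ {A : Subgroup Ω | A ∈ 𝒜 ∧ A ≤ Q}, A))
    (hrep : ∀ B : Subgroup Ω, B ≤ S → ⁅⁅B, B⁆, B⁆ = ⊥ → (∃ A ∈ 𝒜, ⁅B, B⁆ ≤ A ∧ ¬ B ≤ A) →
      ∃ A ∈ 𝒜, ⁅B, B⁆ ≤ A ∧ ¬ B ≤ A ∧ B ≤ Subgroup.normalizer (A : Set Ω))
    (hN : ∀ N : FusionSystem (normalizerIn S (⨅ A ∈ 𝒜, A)),
      F.IsNormalizerSystem (⨅ A ∈ 𝒜, A) N →
      ∀ P : Subgroup Ω, N.Hom P = (innerFusionSystem (normalizerIn S (⨅ A ∈ 𝒜, A))).Hom P) :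
    ∀ P : Subgroup Ω, F.Hom P = (innerFusionSystem S).Hom P := by
  by_contra hni
  obtain ⟨E, hEF, hEsat, hEni, hEsp⟩ := exists_min_noninner p F hF hni
  have hEc := sparse_isConstrained p hS E hEsat hEni hEsp (Or.inl hp)
  obtain ⟨G, _, ι, hM⟩ := constrained_exists_model p hS E hEc
  have hinvE : ∀ Q : Subgroup Ω, Q ≤ S → (∃ A ∈ 𝒜, A ≤ Q) → ∀ α ∈ E.autGroup Q, ∀ x : ↥Q,
      (x : Ω) ∈ (⨅ A ∈ {A : Subgroup Ω | A ∈ 𝒜 ∧ A ≤ Q}, A) →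
      (((α : MulAut ↥Q) x : ↥Q) : Ω) ∈ (⨅ A ∈ {A : Subgroup Ω | A ∈ 𝒜 ∧ A ≤ Q}, A) := by
    intro Q hQ hex α hα
    apply hinv Q hQ hex α
    rw [mem_autGroup_iff F hQ]
    exact hEF Q ((mem_autGroup_iff E hQ α).mp hα)
  have hZn : E.IsNormal (⨅ A ∈ 𝒜, A) := ax_family_isNormal hp E hEsp hM 𝒜 h𝒜 hne hinvE hrep
  have hZS := hZn.1
  obtain ⟨N, hNsys⟩ := exists_normalizerSystem F (⨅ A ∈ 𝒜, A) hZS
  have hTeq : normalizerIn S (⨅ A ∈ 𝒜, A) = S := inf_eq_left.mpr (normal_le_normalizer E hZn)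
  apply hEni
  intro P
  apply Set.Subset.antisymm _ (inner_le E P)
  intro φ hφ
  obtain ⟨ψ, hψ, hψφ, hψZ⟩ := hZn.2 P φ hφ
  have hφN : φ ∈ N.Hom P := by
    rw [hNsys P]
    refine ⟨hEF P hφ, ?_, ?_, ψ, hEF _ hψ, hψφ, hψZ⟩
    · rw [hTeq]
      exact hom_le E hφ
    · intro x
      rw [hTeq]
      exact hom_mem E hφ x
  rw [hN N hNsys P] at hφN
  obtain ⟨hP, g, hg, hgφ⟩ := hφN
  exact ⟨hom_le E hφ, g, hg.1, hgφ⟩

end AxFus

end Cfsg.Agent.Helper87
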