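import Mathlib
import Cfsg.Prelude.Def_PLocal
import Cfsg.Agent.Helper11.ZJ

/-!
# An axiomatic form of Glauberman's ZJ-theorem (helper87)

For a family `𝒜` of abelian subgroups of a Sylow `p`-subgroup `S` of a finite group `G` acting
`p`-stably on its normal `p`-subgroups, with `C_G(O_p(G)) ≤ O_p(G)`, satisfying an invariance axiom and
a replacement axiom, the intersection of the members of `𝒜` is normal in `G`.  The proof follows
`Helper11.zj_inf_normal`.
-/

set_option autoImplicit false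

namespace Cfsg.Agent.Helper87

open Cfsg
open scoped commutatorElement

section AxZJ

variable {G : Type*} [Group G]

/-- The intersection of the members of `𝒜` contained in `R`. -/
def axI (𝒜 : Set (Subgroup G)) (R : Subgroup G) : Subgroup G := sInf {A | A ∈ 𝒜 ∧ A ≤ R}

/-- The key step: the intersection `X` of the family meets every normal `p`-subgroup in a normal
subgroup. -/
theorem ax_zj_inf_normal [Finite G] {p : ℕ} [Fact p.Prime]
    (hst : ∀ (P : Subgroup G) [P.Normal], IsPGroup p P → IsPStableOn p P) (S : Sylow p G)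
    (𝒜 : Set (Subgroup G))
    (h𝒜 : ∀ A ∈ 𝒜, A ≤ (S : Subgroup G) ∧ ∀ x ∈ A, ∀ y ∈ A, x * y = y * x) (hne : 𝒜.Nonempty)
    (hinv : ∀ R : Subgroup G, R ≤ (S : Subgroup G) → (∃ A ∈ 𝒜, A ≤ R) →
      ∀ m ∈ Subgroup.normalizer (R : Set G), ∀ y ∈ axI 𝒜 R, m * y * m⁻¹ ∈ axI 𝒜 R)
    (hrep : ∀ B : Subgroup G, B.Normal → IsPGroup p B →
      ⁅B, B⁆ ≤ Subgroup.centralizer (B : Set G) → (∃ A ∈ 𝒜, ⁅B, B⁆ ≤ A ∧ ¬ B ≤ A) →
      ∃ A ∈ 𝒜, ⁅B, B⁆ ≤ A ∧ ¬ B ≤ A ∧ B ≤ Subgroup.normalizer (A : Set G)) :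
    ∀ (n : ℕ) (B : Subgroup G), B.Normal → IsPGroup p B → Nat.card B ≤ n →
      (axI 𝒜 (S : Subgroup G) ⊓ B).Normal := by
  intro n
  induction n with
  | zero =>
    intro B _ _ hcard
    have := Nat.card_pos (α := B)
    omega
  | succ n ih =>
    intro B hBn hBp hcard
    by_contra hnot
    set X := axI 𝒜 (S : Subgroup G) with hXdef
    obtain ⟨A₀, hA₀⟩ := hne
    have hXA : ∀ A ∈ 𝒜, X ≤ A := fun A hA => sInf_le ⟨hA, (h𝒜 A hA).1⟩
    have hXS : X ≤ S := (hXA A₀ hA₀).trans (h𝒜 A₀ hA₀).1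
    have hXnorm : ∀ s ∈ (S : Subgroup G), ∀ x ∈ X, s * x * s⁻¹ ∈ X := fun s hs x hx =>
      hinv S le_rfl ⟨A₀, hA₀, (h𝒜 A₀ hA₀).1⟩ s (Subgroup.le_normalizer hs) x hx
    have hXcomm : ∀ x ∈ X, ∀ y ∈ X, x * y = y * x := fun x hx y hy =>
      (h𝒜 A₀ hA₀).2 x (hXA A₀ hA₀ hx) y (hXA A₀ hA₀ hy)
    have hBS : B ≤ S := hBp.le_sylow_of_normal S
    -- Step 1: `B` is the normal closure of `X ⊓ B`
    set L₀ := Subgroup.normalClosure ((X ⊓ B : Subgroup G) : Set G) with hL₀def
    have hL₀B : L₀ ≤ B := Subgroup.normalClosure_le_normal (fun x hx => hx.2)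
    have hL₀n : L₀.Normal := Subgroup.normalClosure_normal
    have hXL₀ : X ⊓ L₀ = X ⊓ B :=
      le_antisymm (inf_le_inf_left X hL₀B) (le_inf inf_le_left Subgroup.le_normalClosure)
    have hL₀eq : L₀ = B := by
      by_contra hne'
      have hcardlt : Nat.card L₀ < Nat.card B := by
        by_contra hge
        exact hne' (Subgroup.eq_of_le_of_card_ge hL₀B (not_lt.mp hge))
      have := ih L₀ hL₀n (hBp.to_le hL₀B) (by omega)
      rw [hXL₀] at this
      exact hnot this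
    -- Step 2: the commutator subgroup
    have hBbot : B ≠ ⊥ := by
      intro hB
      apply hnot
      rw [hB, inf_bot_eq]
      infer_instance
    have hB'n : (⁅B, B⁆ : Subgroup G).Normal := inferInstance
    have hB'B : ⁅B, B⁆ ≤ B := Subgroup.commutator_le_right B B
    have hB'card : Nat.card (⁅B, B⁆ : Subgroup G) < Nat.card B := by
      by_contra hge
      exact Helper11.commutator_ne_self_of_isPGroup B hBp hBbot
        (Subgroup.eq_of_le_of_card_ge hB'B (not_lt.mp hge))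
    have hN₀ : (X ⊓ ⁅B, B⁆).Normal := ih ⁅B, B⁆ hB'n (hBp.to_le hB'B) (by omega)
    have hB'le : ⁅B, B⁆ ≤ X ⊓ ⁅B, B⁆ := by
      have key : ∀ w ∈ ((X ⊓ B : Subgroup G) : Set G), ∀ y ∈ B, ⁅w, y⁆ ∈ X ⊓ ⁅B, B⁆ := by
        intro w hw y hy
        rw [Subgroup.mem_inf]
        constructor
        · have h1 := hXnorm y (hBS hy) w⁻¹ (X.inv_mem hw.1)
          have e : ⁅w, y⁆ = w * (y * w⁻¹ * y⁻¹) := by
            simp only [commutatorElement_def]; group
          rw [e]
          exact X.mul_mem hw.1 h1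
        · exact Subgroup.commutator_mem_commutator hw.2 hy
      have h2 := Helper11.commutator_mem_of_mem_normalClosure _ B (X ⊓ ⁅B, B⁆) key
      rw [Subgroup.commutator_le]
      intro x hx y hy
      apply h2 x _ y hy
      rw [← hL₀def, hL₀eq]
      exact hx
    have hB'X : ⁅B, B⁆ ≤ X := hB'le.trans inf_le_left
    have hcl2 : ⁅B, B⁆ ≤ Subgroup.centralizer (B : Set G) := by
      have hcn : (Subgroup.centralizer ((X ⊓ ⁅B, B⁆ : Subgroup G) : Set G)).Normal := inferInstance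
      have h1 : L₀ ≤ Subgroup.centralizer ((X ⊓ ⁅B, B⁆ : Subgroup G) : Set G) := by
        apply Subgroup.normalClosure_le_normal
        intro w hw
        rw [SetLike.mem_coe, Subgroup.mem_centralizer_iff]
        intro c hc
        exact hXcomm c hc.1 w hw.1
      rw [hL₀eq] at h1
      intro c hc
      rw [Subgroup.mem_centralizer_iff]
      intro b hb
      exact ((Subgroup.mem_centralizer_iff.mp (h1 hb)) c (hB'le hc)).symm
    -- Step 3: the centralizer of `B` and the preimage of `O_p(G / C)`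
    set C := Subgroup.centralizer (B : Set G) with hCdef
    have hCn : C.Normal := inferInstance
    set L := (pCore p (G ⧸ C)).comap (QuotientGroup.mk' C) with hLdef
    have hLn : L.Normal := (Helper11.pCore_normal p (G ⧸ C)).comap (QuotientGroup.mk' C)
    set R := (S : Subgroup G) ⊓ L with hRdef
    have hLRC : ∀ x ∈ L, ∃ r ∈ R, ∃ c ∈ C, x = r * c := by
      intro x hx
      have h1 : pCore p (G ⧸ C) ≤ S.mapSurjective (QuotientGroup.mk'_surjective C) :=
        Helper11.pCore_le_sylow _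
      have h2 := h1 (Subgroup.mem_comap.mp hx)
      obtain ⟨s, hs, hsx⟩ := h2
      have hsL : s ∈ L := by
        rw [hLdef, Subgroup.mem_comap, hsx]
        exact Subgroup.mem_comap.mp hx
      have hc : s⁻¹ * x ∈ C := QuotientGroup.eq.mp hsx
      exact ⟨s, Subgroup.mem_inf.mpr ⟨hs, hsL⟩, s⁻¹ * x, hc, by group⟩
    have hfact : ∀ g : G, ∃ c ∈ C, ∃ m ∈ Subgroup.normalizer (R : Set G), g = c * m := by
      intro g
      obtain ⟨l, hl, m, hm, rfl⟩ := Helper11.frattini_inf S L g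
      obtain ⟨r, hr, c, hc, rfl⟩ := hLRC l hl
      exact ⟨r * c * r⁻¹, hCn.conj_mem c hc r, r * m,
        Subgroup.mul_mem _ (Subgroup.le_normalizer hr) hm, by group⟩
    -- Step 4: a subgroup normalized by `N(R)` meets `B` in a normal subgroup
    have hnormal : ∀ Y : Subgroup G,
        (∀ m ∈ Subgroup.normalizer (R : Set G), ∀ y ∈ Y, m * y * m⁻¹ ∈ Y) → (Y ⊓ B).Normal := by
      intro Y hY
      constructor
      intro z hz g
      obtain ⟨c, hc, m, hm, rfl⟩ := hfact g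
      rw [Subgroup.mem_inf] at hz
      have h1 : m * z * m⁻¹ ∈ Y ⊓ B :=
        Subgroup.mem_inf.mpr ⟨hY m hm z hz.1, hBn.conj_mem z hz.2 m⟩
      have h2 : m * z * m⁻¹ * c = c * (m * z * m⁻¹) :=
        (Subgroup.mem_centralizer_iff.mp hc) _ (Subgroup.mem_inf.mp h1).2
      have e : c * m * z * (c * m)⁻¹ = c * (m * z * m⁻¹) * c⁻¹ := by group
      rw [e, ← h2]
      have e2 : m * z * m⁻¹ * c * c⁻¹ = m * z * m⁻¹ := by group
      rw [e2]
      exact h1
    -- Step 5: the two cases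
    by_cases hall : ∀ A ∈ 𝒜, B ≤ A
    · apply hnot
      have hBX : B ≤ X := le_sInf (fun A hA => hall A hA.1)
      rw [inf_eq_right.mpr hBX]
      exact hBn
    · simp only [not_forall] at hall
      obtain ⟨A, hA, hBA⟩ := hall
      have hB'A : ⁅B, B⁆ ≤ A := hB'X.trans (hXA A hA)
      obtain ⟨A', hA', hB'A', hBA', hBN⟩ := hrep B hBn hBp hcl2 ⟨A, hA, hB'A, hBA⟩
      have hA'L : A' ≤ L := by
        intro a ha
        have hquad : ⁅⁅B, Subgroup.zpowers a⁆, Subgroup.zpowers a⁆ = ⊥ := by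
          have hza : Subgroup.zpowers a ≤ A' := (Subgroup.zpowers_le).mpr ha
          have h1 : ⁅B, Subgroup.zpowers a⁆ ≤ A' := by
            rw [Subgroup.commutator_le]
            intro b hb z hz
            have hzA : z ∈ A' := hza hz
            have := ((Subgroup.mem_normalizer_iff.mp (hBN hb)) z).mp hzA
            rw [commutatorElement_def]
            exact A'.mul_mem this (A'.inv_mem hzA)
          have h2 : ⁅A', A'⁆ = ⊥ := by
            rw [eq_bot_iff, Subgroup.commutator_le]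
            intro x hx y hy
            rw [Subgroup.mem_bot, commutatorElement_eq_one_iff_mul_comm]
            exact (h𝒜 A' hA').2 x hx y hy
          rw [eq_bot_iff, ← h2]
          exact Subgroup.commutator_mono h1 hza
        have := hst B hBp a hquad
        exact Subgroup.mem_comap.mpr this
      have hA'R : A' ≤ R := le_inf (h𝒜 A' hA').1 hA'L
      have hIRn : (axI 𝒜 R ⊓ B).Normal :=
        hnormal _ (fun m hm y hy => hinv R inf_le_left ⟨A', hA', hA'R⟩ m hm y hy)
      have hXIR : X ≤ axI 𝒜 R := by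
        apply le_sInf
        intro A₁ hA₁
        exact hXA A₁ hA₁.1
      have hIRA' : axI 𝒜 R ≤ A' := sInf_le ⟨hA', hA'R⟩
      have hBle : L₀ ≤ axI 𝒜 R ⊓ B :=
        Subgroup.normalClosure_le_normal (inf_le_inf_right B hXIR)
      rw [hL₀eq] at hBle
      exact hBA' ((hBle.trans inf_le_left).trans hIRA')

/-- **Axiomatic ZJ-theorem**: the intersection of the family is normal in `G`. -/
theorem ax_zj_normal [Finite G] {p : ℕ} [Fact p.Prime]
    (hc : Subgroup.centralizer (pCore p G : Set G) ≤ pCore p G)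
    (hst : ∀ (P : Subgroup G) [P.Normal], IsPGroup p P → IsPStableOn p P) (S : Sylow p G)
    (𝒜 : Set (Subgroup G))
    (h𝒜 : ∀ A ∈ 𝒜, A ≤ (S : Subgroup G) ∧ ∀ x ∈ A, ∀ y ∈ A, x * y = y * x) (hne : 𝒜.Nonempty)
    (hinv : ∀ R : Subgroup G, R ≤ (S : Subgroup G) → (∃ A ∈ 𝒜, A ≤ R) →
      ∀ m ∈ Subgroup.normalizer (R : Set G), ∀ y ∈ axI 𝒜 R, m * y * m⁻¹ ∈ axI 𝒜 R)
    (hrep : ∀ B : Subgroup G, B.Normal → IsPGroup p B →
      ⁅B, B⁆ ≤ Subgroup.centralizer (B : Set G) → (∃ A ∈ 𝒜, ⁅B, B⁆ ≤ A ∧ ¬ B ≤ A) →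
      ∃ A ∈ 𝒜, ⁅B, B⁆ ≤ A ∧ ¬ B ≤ A ∧ B ≤ Subgroup.normalizer (A : Set G)) :
    (axI 𝒜 (S : Subgroup G)).Normal := by
  set X := axI 𝒜 (S : Subgroup G) with hXdef
  obtain ⟨A₀, hA₀⟩ := hne
  have hXA : ∀ A ∈ 𝒜, X ≤ A := fun A hA => sInf_le ⟨hA, (h𝒜 A hA).1⟩
  have hXnorm : ∀ s ∈ (S : Subgroup G), ∀ x ∈ X, s * x * s⁻¹ ∈ X := fun s hs x hx =>
    hinv S le_rfl ⟨A₀, hA₀, (h𝒜 A₀ hA₀).1⟩ s (Subgroup.le_normalizer hs) x hx
  have hXcomm : ∀ x ∈ X, ∀ y ∈ X, x * y = y * x := fun x hx y hy =>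
    (h𝒜 A₀ hA₀).2 x (hXA A₀ hA₀ hx) y (hXA A₀ hA₀ hy)
  have hQn : (pCore p G).Normal := Helper11.pCore_normal p G
  have hQp : IsPGroup p (pCore p G) := Helper11.pCore_isPGroup p G
  have hQS : pCore p G ≤ S := Helper11.pCore_le_sylow S
  have hXQ : X ≤ pCore p G := by
    intro x hx
    have hquad : ⁅⁅pCore p G, Subgroup.zpowers x⁆, Subgroup.zpowers x⁆ = ⊥ := by
      have hzx : Subgroup.zpowers x ≤ X := (Subgroup.zpowers_le).mpr hx
      have h1 : ⁅pCore p G, Subgroup.zpowers x⁆ ≤ X := by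
        rw [Subgroup.commutator_le]
        intro q hq z hz
        have := hXnorm q (hQS hq) z (hzx hz)
        rw [commutatorElement_def]
        exact X.mul_mem this (X.inv_mem (hzx hz))
      have h2 : ⁅X, X⁆ = ⊥ := by
        rw [eq_bot_iff, Subgroup.commutator_le]
        intro a ha b hb
        rw [Subgroup.mem_bot, commutatorElement_eq_one_iff_mul_comm]
        exact hXcomm a ha b hb
      rw [eq_bot_iff, ← h2]
      exact Subgroup.commutator_mono h1 hzx
    have h1 := hst (pCore p G) hQp x hquad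
    set C := Subgroup.centralizer (pCore p G : Set G) with hCdef
    have hCn : C.Normal := inferInstance
    set M := (pCore p (G ⧸ C)).comap (QuotientGroup.mk' C) with hMdef
    have hMn : M.Normal := (Helper11.pCore_normal p (G ⧸ C)).comap (QuotientGroup.mk' C)
    have hMp : IsPGroup p M := by
      rintro ⟨m, hm⟩
      have hq := Helper11.pCore_isPGroup p (G ⧸ C)
      obtain ⟨k, hk⟩ := hq ⟨QuotientGroup.mk' C m, Subgroup.mem_comap.mp hm⟩
      have h2 : m ^ p ^ k ∈ C := by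
        have h3 := congrArg Subtype.val hk
        rw [Subgroup.coe_pow, Subgroup.coe_one] at h3
        rw [← QuotientGroup.eq_one_iff]
        exact h3
      obtain ⟨j, hj⟩ := hQp ⟨m ^ p ^ k, hc h2⟩
      refine ⟨k + j, ?_⟩
      apply Subtype.ext
      have h4 := congrArg Subtype.val hj
      rw [Subgroup.coe_pow, Subgroup.coe_one] at h4 ⊢
      rw [pow_add, pow_mul]
      exact h4
    exact Helper11.le_pCore M hMp (Subgroup.mem_comap.mpr h1)
  have := ax_zj_inf_normal hst S 𝒜 h𝒜 ⟨A₀, hA₀⟩ hinv hrep (Nat.card (pCore p G)) (pCore p G)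
    hQn hQp le_rfl
  rwa [inf_eq_left.mpr hXQ] at this

end AxZJ

end Cfsg.Agent.Helper87
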