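/-
CALL BG36 (helper2, row S1436), piece P1 (double): an element of order `q ∈ σ(N)` is conjugate
into `N_σ`, and then its centralizer lies in `N`.
-/
import Mathlib
import Cfsg.Agent.S1425
import Cfsg.Agent.Helper73.BG144D

set_option autoImplicit false

namespace Cfsg.Agent.Helper87

open Cfsg Subgroup

universe u

variable {G : Type u} [Group G] [Finite G]

/-- PIECE P1: an element of order `q ∈ σ(N)` is conjugate into `N_σ` (S1425) and then its
centralizer lies in `N` (`Helper73.bg144_cent_le`). -/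
theorem bg36_conj_in (hG : IsMinSimpleOddOrder G) {M N : Subgroup G} (hM : IsCoatom M) {x : G}
    (hx : x ∈ sigmaCore M) (hx1 : x ≠ 1) (hxM : ¬ centralizer ({x} : Set G) ≤ M)
    (hN : IsCoatom N) (hxN : centralizer ({x} : Set G) ≤ N) {q : ℕ} (hq : q ∈ sigma N)
    (hqM : q ∣ Nat.card M) {z : G} (hzq : orderOf z = q) :
    ∃ g : G, g * z * g⁻¹ ∈ sigmaCore N ∧ centralizer ({g * z * g⁻¹} : Set G) ≤ N := by
  have hqp : q.Prime := hq.1
  have hz1 : z ≠ 1 := by
    intro h
    rw [h, orderOf_one] at hzq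
    exact hqp.one_lt.ne hzq
  have hY1 : zpowers z ≠ ⊥ := fun h => hz1 (Subgroup.zpowers_eq_bot.mp h)
  have hY : ∀ p : ℕ, p.Prime → p ∣ Nat.card (zpowers z) → p ∈ sigma N := by
    intro p hp hpd
    rw [Nat.card_zpowers, hzq] at hpd
    rw [(Nat.prime_dvd_prime_iff_eq hp hqp).mp hpd]
    exact hq
  obtain ⟨g, hg⟩ := Cfsg.Agent.S1425.result hG N hN (zpowers z) hY1 hY
  have hmem : g * z * g⁻¹ ∈ sigmaCore N :=
    hg (Subgroup.mem_map.mpr ⟨z, Subgroup.mem_zpowers z, rfl⟩)
  have hord : orderOf (g * z * g⁻¹) = q := by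
    rw [← hzq]
    exact (MulAut.conj g).orderOf_eq z
  exact ⟨g, hmem, Cfsg.Agent.Helper73.bg144_cent_le hG hM hx hx1 hxM hN hxN hq hqM hmem hord⟩

end Cfsg.Agent.Helper87
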