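/-
CALL BG36 (helper2, row S1436), piece T4 (double): an element `z ∈ M` of order `q` acts
fixed-point-freely on `M_σ`.
-/
import Mathlib
import Cfsg.Agent.S1432
import Cfsg.Agent.Helper54.BG14T4
import Cfsg.Agent.Helper47.Syl

set_option autoImplicit false

namespace Cfsg.Agent.Helper87

open Cfsg Subgroup

universe u

variable {G : Type u} [Group G] [Finite G]

/-- PIECE T4 (step 1): an element `z ∈ M` of order `q` acts fixed-point-freely on `M_σ`
(else S1432 + `κ(M) = ∅` make `M` the only maximal subgroup over `C_G(z)`, but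
`g⁻¹ N g ⊇ C_G(z)` and `σ(g⁻¹ N g) = σ(N) ∋ q ∉ σ(M)`). -/
theorem bg36_step1 (hG : IsMinSimpleOddOrder G) {M N : Subgroup G} (hM : IsCoatom M)
    (hN : IsCoatom N) (hκ : kappa M = ∅) {q : ℕ} (hq : q ∈ sigma N) (hqσ : q ∉ sigma M)
    {z g : G} (hzM : z ∈ M) (hzq : orderOf z = q)
    (hgC : centralizer ({g * z * g⁻¹} : Set G) ≤ N) :
    sigmaCore M ⊓ centralizer ({z} : Set G) = ⊥ := by
  rw [Subgroup.eq_bot_iff_forall]
  intro y hy
  by_contra hy1
  obtain ⟨hyσ, hyc⟩ := Subgroup.mem_inf.mp hy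
  have hqp : q.Prime := hq.1
  have hz1 : z ≠ 1 := by
    intro h
    rw [h, orderOf_one] at hzq
    exact hqp.one_lt.ne hzq
  have hzy : z ∈ M ⊓ centralizer ({y} : Set G) := by
    refine Subgroup.mem_inf.mpr ⟨hzM, ?_⟩
    rw [Cfsg.Agent.Helper54.bg14t_mem_cent]
    exact ((Cfsg.Agent.Helper54.bg14t_mem_cent).mp hyc).symm
  have hσ : ∀ p : ℕ, p.Prime → p ∣ orderOf z → p ∉ sigma M := by
    intro p hp hpd
    rw [hzq] at hpd
    rw [(Nat.prime_dvd_prime_iff_eq hp hqp).mp hpd]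
    exact hqσ
  rcases Cfsg.Agent.S1432.result hG M hM y hyσ hy1 z hzy hz1 hσ with ⟨hk, -⟩ | ⟨-, -, -, huniq⟩
  · have hqκ : q ∈ kappa M := hk q hqp (by rw [hzq])
    rw [hκ] at hqκ
    exact hqκ
  · have hL : IsCoatom (N.map (MulAut.conj g⁻¹).toMonoidHom) :=
      Cfsg.Agent.Helper47.isCoatom_map_conj hN g⁻¹
    have hle : centralizer ({z} : Set G) ≤ N.map (MulAut.conj g⁻¹).toMonoidHom := by
      intro c hc
      rw [Cfsg.Agent.Helper54.bg14t_mem_map_conj, inv_inv]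
      apply hgC
      rw [Cfsg.Agent.Helper54.bg14t_mem_cent_conj]
      have e : g⁻¹ * (g * c * g⁻¹) * g = c := by group
      rw [e]
      exact hc
    have hLM := huniq _ hL hle
    apply hqσ
    rw [← hLM, Cfsg.Agent.Helper54.bg14t_sigma_conj]
    exact hq

end Cfsg.Agent.Helper87
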