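/-
CALL BG83 (helper25, row S1383), piece CASEA: rank at least 3, `|K|` divides `p - 1` (S1454).
-/
import Cfsg.Statements.S1383
import Cfsg.Agent.S1454

set_option autoImplicit false

namespace Cfsg.Agent.Helper87

open Cfsg Subgroup

universe u

variable {G : Type u} [Group G] [Finite G]

/-- CASEA. (S1454 clause 2 for a generator of `K`.) -/
theorem bg83_case_A (p : ℕ) [Fact p.Prime] (hp2 : p ≠ 2) (P K : Subgroup G) (hP : IsPGroup p P)
    (hn : IsNarrow p ↥P) (hr : ¬ PRankLE p 2 ↥P) (hK : IsCyclic ↥K)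
    (hKP : K ≤ normalizer (P : Set G)) (hodd : Odd (Nat.card K))
    (hcop : (Nat.card K).Coprime p) (hf : K ⊓ centralizer (P : Set G) = ⊥) :
    Nat.card K ∣ p - 1 := by
  obtain ⟨k, hk⟩ := hK.exists_generator
  have hsolv : Group.IsSolvable ↥K := by
    apply Group.isSolvable_of_comm
    intro a b
    obtain ⟨m, rfl⟩ := Subgroup.mem_zpowers_iff.mp (hk a)
    obtain ⟨n, rfl⟩ := Subgroup.mem_zpowers_iff.mp (hk b)
    exact zpow_mul_comm k m n
  obtain ⟨-, h2, -⟩ := Cfsg.Agent.S1454.result p hp2 P K hP hn hKP hsolv hodd hf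
  have hord : orderOf (k : G) = Nat.card K := by
    rw [Subgroup.orderOf_coe]
    exact orderOf_eq_card_of_forall_mem_zpowers hk
  have h3 := h2 hr (k : G) k.2 (by rw [hord]; exact hcop)
  rw [hord] at h3
  exact h3

end Cfsg.Agent.Helper87
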