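/-
CALL S1376 (helper1), piece AB (double): `E` is abelian when `M'` is nilpotent and `E` acts
regularly on a nontrivial `H ≤ M'` of coprime order.
-/
import Mathlib
import Cfsg.Prelude.Def_OddOrderLocal
import Cfsg.Agent.Helper25.CN

set_option autoImplicit false

namespace Cfsg.Agent.Helper87

open Cfsg Subgroup
open scoped commutatorElement

universe u

variable {G : Type u} [Group G] [Finite G]

set_option linter.unusedSectionVars false in
/-- AB (pure).  For `a, b ∈ E`: `c := a b a⁻¹ b⁻¹ ∈ E ⊓ M'`; for `y ∈ H ≤ M'` the orders of `c` and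
`y` are coprime (`hcop`), so `c y = y c` (nilpotent `M'`); `H ≠ ⊥` and `hreg` give `c = 1`. -/
theorem c9_abel {M E H : Subgroup G} (hEM : E ≤ M) (hHM' : H ≤ ⁅M, M⁆)
    (hder : Group.IsNilpotent ↥⁅M, M⁆) (hH1 : H ≠ ⊥)
    (hcop : (Nat.card E).Coprime (Nat.card H))
    (hreg : ∀ e ∈ E, e ≠ 1 → ∀ y ∈ H, e * y = y * e → y = 1) :
    ∀ a ∈ E, ∀ b ∈ E, a * b = b * a := by
  intro a ha b hb
  by_contra hab
  obtain ⟨⟨y, hyH⟩, hy1⟩ := Subgroup.ne_bot_iff_exists_ne_one.mp hH1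
  have hy1' : y ≠ 1 := fun h => hy1 (Subtype.ext h)
  have hcE : ⁅a, b⁆ ∈ E := by
    rw [commutatorElement_def]
    exact E.mul_mem (E.mul_mem (E.mul_mem ha hb) (E.inv_mem ha)) (E.inv_mem hb)
  have hcM : ⁅a, b⁆ ∈ ⁅M, M⁆ := Subgroup.commutator_mem_commutator (hEM ha) (hEM hb)
  have hc1 : ⁅a, b⁆ ≠ 1 := fun h => hab (commutatorElement_eq_one_iff_mul_comm.mp h)
  have hco : (orderOf ⁅a, b⁆).Coprime (orderOf y) :=
    Nat.Coprime.coprime_dvd_left (Subgroup.orderOf_dvd_natCard E hcE)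
      (Nat.Coprime.coprime_dvd_right (Subgroup.orderOf_dvd_natCard H hyH) hcop)
  have hcomm := Cfsg.Agent.Helper25.commute_of_coprime_of_mem_nilpotent ⁅M, M⁆ hder hcM
    (hHM' hyH) hco
  exact hy1' (hreg _ hcE hc1 y hyH hcomm.eq)

end Cfsg.Agent.Helper87
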