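/-
CALL S1376 (helper1), piece FHN (double): `M_F` is nilpotent.
-/
import Mathlib
import Cfsg.Agent.Helper1.CNOdd2

set_option autoImplicit false

namespace Cfsg.Agent.Helper87

open Cfsg Subgroup

universe u

variable {G : Type u} [Group G] [Finite G]

/-- FHN.  `M_F` is nilpotent (`Helper1.cnodd_fittingHall_isNilpotent` transported along the
embedding `↥L → G`). -/
theorem c9_fittingHall_nil (L : Subgroup G) : Group.IsNilpotent ↥(fittingHallOf L) := by
  have h1 : Group.IsNilpotent ↥(fittingHall ↥L) :=
    Cfsg.Agent.Helper1.cnodd_fittingHall_isNilpotent ↥L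
  exact Group.nilpotent_of_mulEquiv ((fittingHall ↥L).equivMapOfInjective L.subtype
    L.subtype_injective)

end Cfsg.Agent.Helper87
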