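/-
CALL S1376 (helper1), piece REG (double): regularity and cyclic Sylow subgroups of `E` from the
per-prime statement `hsyl`.
-/
import Mathlib
import Cfsg.Prelude.Def_OddOrderLocal

set_option autoImplicit false

namespace Cfsg.Agent.Helper87

open Cfsg Subgroup

universe u

variable {G : Type u} [Group G] [Finite G]

/-- REG (pure given `hsyl`).  For `e ≠ 1` in `E`: a power `e₁` of `e` has prime order `s`,
`s ∣ |E|`; apply `hsyl` to `zpowers e₁`.  For a Sylow `s`-subgroup `P` of `E`: trivial or `s ∣ |E|`;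
apply `hsyl` to its image in `G`. -/
theorem c9_reg {M E H : Subgroup G} (hEM : E ≤ M)
    (hEp : ∀ s : ℕ, s.Prime → s ∣ Nat.card E → s ∣ Nat.card M ∧ s ∉ sigma M)
    (hsyl : ∀ s : ℕ, s.Prime → s ∣ Nat.card M → s ∉ sigma M → ∀ P : Subgroup G, P ≤ M →
      IsPGroup s P → IsCyclic ↥P ∧ ∀ e ∈ P, e ≠ 1 → ∀ y ∈ H, e * y = y * e → y = 1) :
    (∀ e ∈ E, e ≠ 1 → ∀ y ∈ H, e * y = y * e → y = 1) ∧
      ∀ (s : ℕ) [Fact s.Prime] (P : Sylow s ↥E), IsCyclic ↥(P : Subgroup ↥E) := by
  constructor
  · intro e heE he1 y hyH hcomm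
    have hopos : 0 < orderOf e := orderOf_pos e
    have ho1 : orderOf e ≠ 1 := fun h => he1 (orderOf_eq_one_iff.mp h)
    have hsp : (orderOf e).minFac.Prime := Nat.minFac_prime ho1
    have hsd : (orderOf e).minFac ∣ orderOf e := Nat.minFac_dvd _
    obtain ⟨hsM, hsσ⟩ := hEp _ hsp (hsd.trans (Subgroup.orderOf_dvd_natCard E heE))
    have ho : orderOf (e ^ (orderOf e / (orderOf e).minFac)) = (orderOf e).minFac :=
      orderOf_pow_orderOf_div hopos.ne' hsd
    have hPE : zpowers (e ^ (orderOf e / (orderOf e).minFac)) ≤ E :=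
      (Subgroup.zpowers_le).mpr (E.pow_mem heE _)
    have hPp : IsPGroup (orderOf e).minFac
        ↥(zpowers (e ^ (orderOf e / (orderOf e).minFac))) := by
      refine IsPGroup.of_card (n := 1) ?_
      rw [Nat.card_zpowers, ho, pow_one]
    have he1' : e ^ (orderOf e / (orderOf e).minFac) ≠ 1 := by
      intro h
      rw [h, orderOf_one] at ho
      exact hsp.one_lt.ne ho
    have hc' : e ^ (orderOf e / (orderOf e).minFac) * y
        = y * e ^ (orderOf e / (orderOf e).minFac) :=
      ((show Commute e y from hcomm).pow_left _).eq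
    exact (hsyl _ hsp hsM hsσ _ (hPE.trans hEM) hPp).2 _ (Subgroup.mem_zpowers _) he1' y hyH hc'
  · intro s hs P
    obtain ⟨n, hn⟩ := IsPGroup.iff_card.mp P.isPGroup'
    rcases n with _ | n
    · rw [pow_zero] at hn
      have : Subsingleton ↥(P : Subgroup ↥E) := (Nat.card_eq_one_iff_unique.mp hn).1
      exact isCyclic_of_subsingleton
    · have hsE : s ∣ Nat.card E := by
        have h1 : s ∣ Nat.card ↥(P : Subgroup ↥E) := hn ▸ dvd_pow_self s (Nat.succ_ne_zero n)
        exact h1.trans (Subgroup.card_subgroup_dvd_card _)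
      obtain ⟨hsM, hsσ⟩ := hEp s hs.out hsE
      have hPM : (P : Subgroup ↥E).map E.subtype ≤ M := by
        rintro _ ⟨x, -, rfl⟩
        exact hEM x.2
      have hcyc := (hsyl s hs.out hsM hsσ ((P : Subgroup ↥E).map E.subtype) hPM
        (P.isPGroup'.map E.subtype)).1
      exact (((P : Subgroup ↥E).equivMapOfInjective E.subtype
        (Subgroup.subtype_injective E)).isCyclic).mpr hcyc

end Cfsg.Agent.Helper87
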