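import Mathlib
import Cfsg.Prelude.Def_Transfer
import Cfsg.Agent.Helper2.PGroup
import Cfsg.Agent.Helper47.Coprime

set_option autoImplicit false

/-! Recognition of extraspecial groups of order `p³` and exponent `p` (helper87). -/

namespace Cfsg.Agent.Helper87

open scoped commutatorElement

/-- A nonabelian group of order `p³` and exponent `p` is extraspecial. -/
theorem isExtraspecial_of_card_cube {E : Type*} [Group E] {p : ℕ} [Fact p.Prime] (hcard : Nat.card E = p ^ 3)
    (hnab : ∃ x y : E, x * y ≠ y * x) (hexp : ∀ g : E, g ^ p = 1) :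
    Cfsg.IsExtraspecial p E ∧ Monoid.exponent E = p := by
  have hpp : p.Prime := Fact.out
  have hfin : Finite E := Nat.finite_of_card_ne_zero (by rw [hcard]; exact pow_ne_zero _ hpp.pos.ne')
  have hE : IsPGroup p E := IsPGroup.of_card hcard
  obtain ⟨k, hk0, hk⟩ := IsPGroup.card_center_eq_prime_pow hcard (by norm_num)
  have hk3 : k ≤ 3 := by
    have h1 : Nat.card (Subgroup.center E) ∣ Nat.card E := Subgroup.card_subgroup_dvd_card _
    rw [hk, hcard] at h1
    exact (Nat.pow_dvd_pow_iff_le_right hpp.one_lt).mp h1
  have hidx : p ^ k * (Subgroup.center E).index = p ^ 3 := by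
    have := Subgroup.card_mul_index (Subgroup.center E)
    rw [hk, hcard] at this
    exact this
  have hk1 : k = 1 := by
    interval_cases k
    · rfl
    · exfalso
      have hidx' : (Subgroup.center E).index = p := by
        have h2 : p ^ 2 * (Subgroup.center E).index = p ^ 2 * p := by rw [hidx]; ring
        exact Nat.eq_of_mul_eq_mul_left (pow_pos hpp.pos 2) h2
      have hcyc : IsCyclic (E ⧸ Subgroup.center E) :=
        isCyclic_of_prime_card (p := p) (by rw [← Subgroup.index_eq_card, hidx'])
      have hcomm := (MonoidHom.isMulCommutative_of_isCyclic_of_ker_le_center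
        (QuotientGroup.mk' (Subgroup.center E)) (by rw [QuotientGroup.ker_mk']))
      obtain ⟨x, y, hxy⟩ := hnab
      exact hxy (hcomm.is_comm.comm x y)
    · exfalso
      have htop : Subgroup.center E = ⊤ := (Subgroup.card_eq_iff_eq_top _).mp (by rw [hk, hcard])
      obtain ⟨x, y, hxy⟩ := hnab
      have hy : y ∈ Subgroup.center E := htop ▸ Subgroup.mem_top y
      exact hxy (Subgroup.mem_center_iff.mp hy x)
  subst hk1
  rw [pow_one] at hk
  have hquot : Nat.card (E ⧸ Subgroup.center E) = p ^ 2 := by
    rw [← Subgroup.index_eq_card]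
    have h2 : p * (Subgroup.center E).index = p * p ^ 2 := by
      have h3 := hidx
      rw [pow_one] at h3
      rw [h3]; ring
    exact Nat.eq_of_mul_eq_mul_left hpp.pos h2
  have hcomm_le : commutator E ≤ Subgroup.center E := by
    rw [_root_.commutator_def, Subgroup.commutator_le]
    intro x _ y _
    have h1 := (IsPGroup.isMulCommutative_of_card_eq_prime_sq hquot).is_comm.comm
      (QuotientGroup.mk' (Subgroup.center E) x) (QuotientGroup.mk' (Subgroup.center E) y)
    rw [← QuotientGroup.eq_one_iff (N := Subgroup.center E)]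
    have h2 : ((⁅x, y⁆ : E) : E ⧸ Subgroup.center E) =
        QuotientGroup.mk' (Subgroup.center E) x * QuotientGroup.mk' (Subgroup.center E) y *
          (QuotientGroup.mk' (Subgroup.center E) x)⁻¹ * (QuotientGroup.mk' (Subgroup.center E) y)⁻¹ := by
      rw [commutatorElement_def]; rfl
    rw [h2, h1]
    group
  have hcomm_ne : commutator E ≠ ⊥ := by
    intro h
    obtain ⟨x, y, hxy⟩ := hnab
    have h1 : ⁅x, y⁆ ∈ commutator E := by
      rw [_root_.commutator_def]
      exact Subgroup.commutator_mem_commutator (Subgroup.mem_top x) (Subgroup.mem_top y)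
    rw [h, Subgroup.mem_bot] at h1
    exact hxy (commutatorElement_eq_one_iff_commute.mp h1).eq
  have hcomm_eq : commutator E = Subgroup.center E := by
    refine Subgroup.eq_of_le_of_card_ge hcomm_le ?_
    have h1 := Subgroup.card_dvd_of_le hcomm_le
    rw [hk] at h1 ⊢
    rcases (Nat.dvd_prime hpp).mp h1 with h2 | h2
    · exact absurd (Subgroup.card_eq_one.mp h2) hcomm_ne
    · exact h2.ge
  have hfr : frattini E = commutator E := by
    apply le_antisymm
    · have h1 := Helper47.frattini_le_ker p (Abelianization.of : E →* Abelianization E) (fun x => by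
        rw [← map_pow, hexp, map_one])
      rwa [Abelianization.ker_of] at h1
    · exact Helper2.commutator_le_frattini_of_isPGroup hE
  refine ⟨⟨⟨hE, by rw [hfr, hcomm_eq], hcomm_eq⟩, hk⟩, ?_⟩
  have hnt : Nontrivial E := Finite.one_lt_card_iff_nontrivial.mp (by
    rw [hcard]; exact Nat.one_lt_pow (by norm_num) hpp.one_lt)
  exact (Monoid.exponent_eq_prime_iff hpp).mpr (fun g hg => orderOf_eq_prime (hexp g) hg)

end Cfsg.Agent.Helper87
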