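/-
CALL LM (helper21, row S4067), piece COUNT (double): one automorphism moving every element outside
an index-`p` subgroup `M ≥ Z(G)` to a non-conjugate element gives at most `|G|/p` orbits.
-/
import Mathlib

set_option autoImplicit false

namespace Cfsg.Agent.Helper87.LM

/-- the final arithmetic of COUNT -/
theorem lm_count_arith (Ω μ z m p n : ℕ) (hp : 2 ≤ p)
    (h1 : 2 * p * Ω ≤ n + μ + (2 * p - 2) * z) (h2 : μ * p = n) (h3 : z * m = n)
    (h4 : 2 * p ≤ m) : Ω ≤ μ := by
  have h5 : 2 * z ≤ μ := by
    by_contra hc
    have hc' : μ + 1 ≤ 2 * z := by omega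
    nlinarith [Nat.mul_le_mul_left p hc', Nat.mul_le_mul_right z h4]
  obtain ⟨q, rfl⟩ : ∃ q, p = q + 2 := ⟨p - 2, by omega⟩
  have e : 2 * (q + 2) - 2 = 2 * q + 2 := by omega
  rw [e] at h1
  by_contra hc
  have hc' : μ + 1 ≤ Ω := by omega
  nlinarith [Nat.mul_le_mul_left (q + 1) h5, Nat.mul_le_mul_left (2 * (q + 2)) hc']

/-- a non-central element has at least `minFac |G|` conjugates -/
theorem lm_count_cls {G : Type*} [Group G] [Finite G] (g : G) (hg : g ∉ Subgroup.center G) :
    (Nat.card G).minFac ≤ (MulAction.orbit (ConjAct G) g).ncard := by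
  have hfin : Finite (ConjAct G) := (inferInstance : Finite G)
  rw [← MulAction.index_stabilizer]
  apply Nat.minFac_le_of_dvd
  · have h0 : (MulAction.stabilizer (ConjAct G) g).index ≠ 0 := Subgroup.index_ne_zero_of_finite
    have h1 : (MulAction.stabilizer (ConjAct G) g).index ≠ 1 := by
      intro h
      apply hg
      have htop := Subgroup.index_eq_one.mp h
      rw [Subgroup.mem_center_iff]
      intro a
      have ha : ConjAct.toConjAct a ∈ MulAction.stabilizer (ConjAct G) g :=
        htop ▸ Subgroup.mem_top _
      rw [MulAction.mem_stabilizer_iff, ConjAct.toConjAct_smul] at ha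
      exact mul_inv_eq_iff_eq_mul.mp ha
    omega
  · exact Subgroup.index_dvd_card (MulAction.stabilizer (ConjAct G) g)

/-- conjugates lie in the `Aut`-orbit -/
theorem lm_count_sub {G : Type*} [Group G] (τ : MulAut G) (g h : G)
    (hh : h ∈ MulAction.orbit (ConjAct G) (τ g)) : h ∈ MulAction.orbit (MulAut G) g := by
  obtain ⟨c, rfl⟩ := hh
  refine ⟨MulAut.conj (ConjAct.ofConjAct c) * τ, ?_⟩
  show (MulAut.conj (ConjAct.ofConjAct c) * τ) • g = c • τ g
  rw [ConjAct.smul_def]
  rfl

/-- COUNT: one automorphism moving every element outside an index-`p` subgroup `M ≥ Z(G)` to a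
non-conjugate element gives at most `|G|/p` orbits. -/
theorem lm_count {G : Type*} [Group G] [Finite G] (hna : ¬ IsMulCommutative G)
    (σ : MulAut G) (M : Subgroup G) (hM : M.index = (Nat.card G).minFac)
    (hZM : Subgroup.center G ≤ M) (hσ : ∀ g : G, g ∉ M → ¬ IsConj g (σ g)) :
    Nat.card (MulAction.orbitRel.Quotient (MulAut G) G) ≤ Nat.card G / (Nat.card G).minFac := by
  classical
  have : Fintype G := Fintype.ofFinite G
  have : Fintype (MulAction.orbitRel.Quotient (MulAut G) G) := Fintype.ofFinite _
  have hn1 : Nat.card G ≠ 1 := by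
    intro h
    apply hna
    have : Subsingleton G := (Nat.card_eq_one_iff_unique.mp h).1
    exact ⟨⟨fun a b => Subsingleton.elim _ _⟩⟩
  have hpp : (Nat.card G).minFac.Prime := Nat.minFac_prime hn1
  have hp2 : 2 ≤ (Nat.card G).minFac := hpp.two_le
  -- the index of the centre is at least `2 p`
  have hZidx : 2 * (Nat.card G).minFac ≤ (Subgroup.center G).index := by
    have hm_dvd : (Subgroup.center G).index ∣ Nat.card G := Subgroup.index_dvd_card _
    have hm1 : (Subgroup.center G).index ≠ 1 := by
      intro h
      apply hna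
      have htop : Subgroup.center G = ⊤ := Subgroup.index_eq_one.mp h
      refine ⟨⟨fun a b => ?_⟩⟩
      have hb : b ∈ Subgroup.center G := htop ▸ Subgroup.mem_top b
      exact Subgroup.mem_center_iff.mp hb a
    have hmnp : ¬ (Subgroup.center G).index.Prime := by
      intro hmp
      apply hna
      have : Fact (Subgroup.center G).index.Prime := ⟨hmp⟩
      have : IsCyclic (G ⧸ Subgroup.center G) :=
        isCyclic_of_prime_card (p := (Subgroup.center G).index) rfl
      exact (QuotientGroup.mk' (Subgroup.center G)).isMulCommutative_of_isCyclic_of_ker_le_center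
        (by rw [QuotientGroup.ker_mk'])
    have hmpos : 0 < (Subgroup.center G).index :=
      Nat.pos_of_ne_zero Subgroup.index_ne_zero_of_finite
    have h1 : (Subgroup.center G).index.minFac ^ 2 ≤ (Subgroup.center G).index :=
      Nat.minFac_sq_le_self hmpos hmnp
    have h2 : (Nat.card G).minFac ≤ (Subgroup.center G).index.minFac :=
      Nat.minFac_le_of_dvd (Nat.minFac_prime hm1).two_le ((Nat.minFac_dvd _).trans hm_dvd)
    nlinarith
  -- the centre is characteristic
  have hσZ : ∀ g : G, g ∉ Subgroup.center G → σ g ∉ Subgroup.center G := by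
    intro g hg hσg
    apply hg
    rw [Subgroup.mem_center_iff] at hσg ⊢
    intro a
    apply σ.injective
    rw [map_mul, map_mul]
    exact hσg (σ a)
  -- weights
  set w : G → ℕ := fun g => 1 + (if g ∈ M then 1 else 0) +
    (if g ∈ Subgroup.center G then 2 * (Nat.card G).minFac - 2 else 0) with hw
  set π : G → MulAction.orbitRel.Quotient (MulAut G) G := Quotient.mk'' with hπdef
  have hπ : ∀ a b : G, a ∈ MulAction.orbit (MulAut G) b → π a = π b := by
    intro a b hab
    exact Quotient.sound' (MulAction.orbitRel_apply.mpr hab)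
  have hw1 : ∀ g, 1 ≤ w g := by
    intro g
    simp only [hw]
    omega
  -- every fibre has weight at least `2 p`
  have hfib : ∀ ω : MulAction.orbitRel.Quotient (MulAut G) G,
      2 * (Nat.card G).minFac ≤ ∑ g ∈ Finset.univ.filter (fun g => π g = ω), w g := by
    intro ω
    obtain ⟨g₀, hg₀⟩ : ∃ g₀, π g₀ = ω := Quotient.exists_rep ω
    have hsub : ∀ (g : G), π g = ω → ∀ S : Set G, S ⊆ MulAction.orbit (MulAut G) g →
        S.ncard ≤ (Finset.univ.filter (fun g => π g = ω)).card := by
      intro g hg S hS
      rw [← Set.ncard_coe_finset]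
      apply Set.ncard_le_ncard _ (Finset.finite_toSet _)
      intro h hh
      rw [Finset.mem_coe, Finset.mem_filter]
      exact ⟨Finset.mem_univ _, (hπ h g (hS hh)).trans hg⟩
    by_cases hA : ∃ g, π g = ω ∧ g ∈ Subgroup.center G
    · obtain ⟨g, hgω, hgZ⟩ := hA
      have h1 : w g ≤ ∑ g ∈ Finset.univ.filter (fun g => π g = ω), w g :=
        Finset.single_le_sum (f := w) (fun _ _ => Nat.zero_le _)
          (Finset.mem_filter.mpr ⟨Finset.mem_univ g, hgω⟩)
      have h2 : w g = 2 * (Nat.card G).minFac := by
        simp only [hw, if_pos (hZM hgZ), if_pos hgZ]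
        omega
      omega
    · have hA' : ∀ g, π g = ω → g ∉ Subgroup.center G := fun g hg hgZ => hA ⟨g, hg, hgZ⟩
      by_cases hB : ∃ g, π g = ω ∧ g ∉ M
      · obtain ⟨g, hgω, hgM⟩ := hB
        have hgZ : g ∉ Subgroup.center G := hA' g hgω
        have hdisj : Disjoint (MulAction.orbit (ConjAct G) g) (MulAction.orbit (ConjAct G) (σ g)) := by
          rw [Set.disjoint_left]
          intro h h1 h2
          rw [ConjAct.mem_orbit_conjAct] at h1 h2
          exact hσ g hgM (h1.symm.trans h2)
        have hcard : 2 * (Nat.card G).minFac ≤ (Finset.univ.filter (fun g => π g = ω)).card := by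
          have h1 := lm_count_cls g hgZ
          have h2 := lm_count_cls (σ g) (hσZ g hgZ)
          have h3 := hsub g hgω
            (MulAction.orbit (ConjAct G) g ∪ MulAction.orbit (ConjAct G) (σ g)) (by
              intro h hh
              rcases hh with hh | hh
              · exact lm_count_sub 1 g h hh
              · exact lm_count_sub σ g h hh)
          rw [Set.ncard_union_eq hdisj (Set.toFinite _) (Set.toFinite _)] at h3
          omega
        calc 2 * (Nat.card G).minFac ≤ (Finset.univ.filter (fun g => π g = ω)).card := hcard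
          _ = ∑ g ∈ Finset.univ.filter (fun g => π g = ω), 1 := (Finset.card_eq_sum_ones _)
          _ ≤ ∑ g ∈ Finset.univ.filter (fun g => π g = ω), w g :=
              Finset.sum_le_sum (fun g _ => hw1 g)
      · have hB' : ∀ g, π g = ω → g ∈ M := by
          intro g hg
          by_contra hgM
          exact hB ⟨g, hg, hgM⟩
        have hcard : (Nat.card G).minFac ≤ (Finset.univ.filter (fun g => π g = ω)).card := by
          have h1 := lm_count_cls g₀ (hA' g₀ hg₀)
          have h3 := hsub g₀ hg₀ (MulAction.orbit (ConjAct G) g₀)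
            (fun h hh => lm_count_sub 1 g₀ h hh)
          omega
        calc 2 * (Nat.card G).minFac
            ≤ (Finset.univ.filter (fun g => π g = ω)).card * 2 := by omega
          _ = ∑ g ∈ Finset.univ.filter (fun g => π g = ω), 2 := by
              rw [Finset.sum_const, smul_eq_mul]
          _ ≤ ∑ g ∈ Finset.univ.filter (fun g => π g = ω), w g := by
              apply Finset.sum_le_sum
              intro g hg
              have hgω : π g = ω := (Finset.mem_filter.mp hg).2
              simp only [hw, if_pos (hB' g hgω)]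
              omega
  -- total weight
  have hsum : ∑ g : G, w g = Nat.card G + Nat.card M +
      (2 * (Nat.card G).minFac - 2) * Nat.card (Subgroup.center G) := by
    have e1 : ∑ g : G, (1 : ℕ) = Nat.card G := by
      rw [Finset.sum_const, Finset.card_univ, smul_eq_mul, mul_one, Nat.card_eq_fintype_card]
    have e2 : ∀ (H : Subgroup G) (c : ℕ),
        ∑ g : G, (if g ∈ H then c else 0) = c * Nat.card H := by
      intro H c
      rw [← Finset.sum_filter, Finset.sum_const, smul_eq_mul, mul_comm]
      congr 1
      rw [Nat.card_eq_fintype_card, Fintype.card_subtype]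
    simp only [hw]
    rw [Finset.sum_add_distrib, Finset.sum_add_distrib, e1, e2 M 1, one_mul]
    congr 1
    convert e2 (Subgroup.center G) (2 * (Nat.card G).minFac - 2)
  have htot : 2 * (Nat.card G).minFac * Nat.card (MulAction.orbitRel.Quotient (MulAut G) G)
      ≤ Nat.card G + Nat.card M +
        (2 * (Nat.card G).minFac - 2) * Nat.card (Subgroup.center G) := by
    have hc : Nat.card (MulAction.orbitRel.Quotient (MulAut G) G) =
        (Finset.univ : Finset (MulAction.orbitRel.Quotient (MulAut G) G)).card := by
      rw [Finset.card_univ, Nat.card_eq_fintype_card]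
    rw [← hsum, ← Finset.sum_fiberwise Finset.univ π w, hc, mul_comm, ← smul_eq_mul,
      ← Finset.sum_const]
    exact Finset.sum_le_sum (fun ω _ => hfib ω)
  have hMc : Nat.card M * (Nat.card G).minFac = Nat.card G := by
    rw [← hM]
    exact Subgroup.card_mul_index M
  have hZc : Nat.card (Subgroup.center G) * (Subgroup.center G).index = Nat.card G :=
    Subgroup.card_mul_index _
  have hfin := lm_count_arith _ _ _ _ _ _ hp2 htot hMc hZc hZidx
  have hdiv : Nat.card G / (Nat.card G).minFac = Nat.card M :=
    Nat.div_eq_of_eq_mul_left (by omega) hMc.symm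
  rw [hdiv]
  exact hfin

end Cfsg.Agent.Helper87.LM
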