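import Cfsg.Agent.Helper87.GroupFus

set_option autoImplicit false

namespace Cfsg.Agent.Helper87

open Cfsg Cfsg.FusionSystem

variable {Ω : Type*} [Group Ω] {S : Subgroup Ω}

/-- **Lifting lemma** (Puig). Let `T` be strongly closed in the saturated system `F`. Every map `φ : P → S`
of the system has a "lift modulo `T`": a map `ψ` of the system on `P T` with `ψ(x) ∈ φ(x) T` for all `x ∈ P`. -/
theorem exists_lift_mod [Finite S] {p : ℕ} [Fact p.Prime] (hS : IsPGroup p S) (F : FusionSystem S)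
    (hF : F.IsSaturated p) {T : Subgroup Ω} (hT : F.StronglyClosed T) :
    ∀ (P : Subgroup Ω) (φ : P →* Ω), φ ∈ F.Hom P →
      ∃ ψ ∈ F.Hom (P ⊔ T), ∀ x : P, (φ x)⁻¹ * ψ ⟨x, (le_sup_left : P ≤ P ⊔ T) x.2⟩ ∈ T := by
  have hTS : T ≤ S := hT.1
  have hTnorm : ∀ s ∈ S, ∀ q ∈ T, s * q * s⁻¹ ∈ T := fun s hs q hq => stronglyClosed_conj_mem F hT hs hq
  have supT : ∀ {P : Subgroup Ω} (_ : P ≤ S) {y : Ω}, y ∈ P ⊔ T ↔ ∃ a ∈ P, ∃ k ∈ T, y = a * k :=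
    fun {P} hP {y} => mem_sup_of_normalizes (H := P) (K := T) (fun a ha k hk => hTnorm a (hP ha) k hk)
  -- values of a lift
  have hval : ∀ {P P₂ : Subgroup Ω} {φ : P →* Ω} (_ : φ ∈ F.Hom P) (_ : ∀ x : P, φ x ∈ P₂)
      {φ' : ↥(P ⊔ T) →* Ω} (_ : φ' ∈ F.Hom (P ⊔ T))
      (_ : ∀ x : P, (φ x)⁻¹ * φ' ⟨x, (le_sup_left : P ≤ P ⊔ T) x.2⟩ ∈ T), ∀ y : ↥(P ⊔ T), φ' y ∈ P₂ ⊔ T := by
    intro P P₂ φ hφ hPQ φ' hφ' hext y
    obtain ⟨a, ha, k, hk, hy⟩ := (supT (hom_le F hφ)).mp y.2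
    have hy' : y = (⟨a, (le_sup_left : P ≤ P ⊔ T) ha⟩ : ↥(P ⊔ T)) * ⟨k, (le_sup_right : T ≤ P ⊔ T) hk⟩ :=
      Subtype.ext hy
    rw [hy', map_mul]
    refine Subgroup.mul_mem _ ?_ (Subgroup.mem_sup_right (map_sup_mem F hT hφ' k hk))
    have e : φ' ⟨a, (le_sup_left : P ≤ P ⊔ T) ha⟩ =
        φ ⟨a, ha⟩ * ((φ ⟨a, ha⟩)⁻¹ * φ' ⟨a, (le_sup_left : P ≤ P ⊔ T) ha⟩) := by group
    rw [e]
    exact Subgroup.mul_mem _ (Subgroup.mem_sup_left (hPQ _)) (Subgroup.mem_sup_right (hext ⟨a, ha⟩))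
  refine alperin_induction hS F hF
    (fun P φ => ∃ ψ ∈ F.Hom (P ⊔ T), ∀ x : P, (φ x)⁻¹ * ψ ⟨x, (le_sup_left : P ≤ P ⊔ T) x.2⟩ ∈ T)
    ?_ ?_ ?_ ?_
  · -- restriction
    rintro P P₁ h φ θ hφ hθ ⟨ψ, hψ, hψ'⟩
    refine ⟨ψ.comp (Subgroup.inclusion (sup_le_sup_right h T)), hom_restrict F hψ _, fun x => ?_⟩
    rw [hθ]
    exact hψ' ⟨x, h x.2⟩
  · -- composition
    rintro P P₂ φ ψ θ hφ hψ hPQ hθ ⟨φ', hφ', hφ''⟩ ⟨ψ', hψ', hψ''⟩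
    have hv := hval hφ hPQ hφ' hφ''
    refine ⟨ψ'.comp (φ'.codRestrict (P₂ ⊔ T) hv), F.comp_mem hφ' hψ' hv, fun x => ?_⟩
    rw [hθ]
    show (ψ ⟨φ x, hPQ x⟩)⁻¹ * ψ' ⟨φ' ⟨x, _⟩, _⟩ ∈ T
    have ht := hφ'' x
    have e : (⟨φ' ⟨x, (le_sup_left : P ≤ P ⊔ T) x.2⟩, hv _⟩ : ↥(P₂ ⊔ T)) =
        ⟨φ x, (le_sup_left : P₂ ≤ P₂ ⊔ T) (hPQ x)⟩ *
          ⟨(φ x)⁻¹ * φ' ⟨x, (le_sup_left : P ≤ P ⊔ T) x.2⟩, (le_sup_right : T ≤ P₂ ⊔ T) ht⟩ := by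
      apply Subtype.ext
      show φ' ⟨x, _⟩ = φ x * ((φ x)⁻¹ * φ' ⟨x, _⟩)
      group
    rw [e, map_mul, ← mul_assoc]
    exact T.mul_mem (hψ'' ⟨φ x, hPQ x⟩) (map_sup_mem F hT hψ' _ ht)
  · -- inverse
    rintro P P₂ φ ψ hφ hψ hr hPQ hψφ ⟨φ', hφ', hφ''⟩
    have hv := hval hφ hPQ hφ' hφ''
    have hTrange : T ≤ φ'.range := by
      intro q hq
      obtain ⟨q', hq', hqq⟩ := map_sup_surj F hT hφ' q hq
      exact ⟨_, hqq⟩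
    have hrange : φ'.range = P₂ ⊔ T := by
      apply le_antisymm
      · rintro _ ⟨y, rfl⟩
        exact hv y
      · apply sup_le
        · intro z hz
          rw [← hr] at hz
          obtain ⟨x, rfl⟩ := hz
          have e : φ x = φ' ⟨x, (le_sup_left : P ≤ P ⊔ T) x.2⟩ *
              ((φ x)⁻¹ * φ' ⟨x, (le_sup_left : P ≤ P ⊔ T) x.2⟩)⁻¹ := by group
          rw [e]
          exact Subgroup.mul_mem _ ⟨_, rfl⟩ (Subgroup.inv_mem _ (hTrange (hφ'' x)))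
        · exact hTrange
    obtain ⟨ψ', hψ', -, hψ1, -⟩ := hom_inv F hφ' hrange
    refine ⟨ψ', hψ', fun z => ?_⟩
    have hz : (z : Ω) ∈ φ.range := by rw [hr]; exact z.2
    obtain ⟨x, hx⟩ := hz
    have h1 := hψφ x
    have h2 : (⟨φ x, hPQ x⟩ : P₂) = z := Subtype.ext hx
    rw [h2] at h1
    rw [h1]
    have h3 := hψ1 ⟨x, (le_sup_left : P ≤ P ⊔ T) x.2⟩ (hv _)
    have ht := hφ'' x
    have e : (⟨(z : Ω), (le_sup_left : P₂ ≤ P₂ ⊔ T) z.2⟩ : ↥(P₂ ⊔ T)) =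
        ⟨φ' ⟨x, (le_sup_left : P ≤ P ⊔ T) x.2⟩, hv _⟩ *
          ⟨((φ x)⁻¹ * φ' ⟨x, (le_sup_left : P ≤ P ⊔ T) x.2⟩)⁻¹,
            (le_sup_right : T ≤ P₂ ⊔ T) (T.inv_mem ht)⟩ := by
      apply Subtype.ext
      show (z : Ω) = φ' ⟨x, _⟩ * ((φ x)⁻¹ * φ' ⟨x, _⟩)⁻¹
      rw [← hx]
      group
    rw [e, map_mul, h3, inv_mul_cancel_left]
    exact map_sup_mem F hT hψ' _ (T.inv_mem ht)
  · -- automorphisms
    intro R hfa hrec hbig α hα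
    have hRS : R ≤ S := hfa.1
    have hfinR : Finite R := finite_of_le hRS
    have hαF := (mem_autGroup_iff F hRS α).mp hα
    by_cases hTR : T ≤ R
    · have hle : R ⊔ T ≤ R := sup_le le_rfl hTR
      refine ⟨(R.subtype.comp α.toMonoidHom).comp (Subgroup.inclusion hle), hom_restrict F hαF hle,
        fun x => ?_⟩
      have e : ((R.subtype.comp α.toMonoidHom).comp (Subgroup.inclusion hle))
          ⟨x, (le_sup_left : R ≤ R ⊔ T) x.2⟩ = (R.subtype.comp α.toMonoidHom) x := rfl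
      rw [e, inv_mul_cancel]
      exact T.one_mem
    · obtain ⟨t, htT, htN, htR⟩ := exists_mem_normalizer_not_mem hS hRS hTS hTnorm hTR
      have hnorm' : ∀ r ∈ R, ∀ t ∈ T, r⁻¹ * t * r ∈ T := fun r hr t ht =>
        stronglyClosed_conj_mem' F hT (hRS hr) ht
      obtain ⟨κ, hκK, hκA, ν, hνA, hανκ, R', hRR', hcard, ψ, hψ, hψ'⟩ :=
        frattini_step hS F hfa hrec (modSubgroup R T) (modSubgroup_normal F hT hRS) ⟨t, htN⟩ (hTS htT) htR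
          (normalizerMonoidHom_mem_modSubgroup hnorm' ⟨t, htN⟩ htT) α hα
      obtain ⟨ψ₂, hψ₂, hψ₂'⟩ := hbig R' ψ hψ hcard
      refine ⟨ψ₂.comp (Subgroup.inclusion (sup_le_sup_right hRR' T)), hom_restrict F hψ₂ _, fun x => ?_⟩
      show ((α x : R) : Ω)⁻¹ * ψ₂ ⟨x, _⟩ ∈ T
      have hc : ((x⁻¹ * κ x : R) : Ω) ∈ T := hκK x
      have hνc := aut_mem_of_stronglyClosed F hT hRS hνA _ hc
      have h1 : α x = ν x * ν (x⁻¹ * κ x) := by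
        rw [hανκ, MulAut.mul_apply, ← map_mul, mul_inv_cancel_left]
      have h2 := hψ₂' ⟨x, hRR' x.2⟩
      rw [hψ' x] at h2
      have e : ((α x : R) : Ω)⁻¹ * ψ₂ ⟨x, (le_sup_left : R' ≤ R' ⊔ T) (hRR' x.2)⟩ =
          ((ν (x⁻¹ * κ x) : R) : Ω)⁻¹ * (((ν x : R) : Ω)⁻¹ *
            ψ₂ ⟨x, (le_sup_left : R' ≤ R' ⊔ T) (hRR' x.2)⟩) := by
        rw [h1, Subgroup.coe_mul]
        group
      rw [e]
      exact T.mul_mem (T.inv_mem hνc) h2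

end Cfsg.Agent.Helper87
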