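import Mathlib
import Cfsg.Agent.Helper87.Metacyclic
import Cfsg.Agent.Helper73.Taussky

set_option autoImplicit false

/-! Metacyclic `2`-groups that are not dihedral, quaternion or semidihedral (helper87). -/

namespace Cfsg.Agent.Helper87

open Subgroup

/-- A cyclic subgroup `⟨a⟩` of order `2^(m+2)` and an element `x` outside it with `x² ∈ ⟨a⟩` acting on `⟨a⟩` by a
power `k ≢ 1 (mod 4)`: then `⟨a, x⟩` is dihedral, quaternion or semidihedral. (The second half of the proof of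
`Helper73.taussky_structure`.) -/
theorem dqsd_of_not_one_mod_four {P : Type*} [Group P] (m : ℕ) (a x : P)
    (ha : orderOf a = 2 ^ (m + 2)) (hx : x ∉ zpowers a) (k s : ℤ) (hk : a ^ k = x * a * x⁻¹)
    (hs : a ^ s = x * x) (h4 : ¬ (4 : ℤ) ∣ k - 1) :
    (∃ x : P, x ∉ zpowers a ∧ x * a * x⁻¹ = a⁻¹ ∧ (x * x = 1 ∨ x * x = a ^ (2 ^ (m + 1)))) ∨
    (1 ≤ m ∧ ∃ b : P, orderOf b = 2 ∧ b * a * b⁻¹ = a ^ (2 ^ (m + 1) - 1)) := by
  have hxxa : x * x * a = a * (x * x) := by
    rw [← hs]; exact (Commute.zpow_self a s).eq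
  have hN : ((orderOf a : ℕ) : ℤ) = (2 : ℤ) ^ (m + 2) := by rw [ha]; push_cast; rfl
  -- `k * k ≡ 1`
  have hkk : a ^ (k * k) = a ^ (1 : ℤ) := by
    have e1 : x * (x * a * x⁻¹) * x⁻¹ = a := by
      have : x * (x * a * x⁻¹) * x⁻¹ = x * x * a * x⁻¹ * x⁻¹ := by group
      rw [this, hxxa]; group
    rw [zpow_one, zpow_mul]
    nth_rewrite 1 [hk]
    rw [conj_zpow, hk]
    exact e1
  have hdvd1 : ((2 : ℤ) ^ (m + 2)) ∣ k * k - 1 := by
    have := (zpow_eq_zpow_iff_modEq.1 hkk).symm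
    rw [hN] at this
    exact (Int.modEq_iff_dvd.1 this)
  obtain ⟨j, t, hjodd, hkj, hjt⟩ := Helper73.taussky_nt1 k m hdvd1 h4
  -- the square of `x`
  have hks : a ^ (k * s) = a ^ s := by
    have e1 : x * (x * x) * x⁻¹ = x * x := by group
    rw [zpow_mul]
    nth_rewrite 1 [hk]
    rw [conj_zpow, hs]
    exact e1
  have hdvd2 : ((2 : ℤ) ^ (m + 1)) ∣ s := by
    apply Helper73.taussky_nt2 j s m hjodd
    have := (zpow_eq_zpow_iff_modEq.1 hks).symm
    rw [hN] at this
    have h' := Int.modEq_iff_dvd.1 this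
    have e : k * s - s = 2 * j * s := by rw [hkj]; ring
    rwa [e] at h'
  obtain ⟨t2, ht2⟩ := hdvd2
  have hpowN : ∀ i : ℤ, a ^ ((2 : ℤ) ^ (m + 2) * i) = 1 := by
    intro i
    rw [← hN, zpow_mul, zpow_natCast, pow_orderOf_eq_one, one_zpow]
  have hxx : x * x = 1 ∨ x * x = a ^ (2 ^ (m + 1)) := by
    rcases Int.even_or_odd t2 with ⟨i, hi⟩ | ⟨i, hi⟩
    · left
      rw [← hs, ht2, hi]
      have : (2 : ℤ) ^ (m + 1) * (i + i) = 2 ^ (m + 2) * i := by ring
      rw [this, hpowN]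
    · right
      rw [← hs, ht2, hi]
      have : (2 : ℤ) ^ (m + 1) * (2 * i + 1) = 2 ^ (m + 2) * i + ((2 ^ (m + 1) : ℕ) : ℤ) := by
        push_cast; ring
      rw [this, zpow_add, hpowN, one_mul, zpow_natCast]
  rcases Int.even_or_odd t with ⟨i, hi⟩ | ⟨i, hi⟩
  · left
    refine ⟨x, hx, ?_, hxx⟩
    rw [← hk]
    apply eq_inv_of_mul_eq_one_left
    rw [← zpow_add_one]
    have : k + 1 = 2 ^ (m + 2) * i := by
      rw [hkj]
      have : 2 * j + 1 + 1 = 2 * (j + 1) := by ring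
      rw [this, hjt, hi]; ring
    rw [this, hpowN]
  · right
    have hk' : x * a * x⁻¹ = a ^ (2 ^ (m + 1) - 1) := by
      rw [← hk]
      have h1 : (1 : ℕ) ≤ 2 ^ (m + 1) := Nat.one_le_two_pow
      have : k = 2 ^ (m + 2) * i + ((2 ^ (m + 1) - 1 : ℕ) : ℤ) := by
        rw [Nat.cast_sub h1]
        push_cast
        have e : k = 2 * (j + 1) - 1 := by rw [hkj]; ring
        rw [e, hjt, hi]; ring
      rw [this, zpow_add, hpowN, one_mul, zpow_natCast]
    have hm : 1 ≤ m := by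
      by_contra hm0
      have hm0' : m = 0 := by omega
      subst hm0'
      apply h4
      have e1 : x * a * x⁻¹ = a ^ (1 : ℤ) := by
        rw [hk']; norm_num
      rw [← hk] at e1
      have := zpow_eq_zpow_iff_modEq.1 e1
      rw [hN] at this
      have h' := Int.modEq_iff_dvd.1 this.symm
      norm_num at h'
      exact h'
    refine ⟨hm, ?_⟩
    have hx1 : x ≠ 1 := fun h => hx (h ▸ one_mem _)
    rcases hxx with hxx | hxx
    · refine ⟨x, ?_, hk'⟩
      have : Fact (Nat.Prime 2) := ⟨Nat.prime_two⟩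
      exact orderOf_eq_prime (by rw [sq]; exact hxx) hx1
    · refine ⟨x * a, ?_, ?_⟩
      · have : Fact (Nat.Prime 2) := ⟨Nat.prime_two⟩
        apply orderOf_eq_prime
        · have e : (x * a) ^ 2 = (x * a * x⁻¹) * (x * x) * a := by
            rw [sq]; group
          rw [e, hk', hxx, ← pow_add, ← pow_succ]
          have h1 : (1 : ℕ) ≤ 2 ^ (m + 1) := Nat.one_le_two_pow
          have : 2 ^ (m + 1) - 1 + 2 ^ (m + 1) + 1 = 2 ^ (m + 2) := by
            have : (2 : ℕ) ^ (m + 2) = 2 * 2 ^ (m + 1) := by ring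
            omega
          rw [this, ← ha, pow_orderOf_eq_one]
        · intro h
          apply hx
          have : x = a⁻¹ := eq_inv_of_mul_eq_one_left h
          rw [this]; exact inv_mem (mem_zpowers a)
      · rw [← hk']; group

/-- **Structure of metacyclic `2`-groups outside the small list.** If `G` is a finite `2`-group with a cyclic
normal subgroup `N` and cyclic quotient `G ⧸ N`, and `G` is not dihedral, quaternion or semidihedral, then every
element squaring into `N` centralizes the elements of order dividing `4` of `N`, and the involutions of `G`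
commute pairwise. -/
theorem metacyclic_two_structure {G : Type*} [Group G] [Finite G] (hG : IsPGroup 2 G) (N : Subgroup G) [N.Normal]
    (hN : IsCyclic N) (hQ : IsCyclic (G ⧸ N))
    (hd : ¬ ∃ m : ℕ, Nonempty (G ≃* DihedralGroup m)) (hq : ¬ ∃ m : ℕ, Nonempty (G ≃* QuaternionGroup m))
    (hsd : ¬ Cfsg.IsQuasiDihedral G) :
    (∀ x : G, x ^ 2 ∈ N → ∀ n ∈ N, n ^ 4 = 1 → x * n = n * x) ∧
    (∀ x u : G, x ^ 2 = 1 → u ^ 2 = 1 → x * u = u * x) := by
  have hfact : Fact (Nat.Prime 2) := ⟨Nat.prime_two⟩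
  obtain ⟨a, k, haN, hak, hgen, hconj⟩ := exists_cyclic_gen hG N hN
  have hNeq : ∀ g : G, g ∈ N ↔ g ∈ zpowers a := fun g =>
    ⟨fun hg => by obtain ⟨i, rfl⟩ := hgen g hg; exact pow_mem (mem_zpowers a) i,
     fun hg => by obtain ⟨i, rfl⟩ := mem_zpowers_iff.mp hg; exact zpow_mem haN i⟩
  have hNcomm : ∀ n₁ ∈ N, ∀ n₂ ∈ N, n₁ * n₂ = n₂ * n₁ := by
    intro n₁ h1 n₂ h2
    obtain ⟨i, rfl⟩ := hgen n₁ h1
    obtain ⟨j, rfl⟩ := hgen n₂ h2
    rw [← pow_add, ← pow_add, add_comm]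
  have hconjpow : ∀ g : G, ∃ r : ℕ, ∀ n ∈ N, g * n * g⁻¹ = n ^ r := by
    intro g
    obtain ⟨r, hr⟩ := hconj g
    refine ⟨r, fun n hn => ?_⟩
    obtain ⟨s, rfl⟩ := hgen n hn
    rw [← conj_pow, hr, ← pow_mul, ← pow_mul, mul_comm]
  have hconj4 : ∀ g : G, ∀ n ∈ N, n ^ 4 = 1 → g * n * g⁻¹ = n ∨ g * n * g⁻¹ = n⁻¹ := by
    intro g n hn hn4
    obtain ⟨r, hr⟩ := hconjpow g
    have h1 := hr n hn
    have h2 : n ^ r = n ^ (r % 4) := by
      conv_lhs => rw [← Nat.mod_add_div r 4, pow_add, pow_mul, hn4, one_pow, mul_one]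
    rw [h2] at h1
    have h3 : r % 4 < 4 := Nat.mod_lt _ (by norm_num)
    generalize r % 4 = r' at h1 h3
    have hone : g * n * g⁻¹ = 1 → g * n * g⁻¹ = n := by
      intro h
      have : n = 1 := conj_eq_one_iff.mp h
      rw [this]; group
    interval_cases r'
    · left
      apply hone
      rw [h1, pow_zero]
    · left
      rw [h1, pow_one]
    · left
      apply hone
      have h5 : n ^ 2 = 1 := by
        have h6 : g * n ^ 2 * g⁻¹ = 1 := by
          rw [← conj_pow, h1, ← pow_mul]; exact hn4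
        exact conj_eq_one_iff.mp h6
      rw [h1, h5]
    · right
      rw [h1]
      apply eq_inv_of_mul_eq_one_left
      rw [← pow_succ]; exact hn4
  have hsqc : ∀ g : G, ∀ n ∈ N, n ^ 4 = 1 → g ^ 2 * n = n * g ^ 2 := by
    intro g n hn hn4
    have h1 : g ^ 2 * n * (g ^ 2)⁻¹ = g * (g * n * g⁻¹) * g⁻¹ := by rw [pow_two]; group
    have h2 : g ^ 2 * n * (g ^ 2)⁻¹ = n := by
      rw [h1]
      rcases hconj4 g n hn hn4 with h | h
      · rw [h, h]
      · have h3 : g * n⁻¹ * g⁻¹ = (g * n * g⁻¹)⁻¹ := by group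
        rw [h, h3, h, inv_inv]
    calc g ^ 2 * n = g ^ 2 * n * (g ^ 2)⁻¹ * g ^ 2 := by group
      _ = n * g ^ 2 := by rw [h2]
  have hi : ∀ x : G, x ^ 2 ∈ N → ∀ n ∈ N, n ^ 4 = 1 → x * n = n * x := by
    intro x hx2 n hn hn4
    by_contra hne
    have hinv : x * n * x⁻¹ = n⁻¹ := by
      rcases hconj4 x n hn hn4 with h | h
      · exfalso
        apply hne
        calc x * n = x * n * x⁻¹ * x := by group
          _ = n * x := by rw [h]
      · exact h
    have hn2 : n ^ 2 ≠ 1 := by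
      intro h
      apply hne
      have h1 : n⁻¹ = n := inv_eq_of_mul_eq_one_left (by rw [← pow_two]; exact h)
      rw [h1] at hinv
      calc x * n = x * n * x⁻¹ * x := by group
        _ = n * x := by rw [hinv]
    have hxN : x ∉ N := fun h => hne (hNcomm x h n hn)
    obtain ⟨c, hc⟩ := hQ.exists_generator
    obtain ⟨b, rfl⟩ := QuotientGroup.mk_surjective c
    have hpowb : ∀ g : G, ∃ j : ℕ, (g : G ⧸ N) = (b : G ⧸ N) ^ j := by
      intro g
      have h1 := hc (g : G ⧸ N)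
      obtain ⟨j, hj⟩ := (mem_powers_iff_mem_zpowers (G := G ⧸ N)).mpr h1
      have hj' : (b : G ⧸ N) ^ j = (g : G ⧸ N) := hj
      exact ⟨j, hj'.symm⟩
    obtain ⟨j, hj⟩ := hpowb x
    have hjodd : Odd j := by
      by_contra hcon
      rw [Nat.not_odd_iff_even] at hcon
      obtain ⟨j', hj'⟩ := hcon
      have h1 : ((b ^ j') ^ 2)⁻¹ * x ∈ N := by
        rw [← QuotientGroup.eq_one_iff, QuotientGroup.mk_mul, QuotientGroup.mk_inv, QuotientGroup.mk_pow,
          QuotientGroup.mk_pow, hj, hj', ← two_mul, ← pow_mul, mul_comm j' 2, inv_mul_cancel]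
      apply hne
      have h2 := hsqc (b ^ j') n hn hn4
      have h3 := hNcomm _ h1 n hn
      calc x * n = (b ^ j') ^ 2 * (((b ^ j') ^ 2)⁻¹ * x * n) := by group
        _ = (b ^ j') ^ 2 * (n * (((b ^ j') ^ 2)⁻¹ * x)) := by rw [h3]
        _ = ((b ^ j') ^ 2 * n) * (((b ^ j') ^ 2)⁻¹ * x) := by group
        _ = n * (b ^ j') ^ 2 * (((b ^ j') ^ 2)⁻¹ * x) := by rw [h2]
        _ = n * x := by group
    have hb2 : (b : G ⧸ N) ^ 2 = 1 := by
      have h1 : (b : G ⧸ N) ^ (2 * j) = 1 := by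
        rw [mul_comm, pow_mul, ← hj, ← QuotientGroup.mk_pow]
        exact (QuotientGroup.eq_one_iff _).mpr hx2
      obtain ⟨l, hl⟩ := (IsPGroup.iff_orderOf.mp (hG.to_quotient N)) (b : G ⧸ N)
      have h2 : 2 ^ l ∣ 2 * j := hl ▸ orderOf_dvd_of_pow_eq_one h1
      have h3 : l ≤ 1 := by
        by_contra hl2
        push Not at hl2
        obtain ⟨l', rfl⟩ : ∃ l', l = l' + 2 := ⟨l - 2, by omega⟩
        have h4 : 2 * 2 ∣ 2 * j := Dvd.dvd.trans ⟨2 ^ l', by ring⟩ h2
        have h5 : 2 ∣ j := (Nat.mul_dvd_mul_iff_left (by norm_num)).mp h4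
        exact (Nat.not_even_iff_odd.mpr hjodd) (even_iff_two_dvd.mpr h5)
      apply orderOf_dvd_iff_pow_eq_one.mp
      rw [hl]
      interval_cases l <;> norm_num
    have hidx : N.index = 2 := by
      rw [Subgroup.index_eq_two_iff]
      refine ⟨x, fun g => ?_⟩
      by_cases hg : g ∈ N
      · refine Or.inr ⟨hg, fun h => hxN ?_⟩
        exact (Subgroup.mul_mem_cancel_left N hg).mp h
      · refine Or.inl ⟨?_, hg⟩
        obtain ⟨i, hi⟩ := hpowb g
        have hiodd : Odd i := by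
          by_contra hcon
          rw [Nat.not_odd_iff_even] at hcon
          obtain ⟨i', hi'⟩ := hcon
          apply hg
          rw [← QuotientGroup.eq_one_iff, hi, hi', ← two_mul, pow_mul, hb2, one_pow]
        rw [← QuotientGroup.eq_one_iff, QuotientGroup.mk_mul, hi, hj, ← pow_add]
        obtain ⟨i', hi'⟩ := hiodd
        obtain ⟨j', hj'⟩ := hjodd
        have : i + j = 2 * (i' + j' + 1) := by omega
        rw [this, pow_mul, hb2, one_pow]
    have hn4' : orderOf n = 4 := by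
      have h4 : (4 : ℕ) = 2 ^ (1 + 1) := by norm_num
      rw [h4]
      apply orderOf_eq_prime_pow
      · rw [pow_one]; exact hn2
      · rw [← h4]; exact hn4
    have hk2 : 2 ≤ k := by
      obtain ⟨s, hs⟩ := hgen n hn
      have h1 : orderOf n ∣ orderOf a := by rw [hs]; exact orderOf_pow_dvd s
      rw [hn4', hak] at h1
      by_contra hlt
      push Not at hlt
      interval_cases k <;> omega
    obtain ⟨m, rfl⟩ : ∃ m, k = m + 2 := ⟨k - 2, by omega⟩
    have hcard : Nat.card G = 2 ^ (m + 3) := by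
      have h1 := Subgroup.card_mul_index N
      have h2 : Nat.card N = 2 ^ (m + 2) := by
        have : N = zpowers a := by ext g; exact hNeq g
        rw [this, Nat.card_zpowers, hak]
      rw [h2, hidx] at h1
      rw [← h1]
      ring
    have hxa : x ∉ zpowers a := fun h => hxN ((hNeq x).mpr h)
    obtain ⟨r, hr⟩ := hconj x
    obtain ⟨s, hs⟩ := hgen (x ^ 2) hx2
    have h4 : ¬ (4 : ℤ) ∣ (r : ℤ) - 1 := by
      rintro ⟨q, hq⟩
      apply hne
      obtain ⟨s', hs'⟩ := hgen n hn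
      have h1 : x * n * x⁻¹ = n ^ r := by
        rw [hs', ← conj_pow, hr, ← pow_mul, ← pow_mul, mul_comm]
      have h2 : n ^ r = n := by
        have h3 : (n : G) ^ (r : ℤ) = n := by
          have h5 : (r : ℤ) = 1 + 4 * q := by linarith
          have h6 : (n : G) ^ (4 : ℤ) = 1 := by exact_mod_cast hn4
          rw [h5, zpow_add, zpow_one, zpow_mul, h6, one_zpow, mul_one]
        exact_mod_cast h3
      rw [h2] at h1
      calc x * n = x * n * x⁻¹ * x := by group
        _ = n * x := by rw [h1]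
    rcases dqsd_of_not_one_mod_four m a x hak hxa (r : ℤ) (s : ℤ) (by rw [zpow_natCast, hr])
      (by rw [zpow_natCast, ← hs, pow_two]) h4 with ⟨x', hx', hx'a, hx'2⟩ | ⟨hm1, b', hb', hb'a⟩
    · rcases hx'2 with h1 | h1
      · have : NeZero (2 ^ (m + 2)) := ⟨by positivity⟩
        exact hd ⟨2 ^ (m + 2), Helper73.nonempty_mulEquiv_dihedralGroup (2 ^ (m + 2)) a x'
          (by rw [hcard]; ring) hak h1 hx'a hx'⟩
      · have : NeZero (2 ^ (m + 1)) := ⟨by positivity⟩
        exact hq ⟨2 ^ (m + 1), Helper73.nonempty_mulEquiv_quaternionGroup (2 ^ (m + 1)) a x'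
          (by rw [hcard]; ring) (by rw [hak]; ring) h1 hx'a hx'⟩
    · exact hsd ⟨m + 2, by omega, hcard, a, b', hak, hb', by simpa using hb'a⟩
  refine ⟨hi, ?_⟩
  intro x u hx hu
  by_cases hxN : x ∈ N
  · have hx4 : x ^ 4 = 1 := by rw [show 4 = 2 * 2 from rfl, pow_mul, hx, one_pow]
    exact (hi u (by rw [hu]; exact N.one_mem) x hxN hx4).symm
  by_cases huN : u ∈ N
  · have hu4 : u ^ 4 = 1 := by rw [show 4 = 2 * 2 from rfl, pow_mul, hu, one_pow]
    exact hi x (by rw [hx]; exact N.one_mem) u huN hu4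
  obtain ⟨c, hc⟩ := hQ.exists_generator
  have hbar : (x : G ⧸ N) = (u : G ⧸ N) :=
    Helper73.eq_of_sq_eq_one_of_mem_zpowers c _ _ (hc _) (hc _)
      (by rw [← QuotientGroup.mk_pow, hx]; rfl) (by rw [← QuotientGroup.mk_pow, hu]; rfl)
      (fun h => hxN ((QuotientGroup.eq_one_iff _).mp h)) (fun h => huN ((QuotientGroup.eq_one_iff _).mp h))
  have hnN : x⁻¹ * u ∈ N := QuotientGroup.eq.mp hbar
  have hx' : x⁻¹ = x := inv_eq_of_mul_eq_one_left (by rw [← pow_two]; exact hx)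
  have hu' : u⁻¹ = u := inv_eq_of_mul_eq_one_left (by rw [← pow_two]; exact hu)
  generalize hndef : x⁻¹ * u = n at hnN
  have hux : u = x * n := by rw [← hndef]; group
  have hinv : x * n * x⁻¹ = n⁻¹ := by
    rw [← hndef, mul_inv_rev, inv_inv, hu', hx', ← mul_assoc, ← pow_two, hx, one_mul]
  have hn2 : n ^ 2 = 1 := by
    by_contra hne
    obtain ⟨r, hr⟩ := (IsPGroup.iff_orderOf.mp hG) n
    have hr2 : 2 ≤ r := by
      by_contra hlt
      push Not at hlt
      apply hne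
      have : orderOf n ∣ 2 := by
        rw [hr]
        interval_cases r <;> norm_num
      exact orderOf_dvd_iff_pow_eq_one.mp this
    obtain ⟨r', rfl⟩ : ∃ r', r = r' + 2 := ⟨r - 2, by omega⟩
    have h4 : (n ^ (2 ^ r')) ^ 4 = 1 := by
      rw [← pow_mul, show 2 ^ r' * 4 = 2 ^ (r' + 2) by ring, ← hr, pow_orderOf_eq_one]
    have h2 : (n ^ (2 ^ r')) ^ 2 ≠ 1 := by
      rw [← pow_mul]
      apply pow_ne_one_of_lt_orderOf (by positivity)
      rw [hr]
      have : 0 < 2 ^ r' := by positivity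
      rw [pow_add]
      omega
    have hcomm := hi x (by rw [hx]; exact N.one_mem) (n ^ (2 ^ r')) (N.pow_mem hnN _) h4
    have hinv4 : x * n ^ (2 ^ r') * x⁻¹ = (n ^ (2 ^ r'))⁻¹ := by rw [← conj_pow, hinv, inv_pow]
    apply h2
    have h5 : n ^ (2 ^ r') = (n ^ (2 ^ r'))⁻¹ := by
      rw [← hinv4, hcomm, mul_inv_cancel_right]
    rw [pow_two]
    nth_rewrite 2 [h5]
    exact mul_inv_cancel _
  have hnn : n⁻¹ = n := inv_eq_of_mul_eq_one_left (by rw [← pow_two]; exact hn2)
  rw [hnn] at hinv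
  have hxn : x * n = n * x := by
    calc x * n = x * n * x⁻¹ * x := by group
      _ = n * x := by rw [hinv]
  rw [hux, mul_assoc, ← hxn]

end Cfsg.Agent.Helper87
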