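import Mathlib
import Cfsg.Agent.Helper87.Meta2B
import Cfsg.Agent.Helper73.Taussky

set_option autoImplicit false

/-! Two-generator `2`-groups with an automorphism of odd order (helper87). -/

namespace Cfsg.Agent.Helper87

section
variable {G : Type*} [Group G] [Finite G]

/-- A cyclic `2`-group has no nontrivial automorphism of odd order. -/
theorem aut_eq_one_of_cyclic (hG : IsPGroup 2 G) (u : G) (hu : ∀ g : G, ∃ i : ℕ, g = u ^ i)
    (β : MulAut G) (m : ℕ) (hm : Odd m) (hβm : β ^ m = 1) : β = 1 := by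
  have : Fact (Nat.Prime 2) := ⟨Nat.prime_two⟩
  by_contra hβ
  obtain ⟨x, hx⟩ := exists_not_mem_frattini_of_odd_aut hG β m hm hβm hβ
  obtain ⟨i, hi⟩ := hu (β u)
  obtain ⟨j, hj⟩ := hu x
  apply hx
  rcases Nat.even_or_odd i with ⟨i', hi'⟩ | ⟨i', hi'⟩
  · have h1 : β u ∈ frattini G := by
      rw [hi, hi', ← two_mul, pow_mul']
      exact Helper2.pow_mem_frattini_of_isPGroup hG _
    have h2 : u ∈ frattini G := by
      have := aut_mem_frattini β⁻¹ (β u) h1
      simpa using this
    have h3 : ∀ g : G, g ∈ frattini G := fun g => by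
      obtain ⟨k, rfl⟩ := hu g
      exact Subgroup.pow_mem _ h2 k
    exact Subgroup.mul_mem _ (h3 _) (Subgroup.inv_mem _ (h3 _))
  · have h1 : β x = (u ^ (i' * j)) ^ 2 * x := by
      rw [hj, map_pow, hi, hi', ← pow_mul, ← pow_mul, ← pow_add]
      congr 1
      ring
    rw [h1, mul_inv_cancel_right]
    exact Helper2.pow_mem_frattini_of_isPGroup hG _

/-- If an automorphism of odd order maps `u` into `⟨u⟩ Φ(G)`, then `u ∈ Φ(G)` or `u` generates `G`. -/
theorem mem_frattini_or_zpowers_eq_top (hG : IsPGroup 2 G) (a b : G)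
    (hab : ∀ g : G, ∃ i j : ℕ, g = b ^ j * a ^ i)
    (γ : MulAut G) (m : ℕ) (hm : Odd m) (hγm : γ ^ m = 1) (hγ : γ ≠ 1) (u : G)
    (hu : γ u ∈ Subgroup.zpowers u ⊔ frattini G) : u ∈ frattini G ∨ Subgroup.zpowers u = ⊤ := by
  by_cases htop : Subgroup.zpowers u ⊔ frattini G = ⊤
  · right; exact frattini_nongenerating htop
  · left
    have hinv : ∀ h ∈ Subgroup.zpowers u ⊔ frattini G, γ h ∈ Subgroup.zpowers u ⊔ frattini G := by
      intro h hh
      have h3 : Subgroup.map γ.toMonoidHom (Subgroup.zpowers u ⊔ frattini G) ≤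
          Subgroup.zpowers u ⊔ frattini G := by
        rw [Subgroup.map_sup]
        refine sup_le ?_ ?_
        · rw [MonoidHom.map_zpowers, Subgroup.zpowers_le]; exact hu
        · rintro _ ⟨h, hh, rfl⟩; exact Subgroup.mem_sup_right (aut_mem_frattini γ h hh)
      exact h3 ⟨h, hh, rfl⟩
    exact le_frattini_of_invariant hG a b hab γ m hm hγm hγ _ hinv htop
      (Subgroup.mem_sup_left (Subgroup.mem_zpowers u))

/-- The abelian case: the elements of order less than the exponent lie in the Frattini subgroup. -/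
theorem exists_exponent_of_comm (hG : IsPGroup 2 G) (a b : G) (hab : ∀ g : G, ∃ i j : ℕ, g = b ^ j * a ^ i)
    (β : MulAut G) (m : ℕ) (hm : Odd m) (hβm : β ^ m = 1) (hβ : β ≠ 1) (hcomm : ∀ x y : G, x * y = y * x) :
    ∃ k : ℕ, (∀ g : G, g ^ (2 ^ (k + 1)) = 1) ∧ ∀ g : G, g ^ (2 ^ k) = 1 → g ∈ frattini G := by
  classical
  have hex : ∃ n : ℕ, ∀ g : G, g ^ (2 ^ n) = 1 := by
    obtain ⟨n, hn⟩ := (IsPGroup.iff_card (p := 2) (G := G)).mp hG
    exact ⟨n, fun g => by rw [← hn]; exact pow_card_eq_one'⟩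
  have hn : ∀ g : G, g ^ (2 ^ (Nat.find hex)) = 1 := Nat.find_spec hex
  have hn0 : Nat.find hex ≠ 0 := by
    intro h0
    apply hβ
    ext x
    have h1 := hn x
    rw [h0] at h1
    have h2 := hn (β x)
    rw [h0] at h2
    simp only [pow_zero, pow_one] at h1 h2
    rw [h2, h1]
    rfl
  obtain ⟨k, hk⟩ : ∃ k, Nat.find hex = k + 1 := ⟨Nat.find hex - 1, by omega⟩
  have hmin : ¬ ∀ g : G, g ^ (2 ^ k) = 1 := Nat.find_min hex (by omega : k < Nat.find hex)
  refine ⟨k, fun g => ?_, ?_⟩
  · have := hn g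
    rw [hk] at this
    exact this
  · let H : Subgroup G :=
      { carrier := {g | g ^ (2 ^ k) = 1}
        mul_mem' := fun {x y} hx hy => by
          show (x * y) ^ (2 ^ k) = 1
          rw [(show Commute x y from hcomm x y).mul_pow, (hx : x ^ (2 ^ k) = 1), (hy : y ^ (2 ^ k) = 1), mul_one]
        one_mem' := one_pow _
        inv_mem' := fun {x} hx => by
          show (x⁻¹) ^ (2 ^ k) = 1
          rw [inv_pow, (hx : x ^ (2 ^ k) = 1), inv_one] }
    have hH : ∀ h ∈ H, β h ∈ H := fun h hh => by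
      show (β h) ^ (2 ^ k) = 1
      rw [← map_pow, (hh : h ^ (2 ^ k) = 1), map_one]
    have hHtop : H ≠ ⊤ := by
      intro h
      apply hmin
      intro g
      have : g ∈ H := h ▸ Subgroup.mem_top g
      exact this
    exact fun g hg => le_frattini_of_invariant hG a b hab β m hm hβm hβ H hH hHtop hg

end

end Cfsg.Agent.Helper87
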