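import Mathlib
import Cfsg.Agent.Helper87.Meta2N

set_option autoImplicit false

/-! A nonabelian metacyclic `2`-group with an automorphism of odd order is small (helper87). -/

namespace Cfsg.Agent.Helper87

open scoped commutatorElement

section
variable {G : Type*} [Group G] [Finite G]

theorem odd_pow_of_sq_eq_one (z : G) (hz : z ^ 2 = 1) (x : ℕ) (hx : Odd x) : z ^ x = z := by
  obtain ⟨x', rfl⟩ := hx
  rw [pow_succ, pow_mul, hz, one_pow, one_mul]

/-- **Nonabelian case.** A nonabelian `2`-group `G = ⟨b⟩⟨a⟩` with `⟨a⟩` normal and a nontrivial automorphism of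
odd order has `a ^ 4 = 1` and all squares in `⟨a⟩` (it is the quaternion group of order `8`). -/
theorem nonabelian_structure (hG : IsPGroup 2 G) (a b : G) (hab : ∀ g : G, ∃ i j : ℕ, g = b ^ j * a ^ i)
    (hN : ∀ g : G, ∃ i : ℕ, g * a * g⁻¹ = a ^ i)
    (β : MulAut G) (m : ℕ) (hm : Odd m) (hβm : β ^ m = 1) (hβ : β ≠ 1)
    (hnab : ∃ x y : G, x * y ≠ y * x) :
    a ^ 4 = 1 ∧ ∀ g : G, g ^ 2 ∈ Subgroup.zpowers a := by
  have : Fact (Nat.Prime 2) := ⟨Nat.prime_two⟩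
  have hsq : ∀ g : G, g ^ 2 ∈ frattini G := fun g => Helper2.pow_mem_frattini_of_isPGroup hG g
  -- (1) `G` is not cyclic
  have hcyc : ∀ u : G, Subgroup.zpowers u ≠ ⊤ := by
    intro u hu
    obtain ⟨x, y, hxy⟩ := hnab
    have hx : x ∈ Subgroup.zpowers u := hu ▸ Subgroup.mem_top x
    have hy : y ∈ Subgroup.zpowers u := hu ▸ Subgroup.mem_top y
    obtain ⟨i, rfl⟩ := Subgroup.mem_zpowers_iff.mp hx
    obtain ⟨j, rfl⟩ := Subgroup.mem_zpowers_iff.mp hy
    exact hxy (by rw [← zpow_add, ← zpow_add, add_comm])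
  -- (2) `a ∉ Φ`
  have haΦ : a ∉ frattini G := by
    intro ha
    apply hcyc b
    apply frattini_nongenerating
    rw [eq_top_iff]
    intro g _
    obtain ⟨i, j, rfl⟩ := hab g
    exact Subgroup.mul_mem _ (Subgroup.mem_sup_left (Subgroup.pow_mem _ (Subgroup.mem_zpowers b) j))
      (Subgroup.mem_sup_right (Subgroup.pow_mem _ ha i))
  -- (3) `v = β a`
  have hv1 : β a ∉ Subgroup.zpowers a ⊔ frattini G := by
    intro h
    rcases mem_frattini_or_zpowers_eq_top hG a b hab β m hm hβm hβ a h with h1 | h1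
    · exact haΦ h1
    · exact hcyc a h1
  have hvΦ : β a ∉ frattini G := fun h => hv1 (Subgroup.mem_sup_right h)
  -- (4) `β ^ 2`
  have hγm : (β ^ 2) ^ m = 1 := by rw [← pow_mul, mul_comm, pow_mul, hβm, one_pow]
  have hγ : β ^ 2 ≠ 1 := by
    intro h
    obtain ⟨k, hk⟩ := hm
    apply hβ
    have h1 : β ^ m = β := by rw [hk, pow_succ, pow_mul, h, one_pow, one_mul]
    rw [← h1, hβm]
  have hv2 : β (β a) ∉ Subgroup.zpowers a ⊔ frattini G := by
    intro h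
    have h' : (β ^ 2) a ∈ Subgroup.zpowers a ⊔ frattini G := by
      rw [pow_two, MulAut.mul_apply]; exact h
    rcases mem_frattini_or_zpowers_eq_top hG a b hab (β ^ 2) m hm hγm hγ a h' with h1 | h1
    · exact haΦ h1
    · exact hcyc a h1
  have hv3 : β (β a) ∉ Subgroup.zpowers (β a) ⊔ frattini G := by
    intro h
    rcases mem_frattini_or_zpowers_eq_top hG a b hab β m hm hβm hβ (β a) h with h1 | h1
    · exact hvΦ h1
    · exact hcyc (β a) h1
  generalize hvdef : β a = v at hv1 hvΦ hv2 hv3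
  -- (5) normality
  have hNv : ∀ g : G, ∃ i : ℕ, g * v * g⁻¹ = v ^ i := by
    intro g
    obtain ⟨i, hi⟩ := hN (β⁻¹ g)
    refine ⟨i, ?_⟩
    have h1 := congrArg β hi
    rw [map_mul, map_mul, map_inv, map_pow, MulAut.apply_inv_self, hvdef] at h1
    exact h1
  have hA1n : ∀ g : G, ∀ n ∈ Subgroup.zpowers a, g * n * g⁻¹ ∈ Subgroup.zpowers a := by
    intro g n hn
    obtain ⟨k, rfl⟩ := Subgroup.mem_zpowers_iff.mp hn
    obtain ⟨i, hi⟩ := hN g
    rw [← conj_zpow, hi]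
    exact Subgroup.zpow_mem _ (Subgroup.pow_mem _ (Subgroup.mem_zpowers a) i) k
  have hA2n : ∀ g : G, ∀ n ∈ Subgroup.zpowers v, g * n * g⁻¹ ∈ Subgroup.zpowers v := by
    intro g n hn
    obtain ⟨k, rfl⟩ := Subgroup.mem_zpowers_iff.mp hn
    obtain ⟨i, hi⟩ := hNv g
    rw [← conj_zpow, hi]
    exact Subgroup.zpow_mem _ (Subgroup.pow_mem _ (Subgroup.mem_zpowers v) i) k
  have hA2normal : (Subgroup.zpowers v).Normal := ⟨fun n hn g => hA2n g n hn⟩
  -- (6) generation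
  have hgen : Subgroup.zpowers a ⊔ Subgroup.zpowers v = ⊤ := by
    apply frattini_nongenerating
    obtain ⟨i, j, hij⟩ := hab v
    have hjodd : Odd j := by
      by_contra hj
      rw [Nat.not_odd_iff_even] at hj
      obtain ⟨j', hj'⟩ := hj
      apply hv1
      rw [hij]
      refine Subgroup.mul_mem _ (Subgroup.mem_sup_right ?_)
        (Subgroup.mem_sup_left (Subgroup.pow_mem _ (Subgroup.mem_zpowers a) i))
      rw [hj', ← two_mul, pow_mul']
      exact hsq _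
    obtain ⟨j', hj'⟩ := hjodd
    have hbj : b ^ j ∈ Subgroup.zpowers a ⊔ Subgroup.zpowers v := by
      have : b ^ j = v * (a ^ i)⁻¹ := by rw [hij, mul_inv_cancel_right]
      rw [this]
      exact Subgroup.mul_mem _ (Subgroup.mem_sup_right (Subgroup.mem_zpowers v))
        (Subgroup.inv_mem _ (Subgroup.mem_sup_left (Subgroup.pow_mem _ (Subgroup.mem_zpowers a) i)))
    have hb : b ∈ Subgroup.zpowers a ⊔ Subgroup.zpowers v ⊔ frattini G := by
      have : b = b ^ j * ((b ^ j')⁻¹) ^ 2 := by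
        rw [hj', inv_pow, ← pow_mul, mul_comm j' 2, pow_succ]
        group
      rw [this]
      exact Subgroup.mul_mem _ (Subgroup.mem_sup_left hbj) (Subgroup.mem_sup_right (hsq _))
    rw [eq_top_iff]
    intro g _
    obtain ⟨i', j'', rfl⟩ := hab g
    exact Subgroup.mul_mem _ (Subgroup.pow_mem _ hb j'')
      (Subgroup.mem_sup_left (Subgroup.mem_sup_left (Subgroup.pow_mem _ (Subgroup.mem_zpowers a) i')))
  have hprod : ∀ g : G, ∃ x y : ℕ, g = a ^ x * v ^ y := by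
    intro g
    have hg : g ∈ Subgroup.zpowers a ⊔ Subgroup.zpowers v := hgen ▸ Subgroup.mem_top g
    obtain ⟨y1, hy1, z1, hz1, rfl⟩ := Subgroup.mem_sup_of_normal_right.mp hg
    obtain ⟨x, hx⟩ := (mem_powers_iff_mem_zpowers (G := G)).mpr hy1
    obtain ⟨y, hy⟩ := (mem_powers_iff_mem_zpowers (G := G)).mpr hz1
    have hx' : a ^ x = y1 := hx
    have hy' : v ^ y = z1 := hy
    exact ⟨x, y, by rw [hx', hy']⟩
  -- (7) the intersection is central
  have hcent : ∀ d : G, d ∈ Subgroup.zpowers a → d ∈ Subgroup.zpowers v → ∀ g : G, Commute d g := by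
    intro d hd1 hd2 g
    obtain ⟨k1, hk1⟩ := Subgroup.mem_zpowers_iff.mp hd1
    obtain ⟨k2, hk2⟩ := Subgroup.mem_zpowers_iff.mp hd2
    have hda : Commute d a := by rw [← hk1]; exact (Commute.refl a).zpow_left k1
    have hdv : Commute d v := by rw [← hk2]; exact (Commute.refl v).zpow_left k2
    obtain ⟨x, y, rfl⟩ := hprod g
    exact (hda.pow_right x).mul_right (hdv.pow_right y)
  -- (8) commutators
  have hcomm12 : ∀ X ∈ Subgroup.zpowers a, ∀ Y ∈ Subgroup.zpowers v,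
      ⁅Y, X⁆ ∈ Subgroup.zpowers a ∧ ⁅Y, X⁆ ∈ Subgroup.zpowers v := by
    intro X hX Y hY
    constructor
    · rw [commutatorElement_def]
      exact Subgroup.mul_mem _ (hA1n Y X hX) (Subgroup.inv_mem _ hX)
    · have : ⁅Y, X⁆ = Y * (X * Y * X⁻¹)⁻¹ := by rw [commutatorElement_def]; group
      rw [this]
      exact Subgroup.mul_mem _ hY (Subgroup.inv_mem _ (hA2n X Y hY))
  have hc0 : ⁅v, a⁆ ≠ 1 := by
    intro h
    have hva : Commute v a := commutatorElement_eq_one_iff_commute.mp h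
    obtain ⟨x1, y1, hxy⟩ := hnab
    apply hxy
    obtain ⟨i1, j1, rfl⟩ := hprod x1
    obtain ⟨i2, j2, rfl⟩ := hprod y1
    have h1 : Commute (a ^ i1) (a ^ i2 * v ^ j2) :=
      ((Commute.refl a).pow_pow i1 i2).mul_right (hva.symm.pow_pow i1 j2)
    have h2 : Commute (v ^ j1) (a ^ i2 * v ^ j2) :=
      (hva.pow_pow j1 i2).mul_right ((Commute.refl v).pow_pow j1 j2)
    exact (h1.mul_left h2).eq
  have hc0mem := hcomm12 a (Subgroup.mem_zpowers a) v (Subgroup.mem_zpowers v)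
  -- (9) the involution
  obtain ⟨n0, hn0⟩ := (IsPGroup.iff_card (p := 2) (G := G)).mp hG
  obtain ⟨j0, hz1, hz2⟩ := exists_pow_order_p (p := 2) ⁅v, a⁆ ⟨n0, by rw [← hn0]; exact pow_card_eq_one'⟩ hc0
  generalize hzdef : ⁅v, a⁆ ^ j0 = z at hz1 hz2
  have hzA1 : z ∈ Subgroup.zpowers a := by rw [← hzdef]; exact Subgroup.pow_mem _ hc0mem.1 j0
  have hzA2 : z ∈ Subgroup.zpowers v := by rw [← hzdef]; exact Subgroup.pow_mem _ hc0mem.2 j0
  have hzc : ∀ g : G, Commute z g := hcent z hzA1 hzA2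
  -- (10) orders
  obtain ⟨k, hk⟩ := (IsPGroup.iff_orderOf.mp hG) a
  have hk0 : k ≠ 0 := by
    intro h0
    rw [h0, pow_zero, orderOf_eq_one_iff] at hk
    exact haΦ (hk ▸ Subgroup.one_mem _)
  obtain ⟨k₁, rfl⟩ : ∃ k₁, k = k₁ + 1 := ⟨k - 1, by omega⟩
  have haN1 : a ^ (2 ^ k₁) ≠ 1 := by
    apply pow_ne_one_of_lt_orderOf (by positivity)
    rw [hk, pow_succ]
    have : 0 < 2 ^ k₁ := by positivity
    omega
  have haN2 : (a ^ (2 ^ k₁)) ^ 2 = 1 := by
    rw [← pow_mul, ← pow_succ, ← hk, pow_orderOf_eq_one]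
  have haNz : a ^ (2 ^ k₁) = z :=
    Helper73.eq_of_sq_eq_one_of_mem_zpowers a _ _ (Subgroup.pow_mem _ (Subgroup.mem_zpowers a) _) hzA1
      haN2 hz2 haN1 hz1
  have hvN1 : v ^ (2 ^ k₁) ≠ 1 := by
    intro h
    apply haN1
    apply β.injective
    rw [map_pow, hvdef, h, map_one]
  have hvN2 : (v ^ (2 ^ k₁)) ^ 2 = 1 := by
    rw [← hvdef, ← map_pow, ← map_pow, haN2, map_one]
  have hvNz : v ^ (2 ^ k₁) = z :=
    Helper73.eq_of_sq_eq_one_of_mem_zpowers v _ _ (Subgroup.pow_mem _ (Subgroup.mem_zpowers v) _) hzA2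
      hvN2 hz2 hvN1 hz1
  have hβz : β z = z := by
    rw [← haNz, map_pow, hvdef, hvNz, haNz]
  -- (11) the image of `v`
  obtain ⟨x, y, hxy⟩ := hprod (β v)
  have hyodd : Odd y := by
    by_contra hy
    rw [Nat.not_odd_iff_even] at hy
    obtain ⟨y', hy'⟩ := hy
    apply hv2
    rw [hxy]
    refine Subgroup.mul_mem _ (Subgroup.mem_sup_left (Subgroup.pow_mem _ (Subgroup.mem_zpowers a) x))
      (Subgroup.mem_sup_right ?_)
    rw [hy', ← two_mul, pow_mul']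
    exact hsq _
  have hxodd : Odd x := by
    by_contra hx
    rw [Nat.not_odd_iff_even] at hx
    obtain ⟨x', hx'⟩ := hx
    apply hv3
    rw [hxy]
    refine Subgroup.mul_mem _ (Subgroup.mem_sup_right ?_)
      (Subgroup.mem_sup_left (Subgroup.pow_mem _ (Subgroup.mem_zpowers v) y))
    rw [hx', ← two_mul, pow_mul']
    exact hsq _
  -- (12) the class two formula
  have hXmem : a ^ x ∈ Subgroup.zpowers a := Subgroup.pow_mem _ (Subgroup.mem_zpowers a) x
  have hYmem : v ^ y ∈ Subgroup.zpowers v := Subgroup.pow_mem _ (Subgroup.mem_zpowers v) y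
  have hwmem := hcomm12 _ hXmem _ hYmem
  have hwc : ∀ g : G, Commute ⁅v ^ y, a ^ x⁆ g := hcent _ hwmem.1 hwmem.2
  have hzz : z * z = 1 := by rw [← pow_two, hz2]
  have hw1 : ⁅v ^ y, a ^ x⁆ ^ ((2 ^ k₁).choose 2) = z := by
    have h1 := mul_pow_class_two (a ^ x) (v ^ y) (hwc _) (hwc _) (2 ^ k₁)
    rw [← hxy, ← map_pow, hvNz, hβz, ← pow_mul, mul_comm x, pow_mul, haNz, ← pow_mul, mul_comm y, pow_mul,
      hvNz, odd_pow_of_sq_eq_one z hz2 x hxodd, odd_pow_of_sq_eq_one z hz2 y hyodd, hzz, one_mul] at h1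
    exact h1.symm
  -- (13) `w ^ N = 1`
  have hwN : ⁅v ^ y, a ^ x⁆ ^ (2 ^ k₁) = 1 := by
    rw [← Helper2.commutatorElement_pow_left _ _ (hwc _), ← pow_mul, mul_comm y, pow_mul, hvNz,
      odd_pow_of_sq_eq_one z hz2 y hyodd]
    exact commutatorElement_eq_one_iff_commute.mpr (hzc _)
  -- (14) `N` is even
  have hk₁ : k₁ ≠ 0 := by
    intro h0
    rw [h0] at hw1
    simp at hw1
    exact hz1 hw1.symm
  obtain ⟨k₂, rfl⟩ : ∃ k₂, k₁ = k₂ + 1 := ⟨k₁ - 1, by omega⟩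
  have hch : (2 ^ (k₂ + 1)).choose 2 = 2 ^ k₂ * (2 * (2 ^ k₂ - 1) + 1) := by
    rw [Nat.choose_two_right]
    have h0 : 0 < 2 ^ k₂ := by positivity
    have h1 : 2 ^ (k₂ + 1) - 1 = 2 * (2 ^ k₂ - 1) + 1 := by rw [pow_succ]; omega
    rw [h1, pow_succ, mul_comm (2 ^ k₂) 2, mul_assoc, Nat.mul_div_cancel_left _ (by norm_num : 0 < 2)]
  have hζ2 : (⁅v ^ y, a ^ x⁆ ^ (2 ^ k₂)) ^ 2 = 1 := by
    rw [← pow_mul, ← pow_succ]; exact hwN
  have hζ : ⁅v ^ y, a ^ x⁆ ^ (2 ^ k₂) = z := by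
    rw [hch, pow_mul, odd_pow_of_sq_eq_one _ hζ2 _ ⟨_, rfl⟩] at hw1
    exact hw1
  -- (15) `a ^ 2` is central
  obtain ⟨s, hs⟩ := (mem_powers_iff_mem_zpowers (G := G)).mpr hwmem.1
  have hs' : a ^ s = ⁅v ^ y, a ^ x⁆ := hs
  have hseven : Even s := by
    have h1 : a ^ (s * 2 ^ (k₂ + 1)) = 1 := by rw [pow_mul, hs', hwN]
    have h2 := orderOf_dvd_of_pow_eq_one h1
    rw [hk, pow_succ _ (k₂ + 1), mul_comm s] at h2
    have h3 : 2 ∣ s := (Nat.mul_dvd_mul_iff_left (by positivity)).mp h2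
    exact even_iff_two_dvd.mpr h3
  obtain ⟨s', hs2⟩ := hseven
  have hs'odd : Odd s' := by
    by_contra hcon
    rw [Nat.not_odd_iff_even] at hcon
    obtain ⟨s'', hs''⟩ := hcon
    apply hz1
    have h1 : a ^ (s * 2 ^ k₂) = z := by rw [pow_mul, hs', hζ]
    have h2 : s * 2 ^ k₂ = 2 ^ (k₂ + 1) * (2 * s'') := by rw [hs2, hs'', pow_succ]; ring
    rw [h2, pow_mul, haNz, pow_mul, hz2, one_pow] at h1
    exact h1.symm
  have ha2c : ∀ g : G, Commute (a ^ 2) g := by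
    have hcop : Nat.Coprime s' (orderOf (a ^ 2)) := by
      have h1 : orderOf (a ^ 2) ∣ 2 ^ (k₂ + 1 + 1) := by
        apply orderOf_dvd_of_pow_eq_one
        rw [← pow_mul, mul_comm, pow_mul, ← hk, pow_orderOf_eq_one, one_pow]
      obtain ⟨j, -, hj⟩ := (Nat.dvd_prime_pow Nat.prime_two).mp h1
      rw [hj]
      exact Nat.Coprime.pow_right j (Nat.coprime_two_right.mpr hs'odd)
    obtain ⟨u, hu⟩ := exists_pow_eq_self_of_coprime hcop
    have h1 : ⁅v ^ y, a ^ x⁆ ^ u = a ^ 2 := by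
      rw [← hs', hs2, ← two_mul, pow_mul]; exact hu
    intro g
    rw [← h1]
    exact (hwc g).pow_left u
  have hv2c : ∀ g : G, Commute (v ^ 2) g := by
    intro g
    have h1 := (ha2c (β⁻¹ g)).map β
    rw [map_pow, hvdef, MulAut.apply_inv_self] at h1
    exact h1
  -- (16) `w ^ 2 = 1`
  have hw2 : ⁅v ^ y, a ^ x⁆ ^ 2 = 1 := by
    rw [← Helper2.commutatorElement_pow_left _ _ (hwc _), ← pow_mul, mul_comm y, pow_mul]
    exact commutatorElement_eq_one_iff_commute.mpr ((hv2c _).pow_left y)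
  have hk₂ : k₂ = 0 := by
    by_contra hne
    obtain ⟨k₃, rfl⟩ : ∃ k₃, k₂ = k₃ + 1 := ⟨k₂ - 1, by omega⟩
    apply hz1
    rw [← hζ, pow_succ, mul_comm, pow_mul, hw2, one_pow]
  subst hk₂
  have ha4 : a ^ 4 = 1 := by
    have : (4 : ℕ) = 2 ^ (0 + 1 + 1) := by norm_num
    rw [this, ← hk, pow_orderOf_eq_one]
  have ha2z : a ^ 2 = z := by simpa using haNz
  have hv2z : v ^ 2 = z := by simpa using hvNz
  refine ⟨ha4, fun g => ?_⟩
  obtain ⟨x', y', rfl⟩ := hprod g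
  have hmem := hcomm12 _ (Subgroup.pow_mem _ (Subgroup.mem_zpowers a) x') _
    (Subgroup.pow_mem _ (Subgroup.mem_zpowers v) y')
  have hc' : ∀ g : G, Commute ⁅v ^ y', a ^ x'⁆ g := hcent _ hmem.1 hmem.2
  rw [mul_pow_class_two (a ^ x') (v ^ y') (hc' _) (hc' _) 2]
  refine Subgroup.mul_mem _ (Subgroup.mul_mem _ (Subgroup.pow_mem _ (Subgroup.pow_mem _ (Subgroup.mem_zpowers a) _) _) ?_)
    (Subgroup.pow_mem _ hmem.1 _)
  rw [← pow_mul, mul_comm, pow_mul, hv2z]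
  exact Subgroup.pow_mem _ hzA1 _

end

end Cfsg.Agent.Helper87
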