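import Mathlib
import Cfsg.Agent.Helper87.Meta2A
import Cfsg.Agent.Helper87.Meta2Q

set_option autoImplicit false

/-! Subgroups with an automorphism of odd order inside a metacyclic `2`-group (helper87). -/

namespace Cfsg.Agent.Helper87

/-- Product form of a subgroup `M` of a metacyclic group, with a generator of `M ∩ N`. -/
theorem exists_product_form_gen {G : Type*} [Group G] [Finite G] (N : Subgroup G) [N.Normal] (hN : IsCyclic N)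
    (hQ : IsCyclic (G ⧸ N)) (M : Subgroup G) :
    ∃ a ∈ M, a ∈ N ∧ (∀ n ∈ M, n ∈ N → ∃ i : ℕ, n = a ^ i) ∧
      ∃ b ∈ M, ∀ m ∈ M, ∃ i j : ℕ, m = b ^ j * a ^ i := by
  have hcyc1 : IsCyclic ↥(M ⊓ N) := Subgroup.isCyclic_of_le (inf_le_right : M ⊓ N ≤ N)
  obtain ⟨g, hg⟩ := hcyc1.exists_generator
  obtain ⟨gq, hgq⟩ := (inferInstance : IsCyclic ↥(M.map (QuotientGroup.mk' N))).exists_generator
  obtain ⟨b, hbM, hb⟩ := gq.2
  have hgen : ∀ n ∈ M, n ∈ N → ∃ i : ℕ, n = (g : G) ^ i := by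
    intro n hnM hnN
    have h3 := hg ⟨n, hnM, hnN⟩
    obtain ⟨l, hl⟩ := Subgroup.mem_zpowers_iff.mp h3
    have hl' : (g : G) ^ l = n := by
      have := congrArg (fun z : ↥(M ⊓ N) => (z : G)) hl
      simpa using this
    have h5 : (g : G) ^ l ∈ Submonoid.powers (g : G) :=
      (mem_powers_iff_mem_zpowers (G := G)).mpr (Subgroup.zpow_mem_zpowers _ l)
    obtain ⟨i, hi⟩ := h5
    have hi' : (g : G) ^ i = (g : G) ^ l := hi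
    exact ⟨i, by rw [hi', hl']⟩
  refine ⟨g, g.2.1, g.2.2, hgen, b, hbM, fun m hm => ?_⟩
  have h1 := hgq ⟨QuotientGroup.mk' N m, ⟨m, hm, rfl⟩⟩
  obtain ⟨k, hk⟩ := Subgroup.mem_zpowers_iff.mp h1
  have hk' : (QuotientGroup.mk' N b) ^ k = QuotientGroup.mk' N m := by
    have := congrArg (fun z : M.map (QuotientGroup.mk' N) => (z : G ⧸ N)) hk
    simpa [hb] using this
  have hn : b ^ (-k) * m ∈ M ⊓ N := by
    refine ⟨M.mul_mem (M.zpow_mem hbM _) hm, ?_⟩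
    show b ^ (-k) * m ∈ N
    rw [← QuotientGroup.eq_one_iff]
    have h2 : ((b ^ (-k) * m : G) : G ⧸ N) = (QuotientGroup.mk' N b) ^ (-k) * QuotientGroup.mk' N m := by
      simp
    rw [h2, ← hk', ← zpow_add]
    simp
  obtain ⟨i, hi⟩ := hgen _ hn.1 hn.2
  have h4 : b ^ k ∈ Submonoid.powers b :=
    (mem_powers_iff_mem_zpowers (G := G)).mpr (Subgroup.zpow_mem_zpowers b k)
  obtain ⟨j, hj⟩ := h4
  have hj' : b ^ j = b ^ k := hj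
  refine ⟨i, j, ?_⟩
  rw [hj', ← hi]
  group

/-- **Ambient form of the structure theorem**: a metacyclic `2`-subgroup `P` that is not dihedral, quaternion
or semidihedral. -/
theorem metacyclic_two_ambient {Ω : Type*} [Group Ω] (P : Subgroup Ω) [Finite P] (hP2 : IsPGroup 2 P)
    (hm : Cfsg.IsMetacyclic ↥P)
    (hd : ¬ ∃ m : ℕ, Nonempty (↥P ≃* DihedralGroup m)) (hq : ¬ ∃ m : ℕ, Nonempty (↥P ≃* QuaternionGroup m))
    (hsd : ¬ Cfsg.IsQuasiDihedral ↥P) :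
    ∃ N₀ : Subgroup Ω, (∀ g ∈ P, ∀ n ∈ N₀, g * n * g⁻¹ ∈ N₀) ∧
      (∀ x ∈ P, x ^ 2 ∈ N₀ → ∀ n ∈ N₀, n ^ 4 = 1 → x * n = n * x) ∧
      (∀ x ∈ P, ∀ u ∈ P, x ^ 2 = 1 → u ^ 2 = 1 → x * u = u * x) ∧
      (∀ M : Subgroup Ω, M ≤ P → ∃ a ∈ M, a ∈ N₀ ∧ (∀ n ∈ M, n ∈ N₀ → ∃ i : ℕ, n = a ^ i) ∧
        ∃ b ∈ M, ∀ m ∈ M, ∃ i j : ℕ, m = b ^ j * a ^ i) := by
  obtain ⟨N, hNn, hNc, hQc⟩ := hm
  obtain ⟨h1, h2⟩ := metacyclic_two_structure hP2 N hNc hQc hd hq hsd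
  refine ⟨N.map P.subtype, ?_, ?_, ?_, ?_⟩
  · rintro g hg _ ⟨n, hn, rfl⟩
    exact ⟨⟨g, hg⟩ * n * ⟨g, hg⟩⁻¹, hNn.conj_mem n hn ⟨g, hg⟩, rfl⟩
  · rintro x hx ⟨y, hy, hyx⟩ _ ⟨n, hn, rfl⟩ hn4
    have hx2 : (⟨x, hx⟩ : P) ^ 2 ∈ N := by
      have : (⟨x, hx⟩ : P) ^ 2 = y := Subtype.ext hyx.symm
      rw [this]; exact hy
    have hn4' : n ^ 4 = 1 := Subtype.ext hn4
    have := h1 ⟨x, hx⟩ hx2 n hn hn4'
    exact congrArg (fun z : P => (z : Ω)) this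
  · intro x hx u hu hx2 hu2
    have := h2 ⟨x, hx⟩ ⟨u, hu⟩ (Subtype.ext hx2) (Subtype.ext hu2)
    exact congrArg (fun z : P => (z : Ω)) this
  · intro M hMP
    obtain ⟨a, haM, haN, hgen, b, hbM, hab⟩ := exists_product_form_gen N hNc hQc (M.subgroupOf P)
    refine ⟨a, Subgroup.mem_subgroupOf.mp haM, ⟨a, haN, rfl⟩, ?_, b, Subgroup.mem_subgroupOf.mp hbM, ?_⟩
    · rintro _ hnM ⟨n, hn, rfl⟩
      obtain ⟨i, hi⟩ := hgen n (Subgroup.mem_subgroupOf.mpr hnM) hn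
      exact ⟨i, by rw [hi]; rfl⟩
    · intro m hm
      obtain ⟨i, j, hij⟩ := hab ⟨m, hMP hm⟩ (Subgroup.mem_subgroupOf.mpr hm)
      exact ⟨i, j, congrArg (fun z : P => (z : Ω)) hij⟩

end Cfsg.Agent.Helper87
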