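import Mathlib
import Cfsg.Agent.Helper87.Meta2C

set_option autoImplicit false

/-! The key group-theoretic step of the metacyclic strongly closed subgroup theorem for `p = 2` (helper87). -/

namespace Cfsg.Agent.Helper87

/-- Let `Q ≤ P` where `P` has the structure of a metacyclic `2`-group outside the small list, and let `Q` have a
nontrivial automorphism of odd order. Then every `t ∈ N_P(Q)` with `t² ∈ Q` acts trivially on `Q / Φ(Q)`. -/
theorem conj_mem_frattini_of_odd_aut {Ω : Type*} [Group Ω] (P N₀ Q : Subgroup Ω) [Finite Q]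
    (hQ2 : IsPGroup 2 Q) (hQP : Q ≤ P)
    (hnorm : ∀ g ∈ P, ∀ n ∈ N₀, g * n * g⁻¹ ∈ N₀)
    (hi : ∀ x ∈ P, x ^ 2 ∈ N₀ → ∀ n ∈ N₀, n ^ 4 = 1 → x * n = n * x)
    (hii : ∀ x ∈ P, ∀ u ∈ P, x ^ 2 = 1 → u ^ 2 = 1 → x * u = u * x)
    (hpf : ∃ a ∈ Q, a ∈ N₀ ∧ (∀ n ∈ Q, n ∈ N₀ → ∃ i : ℕ, n = a ^ i) ∧
      ∃ b ∈ Q, ∀ m ∈ Q, ∃ i j : ℕ, m = b ^ j * a ^ i)
    (β : MulAut Q) (m : ℕ) (hm : Odd m) (hβm : β ^ m = 1) (hβ : β ≠ 1)
    (t : Ω) (htP : t ∈ P) (htQ : t ∈ Subgroup.normalizer (Q : Set Ω)) (ht2 : t ^ 2 ∈ Q) (x : Q) :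
    Q.normalizerMonoidHom ⟨t, htQ⟩ x * x⁻¹ ∈ frattini Q := by
  have hfact : Fact (Nat.Prime 2) := ⟨Nat.prime_two⟩
  obtain ⟨a, haQ, haN, hagen, b, hbQ, hab⟩ := hpf
  have hab' : ∀ g : Q, ∃ i j : ℕ, g = (⟨b, hbQ⟩ : Q) ^ j * (⟨a, haQ⟩ : Q) ^ i := by
    intro g
    obtain ⟨i, j, h⟩ := hab g g.2
    exact ⟨i, j, Subtype.ext h⟩
  have hN' : ∀ g : Q, ∃ i : ℕ, g * (⟨a, haQ⟩ : Q) * g⁻¹ = (⟨a, haQ⟩ : Q) ^ i := by
    intro g
    have h1 : (g : Ω) * a * (g : Ω)⁻¹ ∈ Q := Q.mul_mem (Q.mul_mem g.2 haQ) (Q.inv_mem g.2)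
    obtain ⟨i, hi'⟩ := hagen _ h1 (hnorm g (hQP g.2) a haN)
    exact ⟨i, Subtype.ext hi'⟩
  by_cases hnab : ∃ x y : Q, x * y ≠ y * x
  · exfalso
    obtain ⟨ha4, hsqa⟩ := nonabelian_structure hQ2 _ _ hab' hN' β m hm hβm hβ hnab
    have hac : ∀ g : Q, Commute (⟨a, haQ⟩ : Q) g := by
      intro g
      have h1 : (g : Ω) ^ 2 ∈ N₀ := by
        obtain ⟨k, hk⟩ := Subgroup.mem_zpowers_iff.mp (hsqa g)
        have h2 : (g : Ω) ^ 2 = a ^ k := by
          have := congrArg (fun z : Q => (z : Ω)) hk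
          simpa using this.symm
        rw [h2]
        exact N₀.zpow_mem haN k
      have h2 : a ^ 4 = 1 := by
        have := congrArg (fun z : Q => (z : Ω)) ha4
        simpa using this
      exact (Subtype.ext (hi g (hQP g.2) h1 a haN h2)).symm
    obtain ⟨x1, y1, hxy⟩ := hnab
    apply hxy
    obtain ⟨i1, j1, rfl⟩ := hab' x1
    obtain ⟨i2, j2, rfl⟩ := hab' y1
    have h1 : Commute ((⟨b, hbQ⟩ : Q) ^ j1) ((⟨b, hbQ⟩ : Q) ^ j2 * (⟨a, haQ⟩ : Q) ^ i2) :=
      ((Commute.refl _).pow_pow j1 j2).mul_right ((hac _).symm.pow_right i2)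
    have h2 : Commute ((⟨a, haQ⟩ : Q) ^ i1) ((⟨b, hbQ⟩ : Q) ^ j2 * (⟨a, haQ⟩ : Q) ^ i2) :=
      (hac _).pow_left i1
    exact (h1.mul_left h2).eq
  · push Not at hnab
    have hC : ∀ p q : Q, Commute p q := hnab
    obtain ⟨k, he1, he2⟩ := exists_exponent_of_comm hQ2 _ _ hab' β m hm hβm hβ hnab
    by_contra hcon
    have hτcoe : ∀ q : Q, ((Q.normalizerMonoidHom ⟨t, htQ⟩ q : Q) : Ω) = t * q * t⁻¹ := fun q =>
      Subgroup.normalizerMonoidHom_apply_apply_coe Q ⟨t, htQ⟩ q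
    generalize hτ : Q.normalizerMonoidHom ⟨t, htQ⟩ = τ at hcon hτcoe
    generalize hy : τ x = y at hcon
    have hxΦ : x ∉ frattini Q := by
      intro h
      apply hcon
      rw [← hy]
      exact Subgroup.mul_mem _ (aut_mem_frattini τ x h) (Subgroup.inv_mem _ h)
    have hyΦ : y ∉ frattini Q := by
      intro h
      apply hxΦ
      have := aut_mem_frattini τ⁻¹ y h
      rw [← hy] at this
      simpa using this
    have hce : (y * x⁻¹) ^ (2 ^ k) ≠ 1 := fun h => hcon (he2 _ h)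
    have hsq : ∀ g : Q, g ^ 2 ∈ frattini Q := fun g => Helper2.pow_mem_frattini_of_isPGroup hQ2 g
    -- generation
    have hgen : Subgroup.zpowers x ⊔ Subgroup.zpowers y = ⊤ := by
      apply frattini_nongenerating
      have hidx := index_frattini_le_four hQ2 _ _ hab'
      have hle1 : frattini Q ≤ Subgroup.zpowers x ⊔ frattini Q := le_sup_right
      have hle2 : Subgroup.zpowers x ⊔ frattini Q ≤ Subgroup.zpowers x ⊔ Subgroup.zpowers y ⊔ frattini Q :=
        sup_le (le_sup_of_le_left le_sup_left) le_sup_right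
      have hmul1 := Subgroup.relIndex_mul_index hle1
      have hmul2 := Subgroup.relIndex_mul_index hle2
      have hr1 : (frattini Q).relIndex (Subgroup.zpowers x ⊔ frattini Q) ≠ 1 := by
        intro h
        exact hxΦ (Subgroup.relIndex_eq_one.mp h (Subgroup.mem_sup_left (Subgroup.mem_zpowers x)))
      have hr2 : (Subgroup.zpowers x ⊔ frattini Q).relIndex
          (Subgroup.zpowers x ⊔ Subgroup.zpowers y ⊔ frattini Q) ≠ 1 := by
        intro h
        have hy1 : y ∈ Subgroup.zpowers x ⊔ frattini Q :=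
          Subgroup.relIndex_eq_one.mp h
            (Subgroup.mem_sup_left (Subgroup.mem_sup_right (Subgroup.mem_zpowers y)))
        obtain ⟨x₁, hx₁, φ, hφ, hyeq⟩ := Subgroup.mem_sup_of_normal_right.mp hy1
        obtain ⟨l, rfl⟩ := Subgroup.mem_zpowers_iff.mp hx₁
        rcases Int.even_or_odd l with ⟨l', hl'⟩ | ⟨l', hl'⟩
        · apply hyΦ
          rw [← hyeq]
          refine Subgroup.mul_mem _ ?_ hφ
          have : x ^ l = (x ^ l') ^ 2 := by rw [pow_two, ← zpow_add, hl']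
          rw [this]
          exact hsq _
        · apply hcon
          have : y * x⁻¹ = (x ^ l') ^ 2 * φ := by
            rw [← hyeq, mul_assoc, (hC φ x⁻¹).eq, ← mul_assoc, pow_two, ← zpow_add, hl', zpow_add, zpow_one,
              mul_inv_cancel_right, two_mul]
          rw [this]
          exact Subgroup.mul_mem _ (hsq _) hφ
      have h0 : (Subgroup.zpowers x ⊔ Subgroup.zpowers y ⊔ frattini Q).index ≠ 0 :=
        Subgroup.index_ne_zero_of_finite
      have h0' : (Subgroup.zpowers x ⊔ frattini Q).index ≠ 0 := Subgroup.index_ne_zero_of_finite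
      have hr1' : (frattini Q).relIndex (Subgroup.zpowers x ⊔ frattini Q) ≠ 0 := by
        intro h
        rw [h, zero_mul] at hmul1
        exact Subgroup.index_ne_zero_of_finite hmul1.symm
      have hr2' : (Subgroup.zpowers x ⊔ frattini Q).relIndex
          (Subgroup.zpowers x ⊔ Subgroup.zpowers y ⊔ frattini Q) ≠ 0 := by
        intro h
        rw [h, zero_mul] at hmul2
        exact h0' hmul2.symm
      have hone : (Subgroup.zpowers x ⊔ Subgroup.zpowers y ⊔ frattini Q).index = 1 := by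
        have hA : 2 ≤ (frattini Q).relIndex (Subgroup.zpowers x ⊔ frattini Q) := by omega
        have hB : 2 ≤ (Subgroup.zpowers x ⊔ frattini Q).relIndex
            (Subgroup.zpowers x ⊔ Subgroup.zpowers y ⊔ frattini Q) := by omega
        by_contra hne
        have hD : 2 ≤ (Subgroup.zpowers x ⊔ Subgroup.zpowers y ⊔ frattini Q).index := by omega
        have h1 : 4 ≤ (Subgroup.zpowers x ⊔ frattini Q).index := by nlinarith
        nlinarith
      exact Subgroup.index_eq_one.mp hone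
    have hynormal : (Subgroup.zpowers y).Normal :=
      ⟨fun n hn g => by rw [(hC g n).eq, mul_inv_cancel_right]; exact hn⟩
    have hprod : ∀ q : Q, ∃ i j : ℤ, q = x ^ i * y ^ j := by
      intro q
      have hq : q ∈ Subgroup.zpowers x ⊔ Subgroup.zpowers y := hgen ▸ Subgroup.mem_top q
      obtain ⟨x₁, hx₁, y₁, hy₁, rfl⟩ := Subgroup.mem_sup_of_normal_right.mp hq
      obtain ⟨i, rfl⟩ := Subgroup.mem_zpowers_iff.mp hx₁
      obtain ⟨j, rfl⟩ := Subgroup.mem_zpowers_iff.mp hy₁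
      exact ⟨i, j, rfl⟩
    -- the square of `t`
    obtain ⟨i, j, hs⟩ := hprod ⟨t ^ 2, ht2⟩
    have hτs : τ ⟨t ^ 2, ht2⟩ = ⟨t ^ 2, ht2⟩ := by
      apply Subtype.ext
      rw [hτcoe]
      show t * t ^ 2 * t⁻¹ = t ^ 2
      group
    have hτy : τ y = x := by
      apply Subtype.ext
      rw [hτcoe, ← hy, hτcoe]
      have h1 := (hC ⟨t ^ 2, ht2⟩ x).eq
      have h2 : t ^ 2 * (x : Ω) = (x : Ω) * t ^ 2 := congrArg (fun z : Q => (z : Ω)) h1
      have h2' : t * t * (x : Ω) = (x : Ω) * (t * t) := by rw [← pow_two]; exact h2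
      calc t * (t * (x : Ω) * t⁻¹) * t⁻¹ = (t * t * (x : Ω)) * t⁻¹ * t⁻¹ := by group
        _ = (x : Ω) * (t * t) * t⁻¹ * t⁻¹ := by rw [h2']
        _ = (x : Ω) := by group
    have heq : y ^ i * x ^ j = x ^ i * y ^ j := by
      have h1 := hτs
      rw [hs, map_mul, map_zpow, map_zpow, hy, hτy] at h1
      exact h1
    have hpow : y ^ (i - j) = x ^ (i - j) := by
      rw [zpow_sub, zpow_sub]
      calc y ^ i * (y ^ j)⁻¹ = y ^ i * ((y ^ j)⁻¹ * x ^ j) * (x ^ j)⁻¹ := by group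
        _ = y ^ i * (x ^ j * (y ^ j)⁻¹) * (x ^ j)⁻¹ := by rw [(hC (y ^ j)⁻¹ (x ^ j)).eq]
        _ = (y ^ i * x ^ j) * (y ^ j)⁻¹ * (x ^ j)⁻¹ := by group
        _ = (x ^ i * y ^ j) * (y ^ j)⁻¹ * (x ^ j)⁻¹ := by rw [heq]
        _ = x ^ i * (x ^ j)⁻¹ := by group
    have hcpow : (y * x⁻¹) ^ (i - j) = 1 := by
      rw [(hC y x⁻¹).mul_zpow, hpow, inv_zpow, mul_inv_cancel]
    have hcord : orderOf (y * x⁻¹) = 2 ^ (k + 1) := orderOf_eq_prime_pow hce (he1 _)
    have hdvd : ((2 ^ (k + 1) : ℕ) : ℤ) ∣ i - j := by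
      rw [← hcord]
      exact orderOf_dvd_iff_zpow_eq_one.mpr hcpow
    obtain ⟨d, hd⟩ := hdvd
    have hyij : y ^ j = y ^ i := by
      have h1 : j = i + ((2 ^ (k + 1) : ℕ) : ℤ) * (-d) := by linarith
      rw [h1, zpow_add, zpow_mul, zpow_natCast, he1, one_zpow, mul_one]
    rw [hyij] at hs
    -- the involution `u = x ^ (-i) * t`
    have hyi : ∀ l : ℤ, (((y ^ l : Q) : Q) : Ω) = t * (x : Ω) ^ l * t⁻¹ := by
      intro l
      rw [← hy, Subgroup.coe_zpow, hτcoe, conj_zpow]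
    have hyn : ∀ l : ℕ, (((y ^ l : Q) : Q) : Ω) = t * (x : Ω) ^ l * t⁻¹ := by
      intro l
      rw [← hy, Subgroup.coe_pow, hτcoe, conj_pow]
    have hu2 : ((x : Ω) ^ (-i) * t) ^ 2 = 1 := by
      have h1 : x ^ (-i) * y ^ (-i) * (x ^ i * y ^ i) = 1 := by
        calc x ^ (-i) * y ^ (-i) * (x ^ i * y ^ i) = x ^ (-i) * (y ^ (-i) * x ^ i) * y ^ i := by group
          _ = x ^ (-i) * (x ^ i * y ^ (-i)) * y ^ i := by rw [(hC (y ^ (-i)) (x ^ i)).eq]
          _ = 1 := by group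
      rw [← hs] at h1
      have h2 := congrArg (fun z : Q => (z : Ω)) h1
      simp only [Subgroup.coe_mul, hyi, Subgroup.coe_one, Subgroup.coe_zpow] at h2
      rw [← h2, pow_two, pow_two]
      group
    have hw2 : (((x ^ (2 ^ k) : Q) : Q) : Ω) ^ 2 = 1 := by
      have h1 : (x ^ (2 ^ k)) ^ 2 = 1 := by rw [← pow_mul, ← pow_succ]; exact he1 x
      have h2 := congrArg (fun z : Q => (z : Ω)) h1
      simpa using h2
    have huP : (x : Ω) ^ (-i) * t ∈ P := P.mul_mem (P.zpow_mem (hQP x.2) _) htP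
    have hcomm := hii _ huP _ (hQP (x ^ (2 ^ k) : Q).2) hu2 hw2
    have h3 : x ^ (-i) * y ^ (2 ^ k) = x ^ (2 ^ k) * x ^ (-i) := by
      apply Subtype.ext
      rw [Subgroup.coe_mul, hyn, Subgroup.coe_mul, Subgroup.coe_zpow]
      rw [Subgroup.coe_pow] at hcomm ⊢
      calc (x : Ω) ^ (-i) * (t * (x : Ω) ^ (2 ^ k) * t⁻¹) = ((x : Ω) ^ (-i) * t * (x : Ω) ^ (2 ^ k)) * t⁻¹ := by
            group
        _ = ((x : Ω) ^ (2 ^ k) * ((x : Ω) ^ (-i) * t)) * t⁻¹ := by rw [hcomm]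
        _ = (x : Ω) ^ (2 ^ k) * (x : Ω) ^ (-i) := by group
    have h4 : y ^ (2 ^ k) = x ^ (2 ^ k) := by
      calc y ^ (2 ^ k) = x ^ i * (x ^ (-i) * y ^ (2 ^ k)) := by group
        _ = x ^ i * (x ^ (2 ^ k) * x ^ (-i)) := by rw [h3]
        _ = x ^ i * (x ^ (-i) * x ^ (2 ^ k)) := by rw [(hC (x ^ (2 ^ k)) (x ^ (-i))).eq]
        _ = x ^ (2 ^ k) := by group
    apply hce
    rw [(hC y x⁻¹).mul_pow, h4, inv_pow, mul_inv_cancel]

end Cfsg.Agent.Helper87
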