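import Mathlib
import Cfsg.Agent.Helper87.Meta2C

set_option autoImplicit false

/-! A metacyclic `2`-group outside the small list with an automorphism of odd order is homocyclic (helper87). -/

namespace Cfsg.Agent.Helper87

/-- A finite metacyclic `2`-group with the structure of `metacyclic_two_structure` and a nontrivial
automorphism of odd order is homocyclic of rank two. -/
theorem homocyclic_of_odd_aut {G : Type*} [Group G] [Finite G] (hG : IsPGroup 2 G) (N : Subgroup G) [N.Normal]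
    (hN : IsCyclic N) (hQ : IsCyclic (G ⧸ N))
    (hi : ∀ x : G, x ^ 2 ∈ N → ∀ n ∈ N, n ^ 4 = 1 → x * n = n * x)
    (β : MulAut G) (m : ℕ) (hm : Odd m) (hβm : β ^ m = 1) (hβ : β ≠ 1) :
    ∃ n : ℕ, Nonempty (G ≃* Multiplicative (Fin 2 → ZMod (2 ^ n))) := by
  have hfact : Fact (Nat.Prime 2) := ⟨Nat.prime_two⟩
  obtain ⟨a, -, haN, hagen, b, -, hab⟩ := exists_product_form_gen N hN hQ ⊤
  have hab' : ∀ g : G, ∃ i j : ℕ, g = b ^ j * a ^ i := fun g => hab g (Subgroup.mem_top g)
  have hN' : ∀ g : G, ∃ i : ℕ, g * a * g⁻¹ = a ^ i := fun g =>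
    hagen _ (Subgroup.mem_top _) (Subgroup.Normal.conj_mem inferInstance a haN g)
  have hcomm : ∀ x y : G, x * y = y * x := by
    by_contra hnab
    push Not at hnab
    obtain ⟨ha4, hsqa⟩ := nonabelian_structure hG a b hab' hN' β m hm hβm hβ hnab
    have hac : ∀ g : G, Commute a g := by
      intro g
      have h1 : g ^ 2 ∈ N := by
        obtain ⟨k, hk⟩ := Subgroup.mem_zpowers_iff.mp (hsqa g)
        rw [← hk]
        exact N.zpow_mem haN k
      exact (hi g h1 a haN ha4).symm
    obtain ⟨x1, y1, hxy⟩ := hnab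
    apply hxy
    obtain ⟨i1, j1, rfl⟩ := hab' x1
    obtain ⟨i2, j2, rfl⟩ := hab' y1
    have h1 : Commute (b ^ j1) (b ^ j2 * a ^ i2) :=
      ((Commute.refl _).pow_pow j1 j2).mul_right ((hac _).symm.pow_right i2)
    have h2 : Commute (a ^ i1) (b ^ j2 * a ^ i2) := (hac _).pow_left i1
    exact (h1.mul_left h2).eq
  have hC : ∀ p q : G, Commute p q := hcomm
  obtain ⟨k, he1, he2⟩ := exists_exponent_of_comm hG a b hab' β m hm hβm hβ hcomm
  have hcyc : ∀ u : G, Subgroup.zpowers u ≠ ⊤ := by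
    intro u hu
    apply hβ
    refine aut_eq_one_of_cyclic hG u (fun g => ?_) β m hm hβm
    have hg : g ∈ Subgroup.zpowers u := hu ▸ Subgroup.mem_top g
    obtain ⟨i, hi'⟩ := (mem_powers_iff_mem_zpowers (G := G)).mpr hg
    have hi'' : u ^ i = g := hi'
    exact ⟨i, hi''.symm⟩
  have haΦ : a ∉ frattini G := by
    intro ha
    apply hcyc b
    apply frattini_nongenerating
    rw [eq_top_iff]
    intro g _
    obtain ⟨i, j, rfl⟩ := hab' g
    exact Subgroup.mul_mem _ (Subgroup.mem_sup_left (Subgroup.pow_mem _ (Subgroup.mem_zpowers b) j))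
      (Subgroup.mem_sup_right (Subgroup.pow_mem _ ha i))
  have hbΦ : b ∉ frattini G := by
    intro hb
    apply hcyc a
    apply frattini_nongenerating
    rw [eq_top_iff]
    intro g _
    obtain ⟨i, j, rfl⟩ := hab' g
    exact Subgroup.mul_mem _ (Subgroup.mem_sup_right (Subgroup.pow_mem _ hb j))
      (Subgroup.mem_sup_left (Subgroup.pow_mem _ (Subgroup.mem_zpowers a) i))
  have habΦ : a * b⁻¹ ∉ frattini G := by
    intro h
    apply hcyc b
    apply frattini_nongenerating
    rw [eq_top_iff]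
    intro g _
    obtain ⟨i, j, rfl⟩ := hab' g
    have ha : a ∈ Subgroup.zpowers b ⊔ frattini G := by
      have : a = a * b⁻¹ * b := by group
      rw [this]
      exact Subgroup.mul_mem _ (Subgroup.mem_sup_right h) (Subgroup.mem_sup_left (Subgroup.mem_zpowers b))
    exact Subgroup.mul_mem _ (Subgroup.mem_sup_left (Subgroup.pow_mem _ (Subgroup.mem_zpowers b) j))
      (Subgroup.pow_mem _ ha i)
  have hae : a ^ (2 ^ k) ≠ 1 := fun h => haΦ (he2 a h)
  have hbe : b ^ (2 ^ k) ≠ 1 := fun h => hbΦ (he2 b h)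
  have habe : a ^ (2 ^ k) ≠ b ^ (2 ^ k) := by
    intro h
    apply habΦ
    apply he2
    rw [(hC a b⁻¹).mul_pow, h, inv_pow, mul_inv_cancel]
  have hoa : orderOf a = 2 ^ (k + 1) := orderOf_eq_prime_pow hae (he1 a)
  have hob : orderOf b = 2 ^ (k + 1) := orderOf_eq_prime_pow hbe (he1 b)
  have hint : ∀ d : G, d ∈ Subgroup.zpowers a → d ∈ Subgroup.zpowers b → d = 1 := by
    intro d hda hdb
    by_contra hd1
    obtain ⟨n0, hn0⟩ := (IsPGroup.iff_card (p := 2) (G := G)).mp hG
    obtain ⟨j0, hz1, hz2⟩ := exists_pow_order_p (p := 2) d ⟨n0, by rw [← hn0]; exact pow_card_eq_one'⟩ hd1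
    have h1 : a ^ (2 ^ k) = d ^ j0 :=
      Helper73.eq_of_sq_eq_one_of_mem_zpowers a _ _ (Subgroup.pow_mem _ (Subgroup.mem_zpowers a) _)
        (Subgroup.pow_mem _ hda j0) (by rw [← pow_mul, ← pow_succ]; exact he1 a) hz2 hae hz1
    have h2 : b ^ (2 ^ k) = d ^ j0 :=
      Helper73.eq_of_sq_eq_one_of_mem_zpowers b _ _ (Subgroup.pow_mem _ (Subgroup.mem_zpowers b) _)
        (Subgroup.pow_mem _ hdb j0) (by rw [← pow_mul, ← pow_succ]; exact he1 b) hz2 hbe hz1
    exact habe (h1.trans h2.symm)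
  have hNZ : NeZero (2 ^ (k + 1)) := ⟨by positivity⟩
  let f : Multiplicative (Fin 2 → ZMod (2 ^ (k + 1))) →* G :=
    { toFun := fun v => a ^ (Multiplicative.toAdd v 0).val * b ^ (Multiplicative.toAdd v 1).val
      map_one' := by simp
      map_mul' := by
        intro v w
        show a ^ ((Multiplicative.toAdd v + Multiplicative.toAdd w) 0).val *
          b ^ ((Multiplicative.toAdd v + Multiplicative.toAdd w) 1).val = _
        rw [Pi.add_apply, Pi.add_apply, Helper73.pow_val_add a _ hoa, Helper73.pow_val_add b _ hob]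
        exact (hC _ _).mul_mul_mul_comm _ _ }
  have hfapp : ∀ v, f v = a ^ (Multiplicative.toAdd v 0).val * b ^ (Multiplicative.toAdd v 1).val := fun v => rfl
  have hvalzero : ∀ (c : G), orderOf c = 2 ^ (k + 1) → ∀ i : ZMod (2 ^ (k + 1)), c ^ i.val = 1 → i = 0 := by
    intro c hc i h
    have h1 := orderOf_dvd_of_pow_eq_one h
    rw [hc] at h1
    have h2 : i.val < 2 ^ (k + 1) := ZMod.val_lt i
    have h3 : i.val = 0 := Nat.eq_zero_of_dvd_of_lt h1 h2
    exact (ZMod.val_eq_zero i).mp h3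
  have hinj : Function.Injective f := by
    rw [injective_iff_map_eq_one]
    intro v hv
    rw [hfapp] at hv
    have h1 : a ^ (Multiplicative.toAdd v 0).val = 1 := by
      apply hint _ (Subgroup.pow_mem _ (Subgroup.mem_zpowers a) _)
      have : a ^ (Multiplicative.toAdd v 0).val = (b ^ (Multiplicative.toAdd v 1).val)⁻¹ :=
        eq_inv_of_mul_eq_one_left hv
      rw [this]
      exact Subgroup.inv_mem _ (Subgroup.pow_mem _ (Subgroup.mem_zpowers b) _)
    have h2 : b ^ (Multiplicative.toAdd v 1).val = 1 := by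
      rw [h1, one_mul] at hv
      exact hv
    have h3 := hvalzero a hoa _ h1
    have h4 := hvalzero b hob _ h2
    have h5 : Multiplicative.toAdd v = 0 := by
      funext i
      fin_cases i
      · exact h3
      · exact h4
    exact Multiplicative.toAdd.injective h5
  have hsurj : Function.Surjective f := by
    intro g
    obtain ⟨i, j, rfl⟩ := hab' g
    refine ⟨Multiplicative.ofAdd (fun l : Fin 2 => if l = 0 then (i : ZMod (2 ^ (k + 1))) else (j : ZMod (2 ^ (k + 1)))), ?_⟩
    rw [hfapp]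
    simp only [toAdd_ofAdd, if_true]
    have h1 : (1 : Fin 2) ≠ 0 := by decide
    rw [if_neg h1, ZMod.val_natCast, ZMod.val_natCast]
    have h2 : a ^ (i % 2 ^ (k + 1)) = a ^ i := by rw [← hoa, pow_mod_orderOf]
    have h3 : b ^ (j % 2 ^ (k + 1)) = b ^ j := by rw [← hob, pow_mod_orderOf]
    rw [h2, h3]
    exact (hC _ _).eq
  exact ⟨k + 1, ⟨(MulEquiv.ofBijective f ⟨hinj, hsurj⟩).symm⟩⟩

end Cfsg.Agent.Helper87
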