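import Mathlib
import Cfsg.Agent.Helper60.NCDefs

/-!
CALL S4135 (helper60), piece GILA (helper87).
-/

set_option autoImplicit false
open Subgroup

namespace Cfsg.Agent.Helper87.NCGILA
open Cfsg.Agent.Helper60.NC

/-- the ordered product `∏_{i<j} u^(-i) d0 u^i` -/
def gprod {G : Type*} [Group G] (d0 u : G) : ℕ → G
  | 0 => 1
  | (j + 1) => gprod d0 u j * ((u ^ j)⁻¹ * d0 * u ^ j)

variable {G : Type*} [Group G] [Finite G] {r : ℕ} [Fact r.Prime] {N : Subgroup G} {m : ℕ}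

omit [Finite G] in
theorem gprod_shift (d0 u : G) (j : ℕ) :
    gprod d0 u (j + 1) = d0 * u⁻¹ * gprod d0 u j * u := by
  induction j with
  | zero => simp [gprod]
  | succ j ih =>
    calc gprod d0 u (j + 1 + 1)
        = gprod d0 u (j + 1) * ((u ^ (j + 1))⁻¹ * d0 * u ^ (j + 1)) := rfl
      _ = d0 * u⁻¹ * gprod d0 u j * u * ((u ^ (j + 1))⁻¹ * d0 * u ^ (j + 1)) := by rw [ih]
      _ = d0 * u⁻¹ * (gprod d0 u j * ((u ^ j)⁻¹ * d0 * u ^ j)) * u := by
          rw [pow_succ]; group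
      _ = d0 * u⁻¹ * gprod d0 u (j + 1) * u := rfl

set_option linter.unusedVariables false in
/-- GILA -/
theorem gil_a (hc : Ctx G r N m) {v u : G} (hv : v ∈ N) (hgood : Good N v)
    (hu : ∃ k : ℕ, u ^ r ^ k = 1) (hnorm : u ∈ normalizer (centralizer ({v} : Set G) : Set G)) :
    ∀ c ∈ centralizer ({v} : Set G), ∃ k ∈ N, k ∈ centralizer ({v} : Set G) ∧
      ∃ d ∈ centralizer ({v} : Set G), d ∈ centralizer ({u} : Set G) ∧ c = k * d := by
  intro c hcC
  have hrp : r.Prime := Fact.out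
  have hnN := hc.nN
  have huN : u ∈ N := hc.hr u hu
  obtain ⟨a, d0, ha, hd0, hab, har, hbr⟩ := split_r r c
  have hzle : zpowers c ≤ centralizer ({v} : Set G) := zpowers_le.2 hcC
  have haC := hzle ha
  have hd0C := hzle hd0
  have haN : a ∈ N := hc.hr a har
  have hdC : ∀ i : ℕ, (u ^ i)⁻¹ * d0 * u ^ i ∈ centralizer ({v} : Set G) := by
    intro i
    have h1 : (u ^ i)⁻¹ ∈ normalizer (centralizer ({v} : Set G) : Set G) :=
      inv_mem (pow_mem hnorm i)
    have h2 := (mem_normalizer_iff.mp h1 d0).mp hd0C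
    rwa [inv_inv] at h2
  have hkN : ∀ i : ℕ, d0⁻¹ * ((u ^ i)⁻¹ * d0 * u ^ i) ∈ N := by
    intro i
    have h1 : d0⁻¹ * (u ^ i)⁻¹ * d0⁻¹⁻¹ ∈ N := hnN.conj_mem _ (inv_mem (pow_mem huN i)) _
    rw [inv_inv] at h1
    have h2 := N.mul_mem h1 (pow_mem huN i)
    convert h2 using 1
    group
  have hkC : ∀ i : ℕ, d0⁻¹ * ((u ^ i)⁻¹ * d0 * u ^ i) ∈ centralizer ({v} : Set G) :=
    fun i => mul_mem (inv_mem hd0C) (hdC i)
  have hb : ∀ j : ℕ, ∃ K ∈ N, K ∈ centralizer ({v} : Set G) ∧ gprod d0 u j = d0 ^ j * K := by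
    intro j
    induction j with
    | zero => exact ⟨1, one_mem _, one_mem _, by simp [gprod]⟩
    | succ j ih =>
      obtain ⟨K, hKN, hKC, hK⟩ := ih
      refine ⟨K * (d0⁻¹ * ((u ^ j)⁻¹ * d0 * u ^ j)), N.mul_mem hKN (hkN j),
        mul_mem hKC (hkC j), ?_⟩
      have e1 : gprod d0 u (j + 1) = gprod d0 u j * ((u ^ j)⁻¹ * d0 * u ^ j) := rfl
      have hcomm : K * d0 = d0 * K := hgood K hKN hKC d0 hd0C
      rw [e1, hK, pow_succ]
      calc d0 ^ j * K * ((u ^ j)⁻¹ * d0 * u ^ j)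
          = d0 ^ j * (K * d0) * (d0⁻¹ * ((u ^ j)⁻¹ * d0 * u ^ j)) := by group
        _ = d0 ^ j * (d0 * K) * (d0⁻¹ * ((u ^ j)⁻¹ * d0 * u ^ j)) := by rw [hcomm]
        _ = d0 ^ j * d0 * (K * (d0⁻¹ * ((u ^ j)⁻¹ * d0 * u ^ j))) := by group
  obtain ⟨K, hKN, hKC, hK⟩ := hb (orderOf u)
  have hKd : K * d0 = d0 * K := hgood K hKN hKC d0 hd0C
  have hfC : gprod d0 u (orderOf u) ∈ centralizer ({v} : Set G) := by
    rw [hK]; exact mul_mem (pow_mem hd0C _) hKC
  have hfu : gprod d0 u (orderOf u) ∈ centralizer ({u} : Set G) := by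
    rw [mem_centralizer_singleton_iff]
    have e1 : gprod d0 u (orderOf u + 1)
        = gprod d0 u (orderOf u) * ((u ^ orderOf u)⁻¹ * d0 * u ^ orderOf u) := rfl
    have e2 := gprod_shift d0 u (orderOf u)
    rw [e1, pow_orderOf_eq_one] at e2
    have e3 : gprod d0 u (orderOf u) * d0 = d0 * gprod d0 u (orderOf u) := by
      rw [hK]
      calc d0 ^ orderOf u * K * d0 = d0 ^ orderOf u * (K * d0) := by group
        _ = d0 ^ orderOf u * (d0 * K) := by rw [hKd]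
        _ = d0 * (d0 ^ orderOf u * K) := by group
    have e4 : d0 * gprod d0 u (orderOf u) = d0 * (u⁻¹ * gprod d0 u (orderOf u) * u) := by
      rw [← e3]
      calc gprod d0 u (orderOf u) * d0 = gprod d0 u (orderOf u) * (1⁻¹ * d0 * 1) := by group
        _ = d0 * u⁻¹ * gprod d0 u (orderOf u) * u := e2
        _ = d0 * (u⁻¹ * gprod d0 u (orderOf u) * u) := by group
    have e5 := mul_left_cancel e4
    calc gprod d0 u (orderOf u) * u = u * (u⁻¹ * gprod d0 u (orderOf u) * u) := by group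
      _ = u * gprod d0 u (orderOf u) := by rw [← e5]
  have hcop : Nat.Coprime (orderOf u) (orderOf d0) := orderOf_coprime_of_pow hrp hu hbr
  rcases Nat.lt_or_ge 1 (orderOf d0) with h1 | h1
  · obtain ⟨s, -, hs⟩ := Nat.exists_mul_mod_eq_one_of_coprime hcop h1
    have e6 : d0 ^ (orderOf u * s) = d0 := by
      rw [← pow_mod_orderOf, hs, pow_one]
    have e7 : d0 ^ orderOf u = K⁻¹ * gprod d0 u (orderOf u) := by
      have hKp : K * d0 ^ orderOf u = d0 ^ orderOf u * K :=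
        hgood K hKN hKC _ (pow_mem hd0C _)
      rw [hK, ← hKp]; group
    have hKf : Commute K⁻¹ (gprod d0 u (orderOf u)) :=
      hgood K⁻¹ (inv_mem hKN) (inv_mem hKC) _ hfC
    have e8 : d0 = K⁻¹ ^ s * gprod d0 u (orderOf u) ^ s := by
      rw [← hKf.mul_pow s, ← e7, ← pow_mul, e6]
    refine ⟨a * K⁻¹ ^ s, N.mul_mem haN (pow_mem (inv_mem hKN) s),
      mul_mem haC (pow_mem (inv_mem hKC) s), gprod d0 u (orderOf u) ^ s, pow_mem hfC s,
      pow_mem hfu s, ?_⟩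
    rw [mul_assoc, ← e8, hab]
  · have h2 : orderOf d0 = 1 := le_antisymm h1 (orderOf_pos d0)
    have h3 : d0 = 1 := orderOf_eq_one_iff.mp h2
    refine ⟨a, haN, haC, 1, one_mem _, one_mem _, ?_⟩
    rw [mul_one, ← hab, h3, mul_one]

end Cfsg.Agent.Helper87.NCGILA
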