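import Mathlib

/-!
CALL NP (helper13), piece ARITH8 (double by helper87): `8 ∣ q^(d-1) (q^d - 1)` for odd `q`.
-/

set_option autoImplicit false

namespace Cfsg.Agent.Helper87.NP5989

/-- ARITH8 -/
theorem np_arith8 (q d : ℕ) (hq : Odd q) (hd : 1 ≤ d) :
    (8 ∣ q ^ (d - 1) * (q ^ d - 1)) ↔ (Even d ∨ q % 8 = 1) := by
  have hodd : Odd (q ^ (d - 1)) := hq.pow
  have hcop : Nat.Coprime 8 (q ^ (d - 1)) := by
    have h0 : Nat.Coprime (2 ^ 3) (q ^ (d - 1)) :=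
      Nat.Coprime.pow_left 3 (Nat.coprime_two_left.mpr hodd)
    simpa using h0
  have h1 : (8 ∣ q ^ (d - 1) * (q ^ d - 1)) ↔ 8 ∣ q ^ d - 1 := hcop.dvd_mul_left
  rw [h1]
  have hq2 : q ^ 2 % 8 = 1 := by
    obtain ⟨k, rfl⟩ := hq
    have h8 : (2 * k + 1) % 8 = 1 ∨ (2 * k + 1) % 8 = 3 ∨ (2 * k + 1) % 8 = 5 ∨
        (2 * k + 1) % 8 = 7 := by omega
    rcases h8 with h | h | h | h <;> simp [Nat.pow_mod, h]
  have hq1 : 1 ≤ q := by
    obtain ⟨k, rfl⟩ := hq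
    omega
  have hpos : 1 ≤ q ^ d := Nat.one_le_pow _ _ hq1
  have key : (8 ∣ q ^ d - 1) ↔ q ^ d % 8 = 1 := by omega
  rw [key]
  rcases Nat.even_or_odd d with hde | hdo
  · have h3 : q ^ d % 8 = 1 := by
      obtain ⟨k, rfl⟩ := hde
      rw [← two_mul, pow_mul, Nat.pow_mod, hq2]
      simp
    constructor
    · intro _
      exact Or.inl hde
    · intro _
      exact h3
  · have h3 : q ^ d % 8 = q % 8 := by
      obtain ⟨k, rfl⟩ := hdo
      rw [pow_succ, pow_mul, Nat.mul_mod, Nat.pow_mod, hq2]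
      simp
    rw [h3]
    constructor
    · intro h
      exact Or.inr h
    · rintro (h | h)
      · exact absurd h (Nat.not_even_iff_odd.mpr hdo)
      · exact h

end Cfsg.Agent.Helper87.NP5989
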