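import Cfsg.Agent.Helper87.PCore

set_option autoImplicit false

namespace Cfsg.Agent.Helper87

open Cfsg Cfsg.FusionSystem

variable {Ω : Type*} [Group Ω] {S : Subgroup Ω}

theorem normalizerIn_normalizes {S Q P : Subgroup Ω} (hP : P ≤ normalizerIn S Q) :
    ∀ a ∈ P, ∀ k ∈ Q, a * k * a⁻¹ ∈ Q := by
  intro a ha k hk
  exact (Subgroup.mem_normalizer_iff.mp (hP ha).2 k).mp hk

theorem map_subgroupOf_mem {P Q : Subgroup Ω} {ψ : ↥(P ⊔ Q) →* Ω}
    (h2 : (Q.subgroupOf (P ⊔ Q)).map ψ = Q) (z : ↥(P ⊔ Q)) (hz : (z : Ω) ∈ Q) : ψ z ∈ Q :=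
  h2.le ⟨z, Subgroup.mem_subgroupOf.mpr hz, rfl⟩

theorem map_subgroupOf_surj {P Q : Subgroup Ω} {ψ : ↥(P ⊔ Q) →* Ω}
    (h2 : (Q.subgroupOf (P ⊔ Q)).map ψ = Q) (y : Ω) (hy : y ∈ Q) :
    ∃ z : ↥(P ⊔ Q), (z : Ω) ∈ Q ∧ ψ z = y := by
  obtain ⟨z, hz, rfl⟩ := h2.ge hy
  exact ⟨z, Subgroup.mem_subgroupOf.mp hz, rfl⟩

/-- An extension to `P ⊔ Q` of a map `P → P'` that maps `Q` onto `Q` takes values in `P' ⊔ Q`. -/
theorem normalizerHom_ext_mem {Q P P' : Subgroup Ω} (hP : P ≤ normalizerIn S Q) {φ : P →* Ω}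
    (hφP' : ∀ x, φ x ∈ P') {ψ : ↥(P ⊔ Q) →* Ω}
    (h1 : ∀ x : P, ψ (Subgroup.inclusion le_sup_left x) = φ x)
    (h2 : (Q.subgroupOf (P ⊔ Q)).map ψ = Q) : ∀ y : ↥(P ⊔ Q), ψ y ∈ P' ⊔ Q := by
  intro y
  obtain ⟨a, ha, k, hk, hy⟩ := (mem_sup_of_normalizes (normalizerIn_normalizes hP)).mp y.2
  have hy' : y = (Subgroup.inclusion le_sup_left (⟨a, ha⟩ : P) : ↥(P ⊔ Q)) *
      (Subgroup.inclusion le_sup_right (⟨k, hk⟩ : Q)) := Subtype.ext hy
  rw [hy', map_mul, h1]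
  exact Subgroup.mul_mem _ (Subgroup.mem_sup_left (hφP' _))
    (Subgroup.mem_sup_right (map_subgroupOf_mem h2 _ hk))

/-- The normalizer fusion system `N_F(Q)` of a subgroup `Q ≤ S`. -/
def normalizerSystem (F : FusionSystem S) (Q : Subgroup Ω) (hQ : Q ≤ S) :
    FusionSystem (normalizerIn S Q) where
  Hom P := F.normalizerHom Q P
  le_of_mem := fun h => ⟨h.2.1, h.2.2.1⟩
  injective_of_mem := fun h => F.injective_of_mem h.1
  conj_mem := by
    intro P g hP hg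
    have hPS : P ≤ S := hP.trans inf_le_left
    have hgS : g ∈ S := hg.1
    refine ⟨F.conj_mem hPS hgS, hP, fun x => ?_, conjHom (P ⊔ Q) g, F.conj_mem (sup_le hPS hQ) hgS,
      fun x => rfl, ?_⟩
    · show g * (x : Ω) * g⁻¹ ∈ normalizerIn S Q
      exact Subgroup.mul_mem _ (Subgroup.mul_mem _ hg (hP x.2)) (Subgroup.inv_mem _ hg)
    · ext y
      constructor
      · rintro ⟨z, hz, rfl⟩
        show g * (z : Ω) * g⁻¹ ∈ Q
        exact (Subgroup.mem_normalizer_iff.mp hg.2 _).mp (Subgroup.mem_subgroupOf.mp hz)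
      · intro hy
        have hy' : g⁻¹ * y * g ∈ Q := by
          have := (Subgroup.mem_normalizer_iff.mp (Subgroup.inv_mem _ hg.2) y).mp hy
          simpa using this
        refine ⟨⟨g⁻¹ * y * g, Subgroup.mem_sup_right hy'⟩, Subgroup.mem_subgroupOf.mpr hy', ?_⟩
        show g * (g⁻¹ * y * g) * g⁻¹ = y
        group
  comp_mem := by
    rintro P P' φ ψ ⟨hφ, hP, hφN, φ', hφ', hφ1, hφ2⟩ ⟨hψ, hP', hψN, ψ', hψ', hψ1, hψ2⟩ h
    have hv := normalizerHom_ext_mem hP h hφ1 hφ2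
    refine ⟨F.comp_mem hφ hψ h, hP, fun x => hψN _, ψ'.comp (φ'.codRestrict (P' ⊔ Q) hv),
      F.comp_mem hφ' hψ' hv, fun x => ?_, ?_⟩
    · show ψ' ⟨φ' (Subgroup.inclusion le_sup_left x), _⟩ = ψ ⟨φ x, _⟩
      have e : (⟨φ' (Subgroup.inclusion le_sup_left x), hv _⟩ : ↥(P' ⊔ Q)) =
          Subgroup.inclusion le_sup_left (⟨φ x, h x⟩ : P') := Subtype.ext (hφ1 x)
      rw [e]
      exact hψ1 _
    · ext y
      constructor
      · rintro ⟨z, hz, rfl⟩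
        show ψ' ⟨φ' z, _⟩ ∈ Q
        have hz' : φ' z ∈ Q := map_subgroupOf_mem hφ2 z (Subgroup.mem_subgroupOf.mp hz)
        exact map_subgroupOf_mem hψ2 ⟨φ' z, hv z⟩ hz'
      · intro hy
        obtain ⟨w, hw', rfl⟩ := map_subgroupOf_surj hψ2 y hy
        obtain ⟨z, hz, hzw⟩ := map_subgroupOf_surj hφ2 _ hw'
        refine ⟨z, Subgroup.mem_subgroupOf.mpr hz, ?_⟩
        show ψ' ⟨φ' z, _⟩ = ψ' w
        congr 1
        exact Subtype.ext hzw
  inv_mem := by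
    rintro P φ ⟨hφ, hP, hφN, φ', hφ', hφ1, hφ2⟩
    have hrN : φ.range ≤ normalizerIn S Q := by
      rintro _ ⟨x, rfl⟩
      exact hφN x
    have hv := normalizerHom_ext_mem (P' := φ.range) hP (fun x => ⟨x, rfl⟩) hφ1 hφ2
    have hrange : φ'.range = φ.range ⊔ Q := by
      apply le_antisymm
      · rintro _ ⟨y, rfl⟩
        exact hv y
      · apply sup_le
        · rintro _ ⟨x, rfl⟩
          exact ⟨_, hφ1 x⟩
        · intro q hq
          obtain ⟨z, -, rfl⟩ := map_subgroupOf_surj hφ2 q hq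
          exact ⟨z, rfl⟩
    obtain ⟨ψ', hψ', hψr, hψ1, hψ2⟩ := hom_inv F hφ' hrange
    have hkey : ∀ x : P, ψ' (Subgroup.inclusion le_sup_left (⟨φ x, ⟨x, rfl⟩⟩ : φ.range)) = (x : Ω) := by
      intro x
      have h3 := hψ1 (Subgroup.inclusion le_sup_left x) (hv _)
      have e : (Subgroup.inclusion le_sup_left (⟨φ x, ⟨x, rfl⟩⟩ : φ.range) : ↥(φ.range ⊔ Q)) =
          ⟨φ' (Subgroup.inclusion le_sup_left x), hv _⟩ := Subtype.ext (hφ1 x).symm
      rw [e]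
      exact h3
    refine ⟨ψ'.comp (Subgroup.inclusion le_sup_left), ⟨hom_restrict F hψ' _, hrN, ?_, ψ', hψ',
      fun x => rfl, ?_⟩, ?_⟩
    · rintro ⟨_, x, rfl⟩
      show ψ' (Subgroup.inclusion le_sup_left (⟨φ x, ⟨x, rfl⟩⟩ : φ.range)) ∈ normalizerIn S Q
      rw [hkey x]
      exact hP x.2
    · ext y
      constructor
      · rintro ⟨z, hz, rfl⟩
        have hz' : (z : Ω) ∈ Q := Subgroup.mem_subgroupOf.mp hz
        obtain ⟨w, hw, hwz⟩ := map_subgroupOf_surj hφ2 _ hz'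
        have h3 := hψ1 w (hv w)
        have e : z = ⟨φ' w, hv w⟩ := Subtype.ext hwz.symm
        rw [e, h3]
        exact hw
      · intro hy
        have h4 : φ' ⟨y, Subgroup.mem_sup_right hy⟩ ∈ Q := map_subgroupOf_mem hφ2 _ hy
        refine ⟨⟨φ' ⟨y, Subgroup.mem_sup_right hy⟩, hv _⟩, Subgroup.mem_subgroupOf.mpr h4, ?_⟩
        exact hψ1 ⟨y, Subgroup.mem_sup_right hy⟩ (hv _)
    · intro x
      exact hkey x

theorem isNormalizerSystem_normalizerSystem (F : FusionSystem S) (Q : Subgroup Ω) (hQ : Q ≤ S) :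
    F.IsNormalizerSystem Q (normalizerSystem F Q hQ) := fun _ => rfl

/-- In a normalizer system of `Q`, the only conjugate of `Q` is `Q`. -/
theorem normalizerSystem_range_eq (F : FusionSystem S) {Q : Subgroup Ω}
    {N : FusionSystem (normalizerIn S Q)} (hN : F.IsNormalizerSystem Q N) {φ : Q →* Ω}
    (hφ : φ ∈ N.Hom Q) : φ.range = Q := by
  rw [hN Q] at hφ
  obtain ⟨-, -, -, ψ, -, hψ1, hψ2⟩ := hφ
  ext y
  constructor
  · rintro ⟨x, rfl⟩
    rw [← hψ1 x]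
    exact map_subgroupOf_mem hψ2 _ x.2
  · intro hy
    obtain ⟨z, hz, rfl⟩ := map_subgroupOf_surj hψ2 y hy
    refine ⟨⟨z, hz⟩, ?_⟩
    rw [← hψ1]
    rfl

/-- `Q ≤ S` is fully normalized in its normalizer system. -/
theorem normalizerSystem_isFullyNormalized (F : FusionSystem S) {Q : Subgroup Ω} (hQ : Q ≤ S)
    {N : FusionSystem (normalizerIn S Q)} (hN : F.IsNormalizerSystem Q N) : N.IsFullyNormalized Q := by
  refine ⟨le_normalizerIn hQ, ?_⟩
  rintro Q' ⟨φ, hφ, rfl⟩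
  rw [normalizerSystem_range_eq F hN hφ]

/-- The automizer of `Q` in its normalizer system is `Aut_F(Q)`. -/
theorem normalizerSystem_autGroup (F : FusionSystem S) {Q : Subgroup Ω} (hQ : Q ≤ S)
    {N : FusionSystem (normalizerIn S Q)} (hN : F.IsNormalizerSystem Q N) :
    N.autGroup Q = F.autGroup Q := by
  unfold autGroup
  congr 1
  ext α
  show Q.subtype.comp α.toMonoidHom ∈ N.Hom Q ↔ Q.subtype.comp α.toMonoidHom ∈ F.Hom Q
  rw [hN Q]
  constructor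
  · intro h
    exact h.1
  · intro h
    refine ⟨h, le_normalizerIn hQ, fun x => le_normalizerIn hQ (α x).2,
      (Q.subtype.comp α.toMonoidHom).comp (Subgroup.inclusion (sup_le le_rfl le_rfl : Q ⊔ Q ≤ Q)),
      hom_restrict F h _, fun x => rfl, ?_⟩
    ext y
    constructor
    · rintro ⟨z, hz, rfl⟩
      exact (α _).2
    · intro hy
      refine ⟨⟨α.symm ⟨y, hy⟩, Subgroup.mem_sup_left (α.symm ⟨y, hy⟩).2⟩,
        Subgroup.mem_subgroupOf.mpr (α.symm ⟨y, hy⟩).2, ?_⟩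
      show ((α (α.symm ⟨y, hy⟩) : Q) : Ω) = y
      rw [MulEquiv.apply_symm_apply]

/-- The automizer of a subgroup in a normalizer system is contained in its automizer in `F`. -/
theorem normalizerSystem_autGroup_le (F : FusionSystem S) {R : Subgroup Ω}
    {N : FusionSystem (normalizerIn S R)} (hN : F.IsNormalizerSystem R N) (Q : Subgroup Ω) :
    N.autGroup Q ≤ F.autGroup Q := by
  unfold autGroup
  apply Subgroup.closure_mono
  intro α hα
  have hα' : Q.subtype.comp α.toMonoidHom ∈ N.Hom Q := hα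
  rw [hN Q] at hα'
  exact hα'.1

/-- Conjugacy in the system is transitive. -/
theorem isConj_trans (F : FusionSystem S) {P Q R : Subgroup Ω} (h1 : F.IsConj P Q) (h2 : F.IsConj Q R) :
    F.IsConj P R := by
  obtain ⟨φ, hφ, rfl⟩ := h1
  obtain ⟨ψ, hψ, rfl⟩ := h2
  refine ⟨ψ.comp (φ.codRestrict φ.range (fun x => ⟨x, rfl⟩)), F.comp_mem hφ hψ _, ?_⟩
  ext y
  constructor
  · rintro ⟨x, rfl⟩
    exact ⟨_, rfl⟩
  · rintro ⟨⟨_, x, rfl⟩, rfl⟩
    exact ⟨x, rfl⟩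

/-- Every subgroup of `S` is conjugate in the system to a fully normalized subgroup. -/
theorem exists_isFullyNormalized_conj [Finite S] (F : FusionSystem S) {P : Subgroup Ω} (hP : P ≤ S) :
    ∃ Q, F.IsConj P Q ∧ F.IsFullyNormalized Q := by
  have hne : {k : ℕ | ∃ Q, F.IsConj P Q ∧ Nat.card (normalizerIn S Q) = k}.Nonempty :=
    ⟨_, P, ⟨P.subtype, subtype_mem F hP, Subgroup.range_subtype P⟩, rfl⟩
  have hbdd : BddAbove {k : ℕ | ∃ Q, F.IsConj P Q ∧ Nat.card (normalizerIn S Q) = k} := by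
    refine ⟨Nat.card S, ?_⟩
    rintro _ ⟨Q, -, rfl⟩
    exact Subgroup.card_le_of_le (normalizerIn_le_S S Q)
  obtain ⟨Q, hPQ, hQ⟩ := Nat.sSup_mem hne hbdd
  refine ⟨Q, hPQ, ?_, ?_⟩
  · obtain ⟨φ, hφ, rfl⟩ := hPQ
    exact hom_range_le F hφ
  · intro Q' hQQ'
    rw [hQ]
    exact le_csSup hbdd ⟨Q', isConj_trans F hPQ hQQ', rfl⟩

end Cfsg.Agent.Helper87
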