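import Mathlib
import Cfsg.Agent.Helper24.NpsControl
import Cfsg.Agent.Helper87.Base

set_option autoImplicit false

/-! `p`-stable groups (normalizer form): `Z(J(P))` is normal in the fusion system (helper87). -/

namespace Cfsg.Agent.Helper87

open Cfsg

universe u

/-- If `N_G(W)` controls fusion in `P` and `W ≤ P`, then `W` is normal in the fusion system of `G` on `P`. -/
theorem isNormal_of_ctlIn {G : Type*} [Group G] (P W : Subgroup G) (hWP : W ≤ P)
    (h : Helper51.CtlIn (Subgroup.normalizer (W : Set G)) P) :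
    (groupFusionSystem P).IsNormal W := by
  refine ⟨hWP, fun A φ hφ => ?_⟩
  obtain ⟨hAP, hφP, g, hg⟩ := hφ
  obtain ⟨x, hx, hxA⟩ := h (A : Set G) hAP g
    (fun a ha => by have := hφP ⟨a, ha⟩; rwa [hg] at this)
  have hxW : ∀ w ∈ W, x * w * x⁻¹ ∈ W := fun w hw => (Subgroup.mem_normalizer_iff.mp hx w).mp hw
  have hxW' : ∀ w ∈ W, x⁻¹ * w * x ∈ W := fun w hw => by
    have := (Subgroup.mem_normalizer_iff.mp (inv_mem hx) w).mp hw
    simpa using this
  have hsup : A ⊔ W ≤ P.comap (MulAut.conj x).toMonoidHom := by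
    refine sup_le (fun a ha => ?_) (fun w hw => ?_)
    · show x * a * x⁻¹ ∈ P
      rw [hxA a ha]
      have := hφP ⟨a, ha⟩
      rwa [hg] at this
    · show x * w * x⁻¹ ∈ P
      exact hWP (hxW w hw)
  refine ⟨conjHom (A ⊔ W) x, ⟨sup_le hAP hWP, fun y => hsup y.2, x, fun y => rfl⟩, ?_, ?_⟩
  · intro a
    show x * (a : G) * x⁻¹ = φ a
    rw [hg, hxA a a.2]
  · ext y
    constructor
    · rintro ⟨z, hz, rfl⟩
      exact hxW z (Subgroup.mem_subgroupOf.mp hz)
    · intro hy
      refine ⟨⟨x⁻¹ * y * x, (le_sup_right : W ≤ A ⊔ W) (hxW' y hy)⟩, ?_, ?_⟩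
      · exact Subgroup.mem_subgroupOf.mpr (hxW' y hy)
      · show x * (x⁻¹ * y * x) * x⁻¹ = y
        group

/-- In a group that is `p`-stable in the normalizer form (`p` odd), `Z(J(P))` (the intersection of the abelian
subgroups of `P` of largest order) is normal in the fusion system on a Sylow `p`-subgroup `P`. -/
theorem nps_zj_isNormal {G : Type u} [Group G] [Finite G] {p : ℕ} [Fact p.Prime] (hp : p ≠ 2)
    (hst : IsNormalizerPStable p G) (P : Sylow p G) :
    (groupFusionSystem (P : Subgroup G)).IsNormal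
      (sInf (Helper11.maxFamily (fun A : Subgroup G => IsMulCommutative A) (P : Subgroup G))) := by
  have hsc : IsStronglyClosed (P : Subgroup G) (P : Subgroup G) := ⟨le_rfl, fun x _ g h => h⟩
  have hctl := Helper24.nps_ctl (Helper51.zjFam_comm p) hp hst P (P : Subgroup G) hsc
  exact isNormal_of_ctlIn _ _ ((Helper51.zjFam_comm p).zj_le _) hctl

theorem nps_core_ne_bot {G : Type u} [Group G] [Finite G] {p : ℕ} [Fact p.Prime] (hp : p ≠ 2)
    (hst : IsNormalizerPStable p G) (P : Sylow p G) (hP : (P : Subgroup G) ≠ ⊥) :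
    (groupFusionSystem (P : Subgroup G)).core ≠ ⊥ := by
  intro hcore
  have h1 := nps_zj_isNormal hp hst P
  have h2 : sInf (Helper11.maxFamily (fun A : Subgroup G => IsMulCommutative A) (P : Subgroup G)) ≤
      (groupFusionSystem (P : Subgroup G)).core := le_sSup h1
  rw [hcore] at h2
  exact (Helper51.zjFam_comm p).zj_ne_bot (P : Subgroup G) P.isPGroup' hP (eq_bot_iff.mpr h2)

end Cfsg.Agent.Helper87
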