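import Mathlib
import Cfsg.Agent.Helper51.QdControl2
import Cfsg.Agent.Helper46.Involves

set_option autoImplicit false

/-! Control of fusion modulo a normal subgroup of a Sylow `p`-subgroup in `Qd(p)`-free groups (helper87). -/

namespace Cfsg.Agent.Helper87

universe u

theorem qd_core_aux {G : Type u} [Group G] [Finite G] {p : ℕ} [Fact p.Prime] (hp : p ≠ 2)
    (P : Sylow p G) (R N : Subgroup G) (hRP : R ≤ P) (hne : R ≠ (P : Subgroup G))
    (hPN : (P : Subgroup G) ≤ N)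
    {Γ : Type u} [Group Γ] (π : ↥N →* Γ) (hπsurj : Function.Surjective π)
    (hπker : ∀ x : ↥N, π x = 1 ↔ (x : G) ∈ R)
    (hqd' : ¬ Helper33.IsSectionOf Γ ↥(Cfsg.qd p)) :
    ∃ Q : Subgroup G, R ≤ Q ∧ Q ≤ P ∧ Q ≠ R ∧
      ∀ (A : Subgroup G), R ≤ A → A ≤ P → ∀ g ∈ N,
        (∀ a ∈ A, g * a * g⁻¹ ∈ (P : Subgroup G)) →
        ∃ n ∈ N, (∀ q ∈ Q, n * q * n⁻¹ ∈ Q) ∧
          ∀ a ∈ A, (n * a * n⁻¹)⁻¹ * (g * a * g⁻¹) ∈ R := by
  classical
  haveI : Finite Γ := Finite.of_surjective π hπsurj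
  obtain ⟨T, hTcoe⟩ : ∃ T : Sylow p Γ, (T : Subgroup Γ) = ((P : Subgroup G).subgroupOf N).map π :=
    ⟨(P.subtype hPN).mapSurjective hπsurj, by rw [Sylow.coe_mapSurjective, Sylow.coe_subtype]⟩
  have hT : ∀ y : Γ, y ∈ (T : Subgroup Γ) ↔ ∃ x : ↥N, (x : G) ∈ (P : Subgroup G) ∧ π x = y := by
    intro y
    rw [hTcoe, Subgroup.mem_map]
    constructor
    · rintro ⟨x, hx, rfl⟩
      exact ⟨x, Subgroup.mem_subgroupOf.mp hx, rfl⟩
    · rintro ⟨x, hx, rfl⟩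
      exact ⟨x, Subgroup.mem_subgroupOf.mpr hx, rfl⟩
  have hT' : ∀ x : ↥N, π x ∈ (T : Subgroup Γ) ↔ (x : G) ∈ (P : Subgroup G) := by
    intro x
    rw [hT]
    constructor
    · rintro ⟨x', hx', h⟩
      have h1 : π (x'⁻¹ * x) = 1 := by rw [map_mul, map_inv, h, inv_mul_cancel]
      have h2 := (hπker _).mp h1
      have h3 : (x : G) = (x' : G) * ((x'⁻¹ * x : ↥N) : G) := by
        rw [Subgroup.coe_mul, Subgroup.coe_inv, mul_inv_cancel_left]
      rw [h3]; exact mul_mem hx' (hRP h2)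
    · intro hx; exact ⟨x, hx, rfl⟩
  have hsc : Cfsg.IsStronglyClosed (T : Subgroup Γ) (T : Subgroup Γ) :=
    ⟨le_rfl, fun x _ g h => h⟩
  obtain ⟨W, hWdef⟩ : ∃ W : Subgroup Γ, W = sInf (Helper11.maxFamily
      (fun A : Subgroup Γ => IsMulCommutative A) (T : Subgroup Γ)) := ⟨_, rfl⟩
  have hctl : Helper51.CtlIn (Subgroup.normalizer (W : Set Γ)) (T : Subgroup Γ) := by
    rw [hWdef]
    exact Helper51.qd_ctl (Helper51.zjFam_comm p) hp hqd' T (T : Subgroup Γ) hsc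
  obtain ⟨A₀, hA₀⟩ := Helper11.maxFamily_nonempty
    (fun A : Subgroup Γ => IsMulCommutative A) Helper11.isMulCommutative_bot_subgroup
    (T : Subgroup Γ)
  have hWT : W ≤ (T : Subgroup Γ) := by
    rw [hWdef]; exact (sInf_le hA₀).trans hA₀.1
  have hTne : Nontrivial ↥(T : Subgroup Γ) := by
    have hex : ∃ x ∈ (P : Subgroup G), x ∉ R := by
      by_contra hcon
      push Not at hcon
      exact hne (le_antisymm hRP hcon)
    obtain ⟨x, hxP, hxR⟩ := hex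
    refine ⟨⟨⟨π ⟨x, hPN hxP⟩, (hT' _).mpr hxP⟩, 1, fun h => ?_⟩⟩
    have h1 : π ⟨x, hPN hxP⟩ = 1 := congrArg Subtype.val h
    exact hxR ((hπker _).mp h1)
  obtain ⟨z, hzT, hz1, hzc⟩ : ∃ z ∈ (T : Subgroup Γ), z ≠ 1 ∧
      ∀ t ∈ (T : Subgroup Γ), t * z = z * t := by
    have hcn := IsPGroup.center_nontrivial (p := p) T.isPGroup'
    obtain ⟨c, hc⟩ := exists_ne (1 : ↥(Subgroup.center ↥(T : Subgroup Γ)))
    refine ⟨((c : ↥(T : Subgroup Γ)) : Γ), (c : ↥(T : Subgroup Γ)).2, ?_, ?_⟩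
    · intro h
      apply hc
      exact Subtype.ext (Subtype.ext h)
    · intro t ht
      have := Subgroup.mem_center_iff.mp c.2 ⟨t, ht⟩
      exact congrArg Subtype.val this
  have hzW : z ∈ W := by
    rw [hWdef, Subgroup.mem_sInf]
    intro A hA
    by_contra hzA
    have hcomm := Helper51.isMulCommutative_closure_union_singleton A hA.2.1 z
      (fun a ha => hzc a (hA.1 ha))
    have hle : Subgroup.closure ((A : Set Γ) ∪ {z}) ≤ (T : Subgroup Γ) := by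
      rw [Subgroup.closure_le]
      rintro y (hy | hy)
      · exact hA.1 hy
      · rw [Set.mem_singleton_iff.mp hy]; exact hzT
    have hcard := hA.2.2 _ hle hcomm
    have hAle : A ≤ Subgroup.closure ((A : Set Γ) ∪ {z}) := fun a ha =>
      Subgroup.subset_closure (Or.inl ha)
    have heq := Subgroup.eq_of_le_of_card_ge hAle hcard
    apply hzA
    rw [heq]
    exact Subgroup.subset_closure (Or.inr rfl)
  have hQmem : ∀ x : G, x ∈ (W.comap π).map N.subtype ↔ ∃ h : x ∈ N, π ⟨x, h⟩ ∈ W := by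
    intro x
    constructor
    · rintro ⟨y, hy, rfl⟩; exact ⟨y.2, hy⟩
    · rintro ⟨h, hx⟩; exact ⟨⟨x, h⟩, hx, rfl⟩
  refine ⟨(W.comap π).map N.subtype, ?_, ?_, ?_, ?_⟩
  · intro r hr
    rw [hQmem]
    refine ⟨hPN (hRP hr), ?_⟩
    rw [(hπker _).mpr hr]; exact W.one_mem
  · intro x hx
    obtain ⟨h, hx'⟩ := (hQmem x).mp hx
    exact (hT' ⟨x, h⟩).mp (hWT hx')
  · intro heq
    obtain ⟨x, rfl⟩ := hπsurj z
    have hxQ : (x : G) ∈ (W.comap π).map N.subtype := (hQmem _).mpr ⟨x.2, hzW⟩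
    rw [heq] at hxQ
    exact hz1 ((hπker x).mpr hxQ)
  · intro A hRA hAP g hg hgA
    have hAN : A ≤ N := hAP.trans hPN
    obtain ⟨xb, hxb, hxbA⟩ := hctl {y | ∃ a : ↥N, (a : G) ∈ A ∧ π a = y}
      (by rintro y ⟨a, ha, rfl⟩; exact (hT' a).mpr (hAP ha)) (π ⟨g, hg⟩)
      (by
        rintro y ⟨a, ha, rfl⟩
        rw [← map_inv, ← map_mul, ← map_mul, hT']
        exact hgA a ha)
    obtain ⟨n, rfl⟩ := hπsurj xb
    refine ⟨n, n.2, ?_, ?_⟩
    · intro q hq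
      obtain ⟨hqN, hqW⟩ := (hQmem q).mp hq
      rw [hQmem]
      refine ⟨N.mul_mem (N.mul_mem n.2 hqN) (N.inv_mem n.2), ?_⟩
      have h1 : (⟨(n : G) * q * (n : G)⁻¹, N.mul_mem (N.mul_mem n.2 hqN) (N.inv_mem n.2)⟩ : ↥N) =
          n * ⟨q, hqN⟩ * n⁻¹ := rfl
      rw [h1, map_mul, map_mul, map_inv]
      exact (Subgroup.mem_normalizer_iff.mp hxb _).mp hqW
    · intro a ha
      have h1 := hxbA (π ⟨a, hAN ha⟩) ⟨⟨a, hAN ha⟩, ha, rfl⟩
      have h2 : π ((n * ⟨a, hAN ha⟩ * n⁻¹)⁻¹ * (⟨g, hg⟩ * ⟨a, hAN ha⟩ * ⟨g, hg⟩⁻¹)) = 1 := by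
        rw [map_mul, map_inv, map_mul, map_mul, map_inv, map_mul, map_mul, map_inv, h1, inv_mul_cancel]
      exact (hπker _).mp h2

/-- Let `G` be `Qd(p)`-free (`p` odd), `P` a Sylow `p`-subgroup and `R < P` normal in `P`. There is `Q` with
`R < Q ≤ P` (the preimage of `Z(J(P/R))`) such that `N_G(R) ∩ N_G(Q)` controls fusion modulo `R` of subgroups of
`P` containing `R`, with respect to `N_G(R)`. -/
theorem qd_core {G : Type u} [Group G] [Finite G] {p : ℕ} [Fact p.Prime] (hp : p ≠ 2)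
    (hqd : ¬ Cfsg.Involves ↥(Cfsg.qd p) G) (P : Sylow p G) (R : Subgroup G) (hRP : R ≤ P)
    (hne : R ≠ (P : Subgroup G))
    (hRn : ∀ x ∈ (P : Subgroup G), ∀ r ∈ R, x * r * x⁻¹ ∈ R) :
    ∃ Q : Subgroup G, R ≤ Q ∧ Q ≤ P ∧ Q ≠ R ∧
      ∀ (A : Subgroup G), R ≤ A → A ≤ P → ∀ g ∈ Subgroup.normalizer (R : Set G),
        (∀ a ∈ A, g * a * g⁻¹ ∈ (P : Subgroup G)) →
        ∃ n ∈ Subgroup.normalizer (R : Set G), (∀ q ∈ Q, n * q * n⁻¹ ∈ Q) ∧
          ∀ a ∈ A, (n * a * n⁻¹)⁻¹ * (g * a * g⁻¹) ∈ R := by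
  have hPN : (P : Subgroup G) ≤ Subgroup.normalizer (R : Set G) := by
    intro x hx
    rw [Subgroup.mem_normalizer_iff]
    intro r
    constructor
    · exact hRn x hx r
    · intro h
      have := hRn x⁻¹ (inv_mem hx) _ h
      simpa [mul_assoc] using this
  haveI : (R.subgroupOf (Subgroup.normalizer (R : Set G))).Normal := Subgroup.normal_in_normalizer
  generalize Subgroup.normalizer (R : Set G) = N at *
  have hqd' : ¬ Helper33.IsSectionOf (↥N ⧸ R.subgroupOf N) ↥(Cfsg.qd p) := by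
    intro h
    have h0 : Helper33.IsSectionOf G (↥N ⧸ R.subgroupOf N) := Helper33.isSectionOf_quotient_subgroupOf N R
    have h1 : Helper33.IsSectionOf G ↥(Cfsg.qd p) := Helper33.IsSectionOf.trans h0 h
    obtain ⟨K, f, hf⟩ := h1
    exact hqd (Helper46.involves_iff.mpr ⟨K, f, hf⟩)
  exact qd_core_aux hp P R N hRP hne hPN (QuotientGroup.mk' (R.subgroupOf N))
    (QuotientGroup.mk'_surjective _)
    (fun x => by
      show (x : ↥N ⧸ R.subgroupOf N) = 1 ↔ _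
      rw [QuotientGroup.eq_one_iff]; exact Subgroup.mem_subgroupOf) hqd'

end Cfsg.Agent.Helper87
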