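import Mathlib
import Cfsg.Prelude.Def_FusionComponents
import Cfsg.Agent.Helper87.QdSolvA
import Cfsg.Agent.Helper87.Closed
import Cfsg.Agent.Helper85.Factor

set_option autoImplicit false

/-! Factor systems of the fusion system of a `Qd(p)`-free group have a nontrivial normal subgroup (helper87). -/

namespace Cfsg.Agent.Helper87

open Cfsg Cfsg.FusionSystem

universe u

theorem mem_normalizer_of_conj_mem_finite {G : Type*} [Group G] (R : Subgroup G) [Finite R] (g : G)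
    (h : ∀ r ∈ R, g * r * g⁻¹ ∈ R) : g ∈ Subgroup.normalizer (R : Set G) := by
  rw [Subgroup.mem_normalizer_iff]
  intro x
  constructor
  · exact h x
  · intro hx
    let f : R → R := fun r => ⟨g * r * g⁻¹, h r r.2⟩
    have hf : Function.Injective f := by
      intro a b hab
      have h1 : g * (a : G) * g⁻¹ = g * (b : G) * g⁻¹ := congrArg Subtype.val hab
      exact Subtype.ext (mul_left_cancel (mul_right_cancel h1))
    obtain ⟨r, hr⟩ := (Finite.injective_iff_surjective.mp hf) ⟨g * x * g⁻¹, hx⟩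
    have h1 : g * (r : G) * g⁻¹ = g * x * g⁻¹ := congrArg Subtype.val hr
    have h2 : (r : G) = x := mul_left_cancel (mul_right_cancel h1)
    rw [← h2]; exact r.2

theorem qd_factor_core_ne_bot {G : Type u} [Group G] [Finite G] {p : ℕ} [Fact p.Prime] (hp : p ≠ 2)
    (hqd : ¬ Cfsg.Involves ↥(Cfsg.qd p) G) (P : Sylow p G)
    (R : Subgroup G) (hR : (groupFusionSystem (P : Subgroup G)).StronglyClosed R)
    (hne : R ≠ (P : Subgroup G))
    {Ω' : Type*} [Group Ω'] [Finite Ω'] {S' : Subgroup Ω'} (θ : ↥(P : Subgroup G) →* Ω')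
    (E : FusionSystem S')
    (hE : (groupFusionSystem (P : Subgroup G)).IsFactorSystem R θ E) :
    E.core ≠ ⊥ := by
  classical
  have hRP : R ≤ P := hR.1
  have hRn : ∀ x ∈ (P : Subgroup G), ∀ r ∈ R, x * r * x⁻¹ ∈ R := fun x hx r hr =>
    stronglyClosed_conj_mem _ hR hx hr
  obtain ⟨Q, hRQ, hQP, hQR, hctl⟩ := qd_core hp hqd P R hRP hne hRn
  have hθker : ∀ s : ↥(P : Subgroup G), θ s = 1 ↔ (s : G) ∈ R := hE.2.1
  have hθrange : θ.range = S' := hE.2.2.1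
  have hθS' : ∀ y ∈ S', ∃ s : ↥(P : Subgroup G), θ s = y := fun y hy => by
    rw [← hθrange] at hy; exact hy
  have hθeq : ∀ s t : ↥(P : Subgroup G), (s : G)⁻¹ * (t : G) ∈ R → θ s = θ t := by
    intro s t h
    have h1 : θ (s⁻¹ * t) = 1 := (hθker _).mpr h
    rw [map_mul, map_inv, inv_mul_eq_one] at h1
    exact h1
  have hW'mem : ∀ y : Ω', y ∈ (Q.subgroupOf (P : Subgroup G)).map θ ↔
      ∃ (q : G) (hq : q ∈ (P : Subgroup G)), q ∈ Q ∧ θ ⟨q, hq⟩ = y := by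
    intro y
    constructor
    · rintro ⟨s, hs, rfl⟩; exact ⟨s, s.2, Subgroup.mem_subgroupOf.mp hs, rfl⟩
    · rintro ⟨q, hq, hqQ, rfl⟩; exact ⟨⟨q, hq⟩, Subgroup.mem_subgroupOf.mpr hqQ, rfl⟩
  have hW'S' : (Q.subgroupOf (P : Subgroup G)).map θ ≤ S' := by
    rintro _ ⟨s, -, rfl⟩
    rw [← hθrange]; exact ⟨s, rfl⟩
  have hW'ne : (Q.subgroupOf (P : Subgroup G)).map θ ≠ ⊥ := by
    obtain ⟨q, hqQ, hqR⟩ : ∃ q ∈ Q, q ∉ R := by
      by_contra hcon
      push Not at hcon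
      exact hQR (le_antisymm hcon hRQ)
    intro h
    have h1 : θ ⟨q, hQP hqQ⟩ ∈ (Q.subgroupOf (P : Subgroup G)).map θ :=
      (hW'mem _).mpr ⟨q, hQP hqQ, hqQ, rfl⟩
    rw [h, Subgroup.mem_bot] at h1
    exact hqR ((hθker _).mp h1)
  generalize hW'def : (Q.subgroupOf (P : Subgroup G)).map θ = W' at hW'mem hW'ne hW'S'
  have hnormal : E.IsNormal W' := by
    refine ⟨hW'S', fun P' φ' hφ' => ?_⟩
    obtain ⟨hP'S', φ, hφ, hP, hφP, hP', hind⟩ := (hE.2.2.2 P' φ').mp hφ'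
    have hφF := hφ
    obtain ⟨hAP, hφval, g, hg⟩ := hφ
    have hAmem := Helper85.mem_preimageAlong θ P'
    have hRA : R ≤ preimageAlong θ P' := by
      intro r hr
      rw [hAmem]
      refine ⟨hRP hr, ?_⟩
      rw [(hθker _).mpr hr]; exact P'.one_mem
    have hfinR : Finite R := Finite.of_injective (fun r : R => (r : G)) Subtype.val_injective
    have hgN : g ∈ Subgroup.normalizer (R : Set G) := by
      apply mem_normalizer_of_conj_mem_finite
      intro r hr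
      have h1 := hR.2 R le_rfl _ (hom_restrict _ hφF hRA) ⟨r, hr⟩
      have h2 : (φ.comp (Subgroup.inclusion hRA)) ⟨r, hr⟩ = g * r * g⁻¹ := hg ⟨r, hRA hr⟩
      rw [h2] at h1
      exact h1
    have hgA : ∀ a ∈ preimageAlong θ P', g * a * g⁻¹ ∈ (P : Subgroup G) := by
      intro a ha
      have := hφval ⟨a, ha⟩
      rw [hg] at this
      exact this
    obtain ⟨n, hnN, hnQ, hnA⟩ := hctl (preimageAlong θ P') hRA hAP g hgN hgA
    have hBmem := Helper85.mem_preimageAlong θ (P' ⊔ W')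
    have hBP : preimageAlong θ (P' ⊔ W') ≤ (P : Subgroup G) := Helper85.preimageAlong_le θ _
    -- `B ≤ A ⊔ Q`
    have hBAQ : preimageAlong θ (P' ⊔ W') ≤ preimageAlong θ P' ⊔ Q := by
      intro b hb
      obtain ⟨hbP, hb'⟩ := (hBmem b).mp hb
      have h1 : P' ⊔ W' ≤ ((preimageAlong θ P' ⊔ Q).subgroupOf (P : Subgroup G)).map θ := by
        refine sup_le ?_ ?_
        · intro y hy
          obtain ⟨s, rfl⟩ := hθS' y (hP'S' hy)
          exact ⟨s, Subgroup.mem_subgroupOf.mpr (Subgroup.mem_sup_left ((hAmem _).mpr ⟨s.2, hy⟩)), rfl⟩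
        · intro y hy
          obtain ⟨q, hq, hqQ, rfl⟩ := (hW'mem y).mp hy
          exact ⟨⟨q, hq⟩, Subgroup.mem_subgroupOf.mpr (Subgroup.mem_sup_right hqQ), rfl⟩
      obtain ⟨c, hc, hcb⟩ := h1 hb'
      have hc' : (c : G) ∈ preimageAlong θ P' ⊔ Q := Subgroup.mem_subgroupOf.mp hc
      have h2 : θ (c⁻¹ * ⟨b, hbP⟩) = 1 := by rw [map_mul, map_inv, hcb, inv_mul_cancel]
      have h3 : ((c⁻¹ * ⟨b, hbP⟩ : ↥(P : Subgroup G)) : G) ∈ R := (hθker _).mp h2
      have h4 : b = (c : G) * ((c⁻¹ * ⟨b, hbP⟩ : ↥(P : Subgroup G)) : G) := by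
        rw [Subgroup.coe_mul, Subgroup.coe_inv, mul_inv_cancel_left]
      rw [h4]
      exact Subgroup.mul_mem _ hc' (Subgroup.mem_sup_left (hRA h3))
    have hnB : ∀ b ∈ preimageAlong θ (P' ⊔ W'), n * b * n⁻¹ ∈ (P : Subgroup G) := by
      have h1 : preimageAlong θ P' ⊔ Q ≤ (P : Subgroup G).comap (MulAut.conj n).toMonoidHom := by
        refine sup_le ?_ ?_
        · intro a ha
          show n * a * n⁻¹ ∈ (P : Subgroup G)
          have h2 : n * a * n⁻¹ = (g * a * g⁻¹) * ((n * a * n⁻¹)⁻¹ * (g * a * g⁻¹))⁻¹ := by group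
          rw [h2]
          exact Subgroup.mul_mem _ (hgA a ha) (Subgroup.inv_mem _ (hRP (hnA a ha)))
        · intro q hq
          exact hQP (hnQ q hq)
      intro b hb
      exact h1 (hBAQ hb)
    have hψF : conjHom (preimageAlong θ (P' ⊔ W')) n ∈
        (groupFusionSystem (P : Subgroup G)).Hom (preimageAlong θ (P' ⊔ W')) :=
      ⟨hBP, fun x => hnB x x.2, n, fun x => rfl⟩
    have hψval : ∀ x : ↥(preimageAlong θ (P' ⊔ W')),
        conjHom (preimageAlong θ (P' ⊔ W')) n x ∈ (P : Subgroup G) := fun x => hnB x x.2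
    have hmem : ∀ x : ↥(preimageAlong θ (P' ⊔ W')), θ ⟨x, hBP x.2⟩ ∈ P' ⊔ W' := fun x => by
      obtain ⟨_, h⟩ := (hBmem x).mp x.2
      exact h
    obtain ⟨ψ', hψ'⟩ := Helper85.exists_induced θ hBP (conjHom (preimageAlong θ (P' ⊔ W')) n) hψval
      (fun x hx => by
        apply (hθker _).mpr
        show n * (x : G) * n⁻¹ ∈ R
        exact (Subgroup.mem_normalizer_iff.mp hnN _).mp ((hθker _).mp hx))
      (P' ⊔ W') hmem
      (fun y hy => by
        obtain ⟨s, rfl⟩ := hθS' y (sup_le hP'S' hW'S' hy)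
        exact ⟨⟨s, (hBmem _).mpr ⟨s.2, hy⟩⟩, rfl⟩)
    have hψ'E : ψ' ∈ E.Hom (P' ⊔ W') :=
      (hE.2.2.2 _ ψ').mpr ⟨sup_le hP'S' hW'S', _, hψF, hBP, hψval, hmem, hψ'⟩
    refine ⟨ψ', hψ'E, ?_, ?_⟩
    · intro x
      obtain ⟨s, hs⟩ := hθS' x.1 (hP'S' x.2)
      have hsA : (s : G) ∈ preimageAlong θ P' := (hAmem _).mpr ⟨s.2, by rw [hs]; exact x.2⟩
      have hsB : (s : G) ∈ preimageAlong θ (P' ⊔ W') :=
        (hBmem _).mpr ⟨s.2, by rw [hs]; exact Subgroup.mem_sup_left x.2⟩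
      have e1 := hind ⟨s, hsA⟩
      have e2 := hψ' ⟨s, hsB⟩
      have e3 : (Subgroup.inclusion (le_sup_left : P' ≤ P' ⊔ W') x) =
          ⟨θ ⟨((⟨s, hsB⟩ : ↥(preimageAlong θ (P' ⊔ W'))) : G), hBP hsB⟩, hmem ⟨s, hsB⟩⟩ :=
        Subtype.ext hs.symm
      have e4 : x = ⟨θ ⟨((⟨s, hsA⟩ : ↥(preimageAlong θ P')) : G), hP hsA⟩, hP' ⟨s, hsA⟩⟩ :=
        Subtype.ext hs.symm
      rw [e3, e2, e4, e1]
      apply hθeq
      show (n * (s : G) * n⁻¹)⁻¹ * (φ ⟨s, hsA⟩) ∈ R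
      rw [hg]
      exact hnA s hsA
    · have hle : (W'.subgroupOf (P' ⊔ W')).map ψ' ≤ W' := by
        rintro _ ⟨w, hw, rfl⟩
        obtain ⟨q, hqP, hqQ, hq⟩ := (hW'mem _).mp (Subgroup.mem_subgroupOf.mp hw)
        have hqB : q ∈ preimageAlong θ (P' ⊔ W') := (hBmem _).mpr ⟨hqP, by rw [hq]; exact w.2⟩
        have e2 := hψ' ⟨q, hqB⟩
        have e3 : w = ⟨θ ⟨((⟨q, hqB⟩ : ↥(preimageAlong θ (P' ⊔ W'))) : G), hBP hqB⟩, hmem ⟨q, hqB⟩⟩ :=
          Subtype.ext hq.symm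
        rw [e3, e2]
        exact (hW'mem _).mpr ⟨n * q * n⁻¹, hnB q hqB, hnQ q hqQ, rfl⟩
      refine Subgroup.eq_of_le_of_card_ge hle ?_
      rw [Subgroup.card_map_of_injective (E.injective_of_mem hψ'E)]
      exact le_of_eq (Nat.card_congr (Subgroup.subgroupOfEquivOfLe (le_sup_right : W' ≤ P' ⊔ W')).toEquiv).symm
  intro hcore
  have h1 : W' ≤ E.core := le_sSup hnormal
  rw [hcore] at h1
  exact hW'ne (le_bot_iff.mp h1)

end Cfsg.Agent.Helper87
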