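import Mathlib
import Cfsg.Agent.Helper24.NpsControl
import Cfsg.Agent.Helper87.QdSolvB
import Cfsg.Agent.Helper33.SylowRel
import Cfsg.Agent.S3836

set_option autoImplicit false

/-! `p`-stable groups (normalizer form): a subgroup `Q ⊴ P` that does not contain `C_P(Q)` can be enlarged
inside `Q C_P(Q)` by the preimage of `Z(J(Q C_P(Q) / Q))` (helper87). -/

namespace Cfsg.Agent.Helper87

open Cfsg

universe u

/-- Abstract form: `π`, `π'` are the quotient maps of `G₁ ≤ N` modulo `Q`. -/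
theorem nps_lift_aux {G : Type u} [Group G] [Finite G] {p : ℕ} [Fact p.Prime] (hp : p ≠ 2)
    (P : Sylow p G) (Q E G₁ N : Subgroup G) (hQE : Q ≤ E) (hEP : E ≤ P)
    (hPG : (P : Subgroup G) ≤ G₁) (hGN : G₁ ≤ N)
    {Γ Γ' : Type u} [Group Γ] [Group Γ']
    (π : ↥G₁ →* Γ) (hπs : Function.Surjective π) (hπk : ∀ x : ↥G₁, π x = 1 ↔ (x : G) ∈ Q)
    (π' : ↥N →* Γ') (hπs' : Function.Surjective π') (hπk' : ∀ x : ↥N, π' x = 1 ↔ (x : G) ∈ Q)
    (f : Γ →* Γ') (hf : ∀ x : ↥G₁, f (π x) = π' (Subgroup.inclusion hGN x))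
    (hnps : IsNormalizerPStable p Γ)
    (hEcl : ∀ e ∈ E, ∀ k ∈ G₁, k * e * k⁻¹ ∈ (P : Subgroup G) → k * e * k⁻¹ ∈ E)
    (hne : E ≠ Q) :
    ∃ W : Subgroup G, Q ≤ W ∧ W ≤ E ∧ W ≠ Q ∧
      (∀ x ∈ W, ∀ y ∈ W, x * y * x⁻¹ * y⁻¹ ∈ Q) ∧
      (∀ m ∈ N, (∀ s ∈ E, m * s * m⁻¹ ∈ E) → ∀ w ∈ W, m * w * m⁻¹ ∈ W) ∧
      (∀ w ∈ W, ∀ k ∈ G₁, k * w * k⁻¹ ∈ (P : Subgroup G) → k * w * k⁻¹ ∈ W) := by
  classical
  haveI : Finite Γ := Finite.of_surjective π hπs
  haveI : Finite Γ' := Finite.of_surjective π' hπs'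
  have hQP : Q ≤ (P : Subgroup G) := hQE.trans hEP
  have hEG : E ≤ G₁ := hEP.trans hPG
  have hEN : E ≤ N := hEG.trans hGN
  have hQN : Q ≤ N := hQE.trans hEN
  have hπeq : ∀ x y : ↥G₁, π x = π y → ∃ q ∈ Q, (y : G) = (x : G) * q := by
    intro x y h
    have h1 : π (x⁻¹ * y) = 1 := by rw [map_mul, map_inv, h, inv_mul_cancel]
    refine ⟨_, (hπk _).mp h1, ?_⟩
    rw [Subgroup.coe_mul, Subgroup.coe_inv, mul_inv_cancel_left]
  have hπeq' : ∀ x y : ↥N, π' x = π' y → ∃ q ∈ Q, (y : G) = (x : G) * q := by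
    intro x y h
    have h1 : π' (x⁻¹ * y) = 1 := by rw [map_mul, map_inv, h, inv_mul_cancel]
    refine ⟨_, (hπk' _).mp h1, ?_⟩
    rw [Subgroup.coe_mul, Subgroup.coe_inv, mul_inv_cancel_left]
  obtain ⟨T, hTcoe⟩ : ∃ T : Sylow p Γ, (T : Subgroup Γ) = ((P : Subgroup G).subgroupOf G₁).map π :=
    ⟨(P.subtype hPG).mapSurjective hπs, by rw [Sylow.coe_mapSurjective, Sylow.coe_subtype]⟩
  have hT' : ∀ x : ↥G₁, π x ∈ (T : Subgroup Γ) ↔ (x : G) ∈ (P : Subgroup G) := by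
    intro x
    rw [hTcoe, Subgroup.mem_map]
    constructor
    · rintro ⟨x', hx', h⟩
      obtain ⟨q, hq, hxq⟩ := hπeq x' x h
      rw [hxq]; exact mul_mem (Subgroup.mem_subgroupOf.mp hx') (hQP hq)
    · intro hx; exact ⟨x, Subgroup.mem_subgroupOf.mpr hx, rfl⟩
  obtain ⟨D, hDdef⟩ : ∃ D : Subgroup Γ, D = (E.subgroupOf G₁).map π := ⟨_, rfl⟩
  have hD : ∀ x : ↥G₁, π x ∈ D ↔ (x : G) ∈ E := by
    intro x
    rw [hDdef, Subgroup.mem_map]
    constructor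
    · rintro ⟨x', hx', h⟩
      obtain ⟨q, hq, hxq⟩ := hπeq x' x h
      rw [hxq]; exact mul_mem (Subgroup.mem_subgroupOf.mp hx') (hQE hq)
    · intro hx; exact ⟨x, Subgroup.mem_subgroupOf.mpr hx, rfl⟩
  have hDsc : IsStronglyClosed D (T : Subgroup Γ) := by
    refine ⟨?_, ?_⟩
    · intro y hy
      obtain ⟨x, rfl⟩ := hπs y
      exact (hT' x).mpr (hEP ((hD x).mp hy))
    · intro y hy g hg
      obtain ⟨x, rfl⟩ := hπs y
      obtain ⟨k, rfl⟩ := hπs g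
      rw [← map_inv, ← map_mul, ← map_mul] at hg ⊢
      rw [hT'] at hg
      rw [hD] at hy ⊢
      exact hEcl _ hy _ k.2 hg
  obtain ⟨Wb, hWb⟩ : ∃ Wb : Subgroup Γ, Wb = sInf (Helper11.maxFamily
      (fun A : Subgroup Γ => IsMulCommutative A) D) := ⟨_, rfl⟩
  have hctl : Helper51.CtlIn (Subgroup.normalizer (Wb : Set Γ)) (T : Subgroup Γ) := by
    rw [hWb]
    exact Helper24.nps_ctl (Helper51.zjFam_comm p) hp hnps T D hDsc
  have hfinj : ∀ y : Γ, f y = 1 → y = 1 := by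
    intro y hy
    obtain ⟨x, rfl⟩ := hπs y
    rw [hf, hπk'] at hy
    exact (hπk x).mpr hy
  have hfinj' : Function.Injective f := (injective_iff_map_eq_one f).mpr hfinj
  obtain ⟨D', hD'def⟩ : ∃ D' : Subgroup Γ', D' = D.map f := ⟨_, rfl⟩
  obtain ⟨W', hW'⟩ : ∃ W' : Subgroup Γ', W' = sInf (Helper11.maxFamily
      (fun A : Subgroup Γ' => IsMulCommutative A) D') := ⟨_, rfl⟩
  have hzj : Wb.map f = W' := by
    rw [hWb, hW', hD'def]
    exact (Helper51.zjFam_comm p).zj_map f D (fun x _ h => hfinj x h)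
  have hD' : ∀ x : ↥N, π' x ∈ D' ↔ (x : G) ∈ E := by
    intro x
    rw [hD'def, Subgroup.mem_map]
    constructor
    · rintro ⟨y, hy, hyx⟩
      obtain ⟨e, rfl⟩ := hπs y
      rw [hD] at hy
      rw [hf] at hyx
      obtain ⟨q, hq, hxq⟩ := hπeq' _ x hyx
      rw [hxq]; exact mul_mem hy (hQE hq)
    · intro hx
      refine ⟨π ⟨x, hEG hx⟩, (hD _).mpr hx, ?_⟩
      rw [hf]; rfl
  have hW'D' : W' ≤ D' := by rw [hW']; exact (Helper51.zjFam_comm p).zj_le D'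
  have hWmem : ∀ x : G, x ∈ (W'.comap π').map N.subtype ↔ ∃ h : x ∈ N, π' ⟨x, h⟩ ∈ W' := by
    intro x
    constructor
    · rintro ⟨y, hy, rfl⟩; exact ⟨y.2, hy⟩
    · rintro ⟨h, hx⟩; exact ⟨⟨x, h⟩, hx, rfl⟩
  refine ⟨(W'.comap π').map N.subtype, ?_, ?_, ?_, ?_, ?_, ?_⟩
  · intro q hq
    rw [hWmem]
    refine ⟨hQN hq, ?_⟩
    rw [(hπk' _).mpr hq]; exact W'.one_mem
  · intro x hx
    obtain ⟨h, hx'⟩ := (hWmem x).mp hx
    exact (hD' ⟨x, h⟩).mp (hW'D' hx')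
  · intro heq
    have hD'p : IsPGroup p D' := by
      rw [hD'def]; exact (T.isPGroup'.to_le hDsc.1).map f
    have hD'ne : D' ≠ ⊥ := by
      intro hbot
      apply hne
      refine le_antisymm ?_ hQE
      intro e he
      have h1 : π' ⟨e, hEN he⟩ ∈ D' := (hD' _).mpr he
      rw [hbot, Subgroup.mem_bot] at h1
      exact (hπk' _).mp h1
    have hW'ne : W' ≠ ⊥ := by
      rw [hW']; exact (Helper51.zjFam_comm p).zj_ne_bot D' hD'p hD'ne
    apply hW'ne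
    rw [eq_bot_iff]
    intro z hz
    obtain ⟨x, rfl⟩ := hπs' z
    have hxW : (x : G) ∈ (W'.comap π').map N.subtype := (hWmem _).mpr ⟨x.2, hz⟩
    rw [heq] at hxW
    rw [Subgroup.mem_bot]; exact (hπk' x).mpr hxW
  · intro x hx y hy
    obtain ⟨hxN, hx'⟩ := (hWmem x).mp hx
    obtain ⟨hyN, hy'⟩ := (hWmem y).mp hy
    obtain ⟨A₀, hA₀⟩ := Helper11.maxFamily_nonempty
      (fun A : Subgroup Γ' => IsMulCommutative A) Helper11.isMulCommutative_bot_subgroup D'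
    have hWA : W' ≤ A₀ := by rw [hW']; exact sInf_le hA₀
    have hcomm := (isMulCommutative_iff_of_setLike.mp hA₀.2.1) _ (hWA hx') _ (hWA hy')
    have h1 : π' (⟨x, hxN⟩ * ⟨y, hyN⟩ * ⟨x, hxN⟩⁻¹ * ⟨y, hyN⟩⁻¹) = 1 := by
      rw [map_mul, map_mul, map_mul, map_inv, map_inv, hcomm]; group
    exact (hπk' _).mp h1
  · intro m hm hmE w hw
    obtain ⟨hwN, hw'⟩ := (hWmem w).mp hw
    have hmD : π' ⟨m, hm⟩ ∈ Subgroup.normalizer (D' : Set Γ') := by
      apply mem_normalizer_of_conj_mem_finite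
      intro d hd
      obtain ⟨x, rfl⟩ := hπs' d
      rw [← map_inv, ← map_mul, ← map_mul, hD']
      exact hmE _ ((hD' x).mp hd)
    have hmW : π' ⟨m, hm⟩ ∈ Subgroup.normalizer (W' : Set Γ') := by
      rw [hW']; exact (Helper51.zjFam_comm p).zj_normalizer_le D' hmD
    rw [hWmem]
    refine ⟨N.mul_mem (N.mul_mem hm hwN) (N.inv_mem hm), ?_⟩
    have h1 : (⟨m * w * m⁻¹, N.mul_mem (N.mul_mem hm hwN) (N.inv_mem hm)⟩ : ↥N) =
        ⟨m, hm⟩ * ⟨w, hwN⟩ * ⟨m, hm⟩⁻¹ := rfl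
    rw [h1, map_mul, map_mul, map_inv]
    exact (Subgroup.mem_normalizer_iff.mp hmW _).mp hw'
  · intro w hw k hk hkw
    obtain ⟨hwN, hw'⟩ := (hWmem w).mp hw
    have hwE : w ∈ E := (hD' ⟨w, hwN⟩).mp (hW'D' hw')
    have hwG : w ∈ G₁ := hEG hwE
    have hπw : π ⟨w, hwG⟩ ∈ Wb := by
      rw [← hzj] at hw'
      obtain ⟨v, hv, hvw⟩ := hw'
      have h2 : f v = f (π ⟨w, hwG⟩) := by rw [hvw, hf]; rfl
      rw [← hfinj' h2]; exact hv
    obtain ⟨x, hx, hxA⟩ := hctl {π ⟨w, hwG⟩}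
      (by rintro y hy; rw [Set.mem_singleton_iff.mp hy]; exact (hT' _).mpr (hEP hwE))
      (π ⟨k, hk⟩)
      (by
        rintro y hy
        rw [Set.mem_singleton_iff.mp hy, ← map_inv, ← map_mul, ← map_mul, hT']
        exact hkw)
    have h3 := hxA _ (Set.mem_singleton _)
    have h4 : x * π ⟨w, hwG⟩ * x⁻¹ ∈ Wb := (Subgroup.mem_normalizer_iff.mp hx _).mp hπw
    rw [h3, ← map_inv, ← map_mul, ← map_mul] at h4
    rw [hWmem]
    have hkN : k ∈ N := hGN hk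
    refine ⟨N.mul_mem (N.mul_mem hkN hwN) (N.inv_mem hkN), ?_⟩
    rw [← hzj]
    refine ⟨_, h4, ?_⟩
    rw [hf]; rfl

theorem mem_sup_inf_centralizer {G : Type*} [Group G] (P Q : Subgroup G) (x : G) :
    x ∈ Q ⊔ (P ⊓ Subgroup.centralizer (Q : Set G)) ↔
      ∃ q ∈ Q, ∃ t ∈ P ⊓ Subgroup.centralizer (Q : Set G), x = q * t := by
  apply mem_sup_of_normalizes
  intro a ha k hk
  have h1 : a * k = k * a := Subgroup.mem_centralizer_iff.mp hk.2 a ha
  rw [h1, mul_inv_cancel_right]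
  exact hk

theorem conj_mem_centralizer_of_mem_normalizer {G : Type*} [Group G] (Q : Subgroup G) {n c : G}
    (hn : n ∈ Subgroup.normalizer (Q : Set G)) (hc : c ∈ Subgroup.centralizer (Q : Set G)) :
    n * c * n⁻¹ ∈ Subgroup.centralizer (Q : Set G) := by
  rw [Subgroup.mem_centralizer_iff]
  intro q hq
  have hq' : n⁻¹ * q * n ∈ Q := by
    have := (Subgroup.mem_normalizer_iff.mp (inv_mem hn) q).mp hq
    simpa using this
  have h1 : n⁻¹ * q * n * c = c * (n⁻¹ * q * n) := Subgroup.mem_centralizer_iff.mp hc _ hq'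
  calc q * (n * c * n⁻¹) = n * (n⁻¹ * q * n * c) * n⁻¹ := by group
    _ = n * (c * (n⁻¹ * q * n)) * n⁻¹ := by rw [h1]
    _ = n * c * n⁻¹ * q := by group

/-- `Q C_P(Q)` is closed under `N_G(Q)`-conjugation inside `P`. -/
theorem sup_inf_centralizer_closed {G : Type*} [Group G] (P Q : Subgroup G) (hQP : Q ≤ P) :
    ∀ e ∈ Q ⊔ (P ⊓ Subgroup.centralizer (Q : Set G)), ∀ k ∈ Subgroup.normalizer (Q : Set G),
      k * e * k⁻¹ ∈ P → k * e * k⁻¹ ∈ Q ⊔ (P ⊓ Subgroup.centralizer (Q : Set G)) := by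
  intro e he k hk hP'
  obtain ⟨q, hq, t, ht, rfl⟩ := (mem_sup_inf_centralizer P Q e).mp he
  have h1 : k * (q * t) * k⁻¹ = (k * q * k⁻¹) * (k * t * k⁻¹) := by group
  rw [h1] at hP' ⊢
  have hq' : k * q * k⁻¹ ∈ Q := (Subgroup.mem_normalizer_iff.mp hk q).mp hq
  have ht' : k * t * k⁻¹ ∈ P := by
    have := P.mul_mem (P.inv_mem (hQP hq')) hP'
    rwa [inv_mul_cancel_left] at this
  exact (mem_sup_inf_centralizer P Q _).mpr
    ⟨_, hq', _, ⟨ht', conj_mem_centralizer_of_mem_normalizer Q hk ht.2⟩, rfl⟩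

/-- Frattini argument for `Q C_P(Q)` in `N_G(Q)`. -/
theorem nps_frattini_aux {G : Type u} [Group G] [Finite G] {p : ℕ} [Fact p.Prime]
    (P : Sylow p G) (Q : Subgroup G) (hQP : Q ≤ P)
    (hQn : (P : Subgroup G) ≤ Subgroup.normalizer (Q : Set G)) (n : G)
    (hn : n ∈ Subgroup.normalizer (Q : Set G)) :
    ∃ c ∈ Subgroup.centralizer (Q : Set G),
      ∀ s ∈ Q ⊔ ((P : Subgroup G) ⊓ Subgroup.centralizer (Q : Set G)),
        (c * n) * s * (c * n)⁻¹ ∈ Q ⊔ ((P : Subgroup G) ⊓ Subgroup.centralizer (Q : Set G)) := by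
  have hEP : Q ⊔ ((P : Subgroup G) ⊓ Subgroup.centralizer (Q : Set G)) ≤ (P : Subgroup G) :=
    sup_le hQP inf_le_left
  have hidx : ¬ p ∣ (P : Subgroup G).relIndex ((P : Subgroup G) ⊔ Subgroup.centralizer (Q : Set G)) :=
    fun h => P.not_dvd_index (h.trans (Subgroup.relIndex_dvd_index_of_le le_sup_left))
  have hle : (Q ⊔ ((P : Subgroup G) ⊓ Subgroup.centralizer (Q : Set G))).map (MulAut.conj n).toMonoidHom ≤
      (P : Subgroup G) ⊔ Subgroup.centralizer (Q : Set G) := by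
    rintro _ ⟨e, he, rfl⟩
    obtain ⟨q, hq, t, ht, rfl⟩ := (mem_sup_inf_centralizer _ Q e).mp he
    show n * (q * t) * n⁻¹ ∈ _
    have h1 : n * (q * t) * n⁻¹ = (n * q * n⁻¹) * (n * t * n⁻¹) := by group
    rw [h1]
    exact mul_mem (le_sup_left (α := Subgroup G) (hQP ((Subgroup.mem_normalizer_iff.mp hn q).mp hq)))
      (le_sup_right (α := Subgroup G) (conj_mem_centralizer_of_mem_normalizer Q hn ht.2))
  obtain ⟨y, hy, hyP⟩ := Helper33.exists_cj_le_of_relIndex (le_sup_left : (P : Subgroup G) ≤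
      (P : Subgroup G) ⊔ Subgroup.centralizer (Q : Set G)) P.isPGroup' hidx hle
      ((P.isPGroup'.to_le hEP).map _)
  obtain ⟨u, hu, c, hc, rfl⟩ := (mem_sup_of_normalizes (H := (P : Subgroup G))
    (K := Subgroup.centralizer (Q : Set G))
    (fun a ha k hk => conj_mem_centralizer_of_mem_normalizer Q (hQn ha) hk)).mp hy
  refine ⟨c, hc, fun s hs => ?_⟩
  have hcn : c * n ∈ Subgroup.normalizer (Q : Set G) :=
    mul_mem (Subgroup.centralizer_le_normalizer (Q : Set G) hc) hn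
  apply sup_inf_centralizer_closed _ Q hQP s hs (c * n) hcn
  have h2 : u * c * (n * s * n⁻¹) * (u * c)⁻¹ ∈ (P : Subgroup G) :=
    hyP ⟨n * s * n⁻¹, ⟨s, hs, rfl⟩, rfl⟩
  have h3 := (P : Subgroup G).mul_mem ((P : Subgroup G).mul_mem ((P : Subgroup G).inv_mem hu) h2) hu
  have e : u⁻¹ * (u * c * (n * s * n⁻¹) * (u * c)⁻¹) * u = c * n * s * (c * n)⁻¹ := by group
  rwa [e] at h3

/-- Key group-theoretic step: if `Q ⊴ P` does not contain `C_P(Q)` in a `p`-stable group, there is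
`Q < W ≤ Q C_P(Q)` with `W/Q` abelian, invariant under the normalizer of `Q C_P(Q)` in `N_G(Q)` and strongly
closed in `P` with respect to `P C_G(Q)`. -/
theorem nps_centric_aux {G : Type u} [Group G] [Finite G] {p : ℕ} [Fact p.Prime] (hp : p ≠ 2)
    (hst : IsNormalizerPStable p G) (P : Sylow p G) (Q : Subgroup G) (hQP : Q ≤ P)
    (hQn : (P : Subgroup G) ≤ Subgroup.normalizer (Q : Set G))
    (hnc : ¬ (P : Subgroup G) ⊓ Subgroup.centralizer (Q : Set G) ≤ Q) :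
    ∃ W : Subgroup G, Q ≤ W ∧ W ≤ Q ⊔ ((P : Subgroup G) ⊓ Subgroup.centralizer (Q : Set G)) ∧ W ≠ Q ∧
      (∀ x ∈ W, ∀ y ∈ W, x * y * x⁻¹ * y⁻¹ ∈ Q) ∧
      (∀ m ∈ Subgroup.normalizer (Q : Set G),
        (∀ s ∈ Q ⊔ ((P : Subgroup G) ⊓ Subgroup.centralizer (Q : Set G)),
          m * s * m⁻¹ ∈ Q ⊔ ((P : Subgroup G) ⊓ Subgroup.centralizer (Q : Set G))) →
        ∀ w ∈ W, m * w * m⁻¹ ∈ W) ∧
      (∀ w ∈ W, ∀ k ∈ (P : Subgroup G) ⊔ Subgroup.centralizer (Q : Set G),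
        k * w * k⁻¹ ∈ (P : Subgroup G) → k * w * k⁻¹ ∈ W) := by
  obtain ⟨C, hC⟩ : ∃ C : Subgroup G, C = Subgroup.centralizer (Q : Set G) := ⟨_, rfl⟩
  obtain ⟨N, hN⟩ : ∃ N : Subgroup G, N = Subgroup.normalizer (Q : Set G) := ⟨_, rfl⟩
  have hCN : C ≤ N := by rw [hC, hN]; exact Subgroup.centralizer_le_normalizer (Q : Set G)
  have hPN : (P : Subgroup G) ≤ N := by rw [hN]; exact hQn
  have hGN : (P : Subgroup G) ⊔ C ≤ N := sup_le hPN hCN
  haveI hQ₁n : (Q.subgroupOf ((P : Subgroup G) ⊔ C)).Normal :=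
    Subgroup.normal_subgroupOf_of_le_normalizer (by rw [← hN]; exact hGN)
  haveI hQNn : (Q.subgroupOf N).Normal :=
    Subgroup.normal_subgroupOf_of_le_normalizer (by rw [hN])
  have hMst : IsNormalizerPStable p ↥((P : Subgroup G) ⊔ C) := Cfsg.Agent.S3836.result hst _
  have hQ₁p : IsPGroup p (Q.subgroupOf ((P : Subgroup G) ⊔ C)) :=
    (P.isPGroup'.to_le hQP).comap_subtype
  have hcent : ∀ y : ↥((P : Subgroup G) ⊔ C), (orderOf y).Coprime p →
      ∀ q ∈ Q.subgroupOf ((P : Subgroup G) ⊔ C), y * q = q * y := by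
    apply Helper24.p'_centralizes_of_sup_eq_top (P.subtype le_sup_left)
      (Q.subgroupOf ((P : Subgroup G) ⊔ C))
    rw [eq_top_iff, Sylow.coe_subtype]
    have h1 : (⊤ : Subgroup ↥((P : Subgroup G) ⊔ C)) =
        (P : Subgroup G).subgroupOf ((P : Subgroup G) ⊔ C) ⊔ C.subgroupOf ((P : Subgroup G) ⊔ C) := by
      rw [← Subgroup.subgroupOf_sup le_sup_left le_sup_right, Subgroup.subgroupOf_self]
    rw [h1]
    apply sup_le_sup_left
    intro c hc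
    rw [Subgroup.mem_centralizer_iff]
    intro q hq
    apply Subtype.ext
    rw [Subgroup.coe_mul, Subgroup.coe_mul]
    have hc' : (c : G) ∈ Subgroup.centralizer (Q : Set G) := by
      rw [← hC]; exact Subgroup.mem_subgroupOf.mp hc
    exact Subgroup.mem_centralizer_iff.mp hc' _ (Subgroup.mem_subgroupOf.mp hq)
  have hnps : IsNormalizerPStable p (↥((P : Subgroup G) ⊔ C) ⧸ Q.subgroupOf ((P : Subgroup G) ⊔ C)) :=
    Helper24.nps_quotient hp hMst (Q.subgroupOf ((P : Subgroup G) ⊔ C)) hQ₁p hcent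
  have hle : Q.subgroupOf ((P : Subgroup G) ⊔ C) ≤ (Q.subgroupOf N).comap (Subgroup.inclusion hGN) := by
    intro x hx; exact hx
  have hne : Q ⊔ ((P : Subgroup G) ⊓ C) ≠ Q := by
    intro h
    apply hnc
    rw [← hC]
    intro t ht
    rw [← h]; exact le_sup_right (α := Subgroup G) ht
  have hres := nps_lift_aux hp P Q (Q ⊔ ((P : Subgroup G) ⊓ C)) ((P : Subgroup G) ⊔ C) N le_sup_left
    (sup_le hQP inf_le_left) le_sup_left hGN
    (QuotientGroup.mk' (Q.subgroupOf ((P : Subgroup G) ⊔ C))) (QuotientGroup.mk'_surjective _)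
    (fun x => by rw [QuotientGroup.mk'_apply, QuotientGroup.eq_one_iff, Subgroup.mem_subgroupOf])
    (QuotientGroup.mk' (Q.subgroupOf N)) (QuotientGroup.mk'_surjective _)
    (fun x => by rw [QuotientGroup.mk'_apply, QuotientGroup.eq_one_iff, Subgroup.mem_subgroupOf])
    (QuotientGroup.map _ _ (Subgroup.inclusion hGN) hle) (fun x => rfl)
    hnps
    (fun e he k hk => by
      rw [hC] at he ⊢
      exact sup_inf_centralizer_closed _ Q hQP e he k (by rw [← hN]; exact hGN hk))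
    hne
  rw [hC, hN] at hres
  exact hres

end Cfsg.Agent.Helper87
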