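import Mathlib
import Cfsg.Agent.Helper87.NpsFusA
import Cfsg.Agent.Helper87.NpsFusB
import Cfsg.Agent.Helper87.NormalCrit
import Cfsg.Agent.Helper87.NormSys
import Cfsg.Agent.Helper84.FusionGroup2
import Cfsg.Agent.S5226

set_option autoImplicit false

/-! `p`-stable groups (normalizer form, `p` odd): the fusion system on a Sylow `p`-subgroup is constrained
(helper87). -/

namespace Cfsg.Agent.Helper87

open Cfsg Cfsg.FusionSystem

open scoped commutatorElement

universe u

/-- A subgroup normal in the fusion system of a `p`-stable group that does not contain its centralizer in `P`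
is properly contained in another subgroup normal in the fusion system. -/
theorem nps_exists_larger_normal {G : Type u} [Group G] [Finite G] {p : ℕ} [Fact p.Prime] (hp : p ≠ 2)
    (hst : IsNormalizerPStable p G) (P : Sylow p G) (Q : Subgroup G)
    (hQ : (groupFusionSystem (P : Subgroup G)).IsNormal Q)
    (hnc : ¬ (P : Subgroup G) ⊓ Subgroup.centralizer (Q : Set G) ≤ Q) :
    ∃ W : Subgroup G, (groupFusionSystem (P : Subgroup G)).IsNormal W ∧ Q ≤ W ∧ W ≠ Q := by
  classical
  have hS : IsPGroup p (P : Subgroup G) := P.isPGroup'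
  have hsat : (groupFusionSystem (P : Subgroup G)).IsSaturated p := Helper84.groupFS_saturated P
  obtain ⟨F, hFdef⟩ : ∃ F : FusionSystem (P : Subgroup G), F = groupFusionSystem (P : Subgroup G) :=
    ⟨_, rfl⟩
  rw [← hFdef] at hQ hsat ⊢
  have hQsc := stronglyClosed_of_isNormal F hQ
  have hQP : Q ≤ (P : Subgroup G) := hQ.1
  have hQn : (P : Subgroup G) ≤ Subgroup.normalizer (Q : Set G) := by
    intro x hx
    exact mem_normalizer_of_conj_mem_finite Q x (fun q hq => stronglyClosed_conj_mem F hQsc hx hq)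
  obtain ⟨W, hQW, hWE, hWne, hWcomm, hWinv, hWcl⟩ := nps_centric_aux hp hst P Q hQP hQn hnc
  have hWP : W ≤ (P : Subgroup G) := hWE.trans (sup_le hQP inf_le_left)
  refine ⟨W, ?_, hQW, hWne⟩
  have hWsc : F.StronglyClosed W := by
    refine ⟨hWP, fun R hRW φ hφ x => ?_⟩
    obtain ⟨ψ, hψ, hψ1, hψ2⟩ := hQ.2 R φ hφ
    rw [hFdef] at hψ
    obtain ⟨hle, hψP, n, hn⟩ := hψ
    have hnN : n ∈ Subgroup.normalizer (Q : Set G) := by
      apply mem_normalizer_of_conj_mem_finite
      intro q hq
      have := map_subgroupOf_mem hψ2 ⟨q, (le_sup_right : Q ≤ R ⊔ Q) hq⟩ hq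
      rwa [hn] at this
    obtain ⟨c, hc, hcE⟩ := nps_frattini_aux P Q hQP hQn n hnN
    have hr : φ x = n * (x : G) * n⁻¹ := by rw [← hψ1 x, hn]; rfl
    have hm : c * n ∈ Subgroup.normalizer (Q : Set G) :=
      mul_mem (Subgroup.centralizer_le_normalizer (Q : Set G) hc) hnN
    have h1 := hWinv (c * n) hm hcE (x : G) (hRW x.2)
    have e : c⁻¹ * (c * n * (x : G) * (c * n)⁻¹) * c⁻¹⁻¹ = n * (x : G) * n⁻¹ := by group
    have h2 := hWcl _ h1 c⁻¹ (le_sup_right (α := Subgroup G) (inv_mem hc))
      (by rw [e, ← hr]; exact hom_mem F hφ x)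
    rw [hr, ← e]
    exact h2
  obtain ⟨-, n, Cs, hC0, hClast, hCmono, hCcomm, hCwc⟩ :=
    (Cfsg.Agent.S5226.result p hS F hsat Q).mp hQ
  apply (Cfsg.Agent.S5226.result p hS F hsat W).mpr
  refine ⟨hWsc, n + 1, (Fin.snoc Cs W : Fin (n + 1 + 1) → Subgroup G), ?_, ?_, ?_, ?_, ?_⟩
  · rw [← Fin.castSucc_zero, Fin.snoc_castSucc]; exact hC0
  · exact Fin.snoc_last _ _
  · rw [Fin.monotone_iff_le_succ]
    intro i
    rw [Fin.snoc_castSucc]
    induction i using Fin.lastCases with
    | last => rw [Fin.succ_last, Fin.snoc_last, hClast]; exact hQW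
    | cast j => rw [Fin.succ_castSucc, Fin.snoc_castSucc]; exact hCmono (Fin.castSucc_le_succ j)
  · intro i
    rw [Fin.snoc_castSucc]
    induction i using Fin.lastCases with
    | last =>
      rw [Fin.succ_last, Fin.snoc_last, hClast, Subgroup.commutator_le]
      intro x hx y hy
      rw [commutatorElement_def]
      exact hWcomm x hx y hy
    | cast j =>
      rw [Fin.succ_castSucc, Fin.snoc_castSucc]
      refine le_trans ?_ (hCcomm j)
      rw [Subgroup.commutator_le]
      intro c hc w hw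
      have hcQ : c ∈ Q := by rw [← hClast]; exact hCmono (Fin.le_last _) hc
      obtain ⟨q, hq, t, ht, rfl⟩ := (mem_sup_inf_centralizer _ Q w).mp (hWE hw)
      have h1 : c⁻¹ * t = t * c⁻¹ := Subgroup.mem_centralizer_iff.mp ht.2 _ (Q.inv_mem hcQ)
      have e : ⁅c, q * t⁆ = ⁅c, q⁆ := by
        rw [commutatorElement_def, commutatorElement_def]
        calc c * (q * t) * c⁻¹ * (q * t)⁻¹ = c * q * (t * c⁻¹) * t⁻¹ * q⁻¹ := by group
          _ = c * q * (c⁻¹ * t) * t⁻¹ * q⁻¹ := by rw [h1]
          _ = c * q * c⁻¹ * q⁻¹ := by group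
      rw [e]
      exact Subgroup.commutator_mem_commutator hc hq
  · intro i
    rw [Fin.snoc_castSucc]
    induction i using Fin.lastCases with
    | last =>
      rw [hClast]
      exact ⟨hQP, fun φ hφ => range_eq_of_forall_mem F hφ (fun x => hQsc.2 Q le_rfl φ hφ x)⟩
    | cast j => exact hCwc j

/-- The fusion system of a group that is `p`-stable in the normalizer form (`p` odd) on a Sylow `p`-subgroup is
constrained. -/
theorem nps_isConstrained {G : Type u} [Group G] [Finite G] {p : ℕ} [Fact p.Prime] (hp : p ≠ 2)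
    (hst : IsNormalizerPStable p G) (P : Sylow p G) :
    (groupFusionSystem (P : Subgroup G)).IsConstrained p := by
  classical
  refine ⟨Helper84.groupFS_saturated P, ?_⟩
  have h0 := nps_zj_isNormal hp hst P
  obtain ⟨Q, -, hQmax⟩ := (Set.toFinite
    {X : Subgroup G | (groupFusionSystem (P : Subgroup G)).IsNormal X}).exists_le_maximal h0
  have hQ : (groupFusionSystem (P : Subgroup G)).IsNormal Q := hQmax.1
  have hcen : (P : Subgroup G) ⊓ Subgroup.centralizer (Q : Set G) ≤ Q := by
    by_contra hnc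
    obtain ⟨W, hW, hQW, hne⟩ := nps_exists_larger_normal hp hst P Q hQ hnc
    exact hne (le_antisymm (hQmax.2 hW hQW) hQW)
  refine ⟨Q, hQ, hQ.1, ?_⟩
  rintro Q' ⟨φ, hφ, rfl⟩
  have hsc := stronglyClosed_of_isNormal _ hQ
  have hr : φ.range = Q := range_eq_of_forall_mem _ hφ (fun x => hsc.2 Q le_rfl φ hφ x)
  rw [hr]
  exact hcen

end Cfsg.Agent.Helper87
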