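import Cfsg.Agent.Helper87.P15INV

/-!
CALL P15 (helper62), piece ANY (helper87): complements of `Q` in `L` are `Q`-conjugate.
-/

set_option autoImplicit false

namespace Cfsg.Agent.Helper87

open Cfsg Subgroup Cfsg.Agent.Helper62
open scoped Pointwise

universe u

section Amb

variable {G : Type u} [Group G] [Finite G]

variable {M L Q K Z : Subgroup G} {q : ℕ}

/-- ANY -/
theorem p15_any (h : P15 M L Q K Z q) (D₁ D : Subgroup G) (hD₁ : IsComplIn Q D₁ L)
    (hD : IsComplIn Q D L) : ∃ y ∈ Q, ∀ x, x ∈ D ↔ y⁻¹ * x * y ∈ D₁ := by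
  obtain ⟨y, hy, hyD⟩ := p15_inv_trans h.hq (h.hLM.trans h.hQn) h.hQq h.hidx hD₁ hD
  refine ⟨y, hy, fun x => ?_⟩
  rw [← hyD, Cfsg.Agent.Helper35.mem_conj_smul]

end Amb

end Cfsg.Agent.Helper87
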