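import Cfsg.Agent.Helper62.P15Defs
import Cfsg.Agent.Helper35.SZ
import Cfsg.Prelude.Def_Transfer

/-!
CALL P15 (helper62), piece BETAP (helper87): `L` has no normal `q`-complement.
-/

set_option autoImplicit false

namespace Cfsg.Agent.Helper87

open Cfsg Subgroup Cfsg.Agent.Helper62

universe u

section Amb

variable {G : Type u} [Group G] [Finite G]

variable {M L Q K Z : Subgroup G} {q : ℕ}

/-- BETAP -/
theorem p15_no_npc (h : P15 M L Q K Z q)
    (hmain : ∀ D : Subgroup G, IsComplIn Q D L → Q ⊓ centralizer (D : Set G) < Q)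
    (hnpc : Cfsg.HasNormalPComplement q ↥L) : False := by
  have hq := h.hq
  have hfact : Fact q.Prime := ⟨hq⟩
  have hLQ : L ≤ normalizer (Q : Set G) := h.hLM.trans h.hQn
  obtain ⟨P, N, hNn, hNP⟩ := hnpc
  have hQ'q : IsPGroup q (Q.subgroupOf L) := h.hQq.comap_subtype
  have hidx' : ¬ q ∣ (Q.subgroupOf L).index := h.hidx
  have hQ'n : (Q.subgroupOf L).Normal := Subgroup.normal_subgroupOf_of_le_normalizer hLQ
  let S : Sylow q ↥L := hQ'q.toSylow hidx'
  have hS : (S : Subgroup ↥L) = Q.subgroupOf L := IsPGroup.toSylow_coe _ _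
  have hSn : (S : Subgroup ↥L).Normal := by
    rw [hS]
    exact hQ'n
  obtain ⟨g, hg⟩ := MulAction.exists_smul_eq ↥L S P
  have hPS : P = S := by
    rw [← hg]
    exact Sylow.smul_eq_of_normal
  have hPQ : (P : Subgroup ↥L) = Q.subgroupOf L := by rw [hPS, hS]
  rw [hPQ] at hNP
  have hdisj : Q.subgroupOf L ⊓ N = ⊥ := by
    rw [inf_comm]
    exact disjoint_iff.mp hNP.disjoint
  have hDL : N.map L.subtype ≤ L := by
    intro x hx
    obtain ⟨y, -, rfl⟩ := mem_map.mp hx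
    exact y.2
  have hinf : Q ⊓ N.map L.subtype = ⊥ := by
    rw [eq_bot_iff]
    intro x hx
    obtain ⟨hxQ, hxD⟩ := mem_inf.mp hx
    obtain ⟨y, hy, rfl⟩ := mem_map.mp hxD
    have hy1 : y ∈ Q.subgroupOf L ⊓ N := mem_inf.mpr ⟨mem_subgroupOf.mpr hxQ, hy⟩
    rw [hdisj, mem_bot] at hy1
    rw [mem_bot, hy1]
    rfl
  have hcompl : IsComplIn Q (N.map L.subtype) L := by
    refine ⟨h.hQL, hDL, hinf, ?_⟩
    intro m hm
    obtain ⟨a, ha, b, hb, hab⟩ :=
      Cfsg.Agent.Helper35.exists_mul_of_isComplement' hNP.symm ⟨m, hm⟩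
    refine ⟨(a : G), mem_subgroupOf.mp ha, (b : G), mem_map_of_mem _ hb, ?_⟩
    have h0 := congrArg Subtype.val hab
    simpa using h0
  have hcent : Q ≤ centralizer ((N.map L.subtype : Subgroup G) : Set G) := by
    intro a ha
    rw [mem_centralizer_iff]
    intro d hd
    obtain ⟨y, hy, rfl⟩ := mem_map.mp hd
    have haL : a ∈ L := h.hQL ha
    have hc1 : a * (y : G) * a⁻¹ * (y : G)⁻¹ ∈ Q := by
      have hyn := hLQ y.2
      rw [Subgroup.mem_normalizer_iff] at hyn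
      have h1 : (y : G) * a⁻¹ * (y : G)⁻¹ ∈ Q := (hyn a⁻¹).mp (Q.inv_mem ha)
      have h2 : a * (y : G) * a⁻¹ * (y : G)⁻¹ = a * ((y : G) * a⁻¹ * (y : G)⁻¹) := by group
      rw [h2]
      exact Q.mul_mem ha h1
    have hc2 : a * (y : G) * a⁻¹ * (y : G)⁻¹ ∈ N.map L.subtype := by
      have h1 : (⟨a, haL⟩ : ↥L) * y * (⟨a, haL⟩ : ↥L)⁻¹ ∈ N := hNn.conj_mem y hy ⟨a, haL⟩
      have h2 : (⟨a, haL⟩ : ↥L) * y * (⟨a, haL⟩ : ↥L)⁻¹ * y⁻¹ ∈ N :=
        N.mul_mem h1 (N.inv_mem hy)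
      have h3 := mem_map_of_mem L.subtype h2
      simpa using h3
    have hc : a * (y : G) * a⁻¹ * (y : G)⁻¹ ∈ Q ⊓ N.map L.subtype := mem_inf.mpr ⟨hc1, hc2⟩
    rw [hinf, mem_bot] at hc
    have h6 : a * (y : G) = (y : G) * a := by
      have h5 : a * (y : G) = (a * (y : G) * a⁻¹ * (y : G)⁻¹) * ((y : G) * a) := by group
      rw [h5, hc, one_mul]
    exact h6.symm
  have hlt := hmain _ hcompl
  rw [inf_eq_left.mpr hcent] at hlt
  exact lt_irrefl _ hlt

end Amb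

end Cfsg.Agent.Helper87
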