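import Cfsg.Agent.Helper62.P15Defs
import Cfsg.Agent.Helper55.BGFpf

/-!
CALL P15 (helper62), piece CPHI (helper87): if `Z ⊓ Φ(Q) = ⊥` then `D₁` centralizes `Φ(Q)`.
-/

set_option autoImplicit false

namespace Cfsg.Agent.Helper87

open Cfsg Subgroup Cfsg.Agent.Helper62

universe u

section Amb

variable {G : Type u} [Group G] [Finite G]

variable {M L Q K Z : Subgroup G} {q : ℕ}

/-- CPHI -/
theorem p15_cent_phi (h : P15 M L Q K Z q) (D₁ : Subgroup G) (hD : IsComplIn Q D₁ L)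
    (hΦn : M ≤ normalizer ((p15Phi Q : Subgroup G) : Set G)) (hΦQ : p15Phi Q ≤ Q)
    (hKD : K ≤ normalizer (D₁ : Set G))
    (hfpf : ∀ k ∈ K, k ≠ 1 → D₁ ⊓ centralizer ({k} : Set G) = ⊥)
    (hDq : (Nat.card D₁).Coprime q) (hZΦ : Z ⊓ p15Phi Q = ⊥) :
    p15Phi Q ≤ centralizer (D₁ : Set G) := by
  have hq := h.hq
  have hfact : Fact q.Prime := ⟨hq⟩
  have hKcard : Nat.card K ≠ 1 := by
    intro h1
    exact h.hK1 (Subgroup.card_eq_one.mp h1)
  obtain ⟨p, hp, hpK⟩ := Nat.exists_prime_and_dvd hKcard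
  have hpf : Fact p.Prime := ⟨hp⟩
  obtain ⟨k, hk⟩ := exists_prime_orderOf_dvd_card' p hpK
  have hkK : (k : G) ∈ K := k.2
  have hk1 : (k : G) ≠ 1 := by
    intro h1
    have h2 : k = 1 := Subtype.ext h1
    rw [h2, orderOf_one] at hk
    exact hp.one_lt.ne' hk.symm
  have hkp : (k : G) ^ p = 1 := by
    have h1 := pow_orderOf_eq_one k
    rw [hk] at h1
    have h2 := congrArg Subtype.val h1
    simpa using h2
  have hΦq : IsPGroup q (p15Phi Q) := h.hQq.to_le hΦQ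
  have hΦnil : Group.IsNilpotent ↥(p15Phi Q) := hΦq.isNilpotent
  obtain ⟨n, hn⟩ := IsPGroup.iff_card.mp hΦq
  have hΦL : p15Phi Q ≤ L := hΦQ.trans h.hQL
  have hD₁L : D₁ ≤ L := hD.2.1
  have hpL : ¬ p ∣ Nat.card L := by
    intro hpL
    have h1 := Nat.dvd_gcd hpK hpL
    rw [Nat.Coprime.gcd_eq_one h.hcop] at h1
    exact hp.one_lt.ne' (Nat.dvd_one.mp h1)
  have hpΦ : ¬ p ∣ Nat.card (p15Phi Q) :=
    fun hd => hpL (hd.trans (Subgroup.card_dvd_of_le hΦL))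
  have hpD : ¬ p ∣ Nat.card D₁ := fun hd => hpL (hd.trans (Subgroup.card_dvd_of_le hD₁L))
  have hcop : (Nat.card (p15Phi Q)).Coprime (Nat.card D₁) := by
    rw [hn]
    exact (Nat.Coprime.pow_right n hDq).symm
  have hfix : ∀ a ∈ p15Phi Q, (k : G) * a = a * k → a = 1 := by
    intro a ha hka
    have haZ : a ∈ L ⊓ centralizer ({(k : G)} : Set G) := by
      refine mem_inf.mpr ⟨hΦL ha, ?_⟩
      rw [mem_centralizer_iff]
      intro x hx
      rw [Set.mem_singleton_iff] at hx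
      subst hx
      exact hka
    rw [h.hpr k hkK hk1] at haZ
    have h3 : a ∈ Z ⊓ p15Phi Q := mem_inf.mpr ⟨haZ, ha⟩
    rwa [hZΦ, mem_bot] at h3
  have hcomm := Cfsg.Agent.Helper55.bg_fpf_comm_centralizes h.odd hp (p15Phi Q) D₁ (k : G)
    hΦnil (hD₁L.trans (h.hLM.trans hΦn)) (hΦn (h.hKM hkK)) (hKD hkK) hkp hpΦ hpD hcop hfix
  have hkD : ∀ y ∈ D₁, (k : G) * y * (k : G)⁻¹ * y⁻¹ ∈ D₁ := by
    intro y hy
    have hkn := hKD hkK
    rw [Subgroup.mem_normalizer_iff] at hkn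
    exact D₁.mul_mem ((hkn y).mp hy) (D₁.inv_mem hy)
  let f : ↥D₁ → ↥D₁ := fun y => ⟨(k : G) * y * (k : G)⁻¹ * (y : G)⁻¹, hkD y y.2⟩
  have hf : Function.Injective f := by
    intro y y' hyy
    have h1 : (k : G) * y * (k : G)⁻¹ * (y : G)⁻¹ = (k : G) * y' * (k : G)⁻¹ * (y' : G)⁻¹ :=
      congrArg Subtype.val hyy
    have h2 : (y' : G)⁻¹ * y ∈ D₁ ⊓ centralizer ({(k : G)} : Set G) := by
      refine mem_inf.mpr ⟨D₁.mul_mem (D₁.inv_mem y'.2) y.2, ?_⟩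
      rw [mem_centralizer_iff]
      intro x hx
      rw [Set.mem_singleton_iff] at hx
      subst hx
      have h3 : (y : G) * (k : G)⁻¹ * (y : G)⁻¹ = (y' : G) * (k : G)⁻¹ * (y' : G)⁻¹ := by
        have h4 := congrArg (fun t => (k : G)⁻¹ * t) h1
        simpa [mul_assoc] using h4
      calc (k : G) * ((y' : G)⁻¹ * y)
          = (k : G) * ((y' : G)⁻¹ * ((y : G) * (k : G)⁻¹ * (y : G)⁻¹) * y * k) := by group
        _ = (k : G) * ((y' : G)⁻¹ * ((y' : G) * (k : G)⁻¹ * (y' : G)⁻¹) * y * k) := by rw [h3]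
        _ = (y' : G)⁻¹ * y * k := by group
    rw [hfpf k hkK hk1, mem_bot] at h2
    exact Subtype.ext (inv_mul_eq_one.mp h2).symm
  have hsurj : Function.Surjective f := Finite.injective_iff_surjective.mp hf
  intro a ha
  rw [mem_centralizer_iff]
  intro d hd
  obtain ⟨y, hy⟩ := hsurj ⟨d, hd⟩
  have h1 : (k : G) * y * (k : G)⁻¹ * (y : G)⁻¹ = d := congrArg Subtype.val hy
  rw [← h1]
  exact hcomm y y.2 a ha

end Amb

end Cfsg.Agent.Helper87
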