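import Cfsg.Agent.Helper87.P15INV

/-!
CALL P15 (helper62), piece D1 (helper87): basic facts on a complement `D₁` of `Q` in `L`.
-/

set_option autoImplicit false

namespace Cfsg.Agent.Helper87

open Cfsg Subgroup Cfsg.Agent.Helper62

universe u

section Amb

variable {G : Type u} [Group G] [Finite G]

variable {M L Q K Z : Subgroup G} {q : ℕ}

/-- The order of a complement of `Q` in `L` is the index of `Q` in `L`. -/
theorem p15_inv_card_eq_relIndex {Q D L : Subgroup G} (hQn : L ≤ normalizer (Q : Set G))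
    (hD : IsComplIn Q D L) : Nat.card D = Q.relIndex L := by
  have hc1 := p15_inv_card hQn hD
  have hQpos : 0 < Nat.card Q := Nat.card_pos
  have hc3 : Nat.card Q * Q.relIndex L = Nat.card L := by
    have h1 := relIndex_mul_relIndex (⊥ : Subgroup G) Q L bot_le hD.1
    rwa [relIndex_bot_left, relIndex_bot_left] at h1
  exact Nat.eq_of_mul_eq_mul_left hQpos (hc1.trans hc3.symm)

/-- D1 -/
theorem p15_D1 (h : P15 M L Q K Z q) (hZQ : Z ≤ Q) (D₁ : Subgroup G) (hD : IsComplIn Q D₁ L) :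
    D₁ ≠ ⊥ ∧ (Nat.card D₁).Coprime q ∧ (Nat.card D₁).Coprime (Nat.card K) ∧
      ∀ k ∈ K, k ≠ 1 → D₁ ⊓ centralizer ({k} : Set G) = ⊥ := by
  have hq := h.hq
  have hfact : Fact q.Prime := ⟨hq⟩
  have hLQ : L ≤ normalizer (Q : Set G) := h.hLM.trans h.hQn
  have hsup := p15_inv_sup hD
  have hDrel := p15_inv_card_eq_relIndex hLQ hD
  refine ⟨?_, ?_, ?_, ?_⟩
  · intro hbot
    rw [hbot, sup_bot_eq] at hsup
    apply h.hnn
    rw [← hsup]
    exact h.hQq.isNilpotent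
  · rw [hDrel]
    exact ((Nat.Prime.coprime_iff_not_dvd hq).mpr h.hidx).symm
  · exact Nat.Coprime.coprime_dvd_left (Subgroup.card_dvd_of_le hD.2.1) h.hcop.symm
  · intro k hk hk1
    rw [eq_bot_iff]
    intro x hx
    obtain ⟨hxD, hxC⟩ := mem_inf.mp hx
    have hxZ : x ∈ L ⊓ centralizer ({k} : Set G) := mem_inf.mpr ⟨hD.2.1 hxD, hxC⟩
    rw [h.hpr k hk hk1] at hxZ
    have h3 : x ∈ Q ⊓ D₁ := mem_inf.mpr ⟨hZQ hxZ, hxD⟩
    rwa [hD.2.2.1] at h3

end Amb

end Cfsg.Agent.Helper87
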