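import Cfsg.Agent.Helper62.P15Defs
import Cfsg.Agent.Helper25.BG15T1

/-!
CALL P15 (helper62), piece D1N (helper87): `D₁` is nilpotent (Thompson).
-/

set_option autoImplicit false

namespace Cfsg.Agent.Helper87

open Cfsg Subgroup Cfsg.Agent.Helper62

universe u

section Amb

variable {G : Type u} [Group G] [Finite G]

/-- D1N -/
theorem p15_D1_nilpotent (D₁ K : Subgroup G) (hK1 : K ≠ ⊥) (hKD : K ≤ normalizer (D₁ : Set G))
    (hfpf : ∀ k ∈ K, k ≠ 1 → D₁ ⊓ centralizer ({k} : Set G) = ⊥) :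
    Group.IsNilpotent ↥D₁ := by
  have hKcard : Nat.card K ≠ 1 := fun h1 => hK1 (Subgroup.card_eq_one.mp h1)
  obtain ⟨p, hp, hpK⟩ := Nat.exists_prime_and_dvd hKcard
  have hpf : Fact p.Prime := ⟨hp⟩
  obtain ⟨k, hk⟩ := exists_prime_orderOf_dvd_card' p hpK
  have hkK : (k : G) ∈ K := k.2
  have hk1 : (k : G) ≠ 1 := by
    intro h1
    have h2 : k = 1 := Subtype.ext h1
    rw [h2, orderOf_one] at hk
    exact hp.one_lt.ne' hk.symm
  have hkp : (k : G) ^ p = 1 := by
    have h1 := pow_orderOf_eq_one k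
    rw [hk] at h1
    have h2 := congrArg Subtype.val h1
    simpa using h2
  refine Cfsg.Agent.Helper25.bg15_fpf_nilpotent D₁ hp (hKD hkK) hkp ?_
  intro a ha hka
  have h3 : a ∈ D₁ ⊓ centralizer ({(k : G)} : Set G) := by
    refine mem_inf.mpr ⟨ha, ?_⟩
    rw [mem_centralizer_iff]
    intro x hx
    rw [Set.mem_singleton_iff] at hx
    subst hx
    exact hka
  rwa [hfpf k hkK hk1, mem_bot] at h3

end Amb

end Cfsg.Agent.Helper87
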