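import Cfsg.Agent.Helper62.P15Defs
import Cfsg.Agent.Helper35.Coprime
import Cfsg.Agent.Helper35.CoprimeSylow
import Cfsg.Agent.Helper35.HallCoprime

/-!
CALL P15 (helper62), piece INV (helper87): a `K`-invariant complement of `Q` in `L`
(Schur–Zassenhaus + Glauberman), with reusable lemmas on `IsComplIn`.
-/

set_option autoImplicit false

namespace Cfsg.Agent.Helper87

open Cfsg Subgroup Cfsg.Agent.Helper62
open scoped Pointwise

universe u

section Amb

variable {G : Type u} [Group G] [Finite G]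

omit [Finite G] in
/-- A complement of `Q` in `L` generates `L` together with `Q`. -/
theorem p15_inv_sup {Q D L : Subgroup G} (hD : IsComplIn Q D L) : Q ⊔ D = L := by
  obtain ⟨hQL, hDL, -, hprod⟩ := hD
  apply le_antisymm (sup_le hQL hDL)
  intro m hm
  obtain ⟨a, ha, b, hb, rfl⟩ := hprod m hm
  exact mul_mem (mem_sup_left ha) (mem_sup_right hb)

omit [Finite G] in
/-- `|Q| |D| = |L|` for a complement `D` of `Q` in `L` (`Q` normalized by `L`). -/
theorem p15_inv_card {Q D L : Subgroup G} (hQn : L ≤ normalizer (Q : Set G))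
    (hD : IsComplIn Q D L) : Nat.card Q * Nat.card D = Nat.card L := by
  have hsup := p15_inv_sup hD
  obtain ⟨hQL, hDL, hinf, -⟩ := hD
  have h1 := Cfsg.Agent.Helper35.card_sup_of_le_normalizer (hDL.trans hQn) hinf
  rw [hsup] at h1
  exact h1.symm

omit [Finite G] in
/-- Conjugates of complements by elements normalizing `Q` and `L` are complements. -/
theorem p15_inv_conj {Q D L : Subgroup G} (g : G) (hgQ : g ∈ normalizer (Q : Set G))
    (hgL : g ∈ normalizer (L : Set G)) (hD : IsComplIn Q D L) :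
    IsComplIn Q (MulAut.conj g • D) L := by
  obtain ⟨hQL, hDL, hinf, hprod⟩ := hD
  have hgQ' : g⁻¹ ∈ normalizer (Q : Set G) := inv_mem hgQ
  have hgL' : g⁻¹ ∈ normalizer (L : Set G) := inv_mem hgL
  rw [Subgroup.mem_normalizer_iff] at hgQ hgL hgQ' hgL'
  refine ⟨hQL, ?_, ?_, ?_⟩
  · intro x hx
    rw [Cfsg.Agent.Helper35.mem_conj_smul] at hx
    have h1 : g * (g⁻¹ * x * g) * g⁻¹ ∈ L := (hgL _).mp (hDL hx)
    have h2 : g * (g⁻¹ * x * g) * g⁻¹ = x := by group
    rwa [h2] at h1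
  · rw [eq_bot_iff]
    intro x hx
    obtain ⟨hxQ, hxD⟩ := mem_inf.mp hx
    rw [Cfsg.Agent.Helper35.mem_conj_smul] at hxD
    have h1 : g⁻¹ * x * g⁻¹⁻¹ ∈ Q := (hgQ' x).mp hxQ
    rw [inv_inv] at h1
    have h2 : g⁻¹ * x * g ∈ Q ⊓ D := mem_inf.mpr ⟨h1, hxD⟩
    rw [hinf, mem_bot] at h2
    rw [mem_bot]
    have h3 : x = g * (g⁻¹ * x * g) * g⁻¹ := by group
    rw [h3, h2]
    group
  · intro m hm
    have h1 : g⁻¹ * m * g⁻¹⁻¹ ∈ L := (hgL' m).mp hm
    rw [inv_inv] at h1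
    obtain ⟨a, ha, b, hb, hab⟩ := hprod _ h1
    refine ⟨g * a * g⁻¹, (hgQ a).mp ha, g * b * g⁻¹,
      Cfsg.Agent.Helper35.conj_mem_conj_smul hb, ?_⟩
    have h3 : m = g * (g⁻¹ * m * g) * g⁻¹ := by group
    rw [h3, hab]
    group

/-- Schur–Zassenhaus existence for a normal Sylow subgroup `Q` of `L`. -/
theorem p15_inv_exists {Q L : Subgroup G} {q : ℕ} (hq : q.Prime) (hQL : Q ≤ L)
    (hQn : L ≤ normalizer (Q : Set G)) (hQq : IsPGroup q Q) (hidx : ¬ q ∣ Q.relIndex L) :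
    ∃ D : Subgroup G, IsComplIn Q D L := by
  have hfact : Fact q.Prime := ⟨hq⟩
  have hNn : (Q.subgroupOf L).Normal := Subgroup.normal_subgroupOf_of_le_normalizer hQn
  obtain ⟨n, hn⟩ := IsPGroup.iff_card.mp hQq
  have hcop : (Nat.card (Q.subgroupOf L)).Coprime (Q.subgroupOf L).index := by
    rw [Cfsg.Agent.Helper35.card_subgroupOf_of_le hQL, hn]
    exact Nat.Coprime.pow_left n ((Nat.Prime.coprime_iff_not_dvd hq).mpr hidx)
  obtain ⟨H, hH⟩ := Subgroup.exists_right_complement'_of_coprime hcop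
  refine ⟨H.map L.subtype, hQL, ?_, ?_, ?_⟩
  · intro x hx
    obtain ⟨y, -, rfl⟩ := mem_map.mp hx
    exact y.2
  · rw [eq_bot_iff]
    intro x hx
    obtain ⟨hxQ, hxD⟩ := mem_inf.mp hx
    obtain ⟨y, hy, rfl⟩ := mem_map.mp hxD
    have hyN : y ∈ Q.subgroupOf L := mem_subgroupOf.mpr hxQ
    have hy1 : y ∈ (Q.subgroupOf L) ⊓ H := mem_inf.mpr ⟨hyN, hy⟩
    rw [disjoint_iff.mp hH.disjoint, mem_bot] at hy1
    rw [mem_bot, hy1]
    rfl
  · intro m hm
    obtain ⟨n', hn', x, hx, hmx⟩ :=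
      Cfsg.Agent.Helper35.exists_mul_of_isComplement' hH ⟨m, hm⟩
    refine ⟨(n' : G), mem_subgroupOf.mp hn', (x : G), mem_map_of_mem _ hx, ?_⟩
    have h0 := congrArg Subtype.val hmx
    simpa using h0

/-- Schur–Zassenhaus conjugacy for complements of a normal Sylow subgroup `Q` of `L`
(`L` solvable is not needed: `Q` is). -/
theorem p15_inv_trans {Q L D D' : Subgroup G} {q : ℕ} (hq : q.Prime)
    (hQn : L ≤ normalizer (Q : Set G)) (hQq : IsPGroup q Q) (hidx : ¬ q ∣ Q.relIndex L)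
    (hD : IsComplIn Q D L) (hD' : IsComplIn Q D' L) :
    ∃ y ∈ Q, MulAut.conj y • D = D' := by
  have hfact : Fact q.Prime := ⟨hq⟩
  have hQL : Q ≤ L := hD.1
  obtain ⟨n, hn⟩ := IsPGroup.iff_card.mp hQq
  have hc1 := p15_inv_card hQn hD
  have hc2 := p15_inv_card hQn hD'
  have hQpos : 0 < Nat.card Q := Nat.card_pos
  have hc3 : Nat.card Q * Q.relIndex L = Nat.card L := by
    have h1 := relIndex_mul_relIndex (⊥ : Subgroup G) Q L bot_le hQL
    rwa [relIndex_bot_left, relIndex_bot_left] at h1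
  have hDrel : Nat.card D = Q.relIndex L :=
    Nat.eq_of_mul_eq_mul_left hQpos (hc1.trans hc3.symm)
  have hcard : Nat.card D' = Nat.card D :=
    Nat.eq_of_mul_eq_mul_left hQpos (hc2.trans hc1.symm)
  have hcop : (Nat.card D).Coprime (Nat.card Q) := by
    rw [hDrel, hn]
    exact (Nat.Coprime.pow_left n ((Nat.Prime.coprime_iff_not_dvd hq).mpr hidx)).symm
  have hsolv : Group.IsSolvable D ∨ Group.IsSolvable Q := by
    right
    have hnil := hQq.isNilpotent
    infer_instance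
  have hB : D' ≤ Q ⊔ D := by
    rw [p15_inv_sup hD]
    exact hD'.2.1
  exact Cfsg.Agent.Helper35.isz (hD.2.1.trans hQn) hcop hsolv hB hcard

/-- INV -/
theorem p15_exists_inv {M L Q K Z : Subgroup G} {q : ℕ} (h : P15 M L Q K Z q) :
    ∃ D₁ : Subgroup G, IsComplIn Q D₁ L ∧ K ≤ normalizer (D₁ : Set G) := by
  have hLQ : L ≤ normalizer (Q : Set G) := h.hLM.trans h.hQn
  have hKL : K ≤ normalizer (L : Set G) := h.hKM.trans h.hLn
  have hsolv : Group.IsSolvable K ∨ Group.IsSolvable L :=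
    Or.inr (Cfsg.Agent.Helper35.isSolvable_of_le h.hLM h.solv)
  have hS : ({D : Subgroup G | IsComplIn Q D L} : Set (Subgroup G)).Nonempty :=
    p15_inv_exists h.hq h.hQL hLQ h.hQq h.hidx
  obtain ⟨D₁, hD₁, hK⟩ := Cfsg.Agent.Helper35.glauberman_subgroup hKL h.hcop hsolv hS
    (fun a ha P hP => p15_inv_conj a (h.hQn (h.hKM ha)) (hKL ha) hP)
    (fun l hl P hP => p15_inv_conj l (hLQ hl) (le_normalizer hl) hP)
    (fun P hP P' hP' => by
      obtain ⟨y, hy, hyP⟩ := p15_inv_trans h.hq hLQ h.hQq h.hidx hP hP'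
      exact ⟨y, h.hQL hy, hyP⟩)
  exact ⟨D₁, hD₁, hK⟩

end Amb

end Cfsg.Agent.Helper87
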