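import Cfsg.Agent.Helper62.P15Defs

/-!
CALL P15 (helper62), piece NC (helper87): `D₁` does not centralize `Q`.
-/

set_option autoImplicit false

namespace Cfsg.Agent.Helper87

open Cfsg Subgroup Cfsg.Agent.Helper62

universe u

section Amb

variable {G : Type u} [Group G] [Finite G]

variable {M L Q K Z : Subgroup G} {q : ℕ}

omit [Finite G] in
/-- A product `L = A B` of two elementwise commuting nilpotent subgroups is nilpotent. -/
theorem p15_nc_nilpotent_of_commute {A B L : Subgroup G} (hAL : A ≤ L) (hBL : B ≤ L)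
    (hprod : ∀ m ∈ L, ∃ a ∈ A, ∃ b ∈ B, m = a * b) (hcent : A ≤ centralizer (B : Set G))
    (hA : Group.IsNilpotent ↥A) (hB : Group.IsNilpotent ↥B) : Group.IsNilpotent ↥L := by
  have hcomm : ∀ (a : ↥A) (b : ↥B),
      Commute (Subgroup.inclusion hAL a) (Subgroup.inclusion hBL b) := by
    intro a b
    have h1 := mem_centralizer_iff.mp (hcent a.2) b b.2
    exact Subtype.ext h1.symm
  let f : ↥A × ↥B →* ↥L :=
    MonoidHom.noncommCoprod (Subgroup.inclusion hAL) (Subgroup.inclusion hBL) hcomm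
  have hf : Function.Surjective f := by
    intro l
    obtain ⟨a, ha, b, hb, hab⟩ := hprod l l.2
    refine ⟨(⟨a, ha⟩, ⟨b, hb⟩), ?_⟩
    apply Subtype.ext
    rw [MonoidHom.noncommCoprod_apply]
    exact hab.symm
  exact Group.nilpotent_of_surjective f hf

/-- NC -/
theorem p15_not_cent (h : P15 M L Q K Z q) (D₁ : Subgroup G) (hD : IsComplIn Q D₁ L)
    (hnil : Group.IsNilpotent ↥D₁) : ¬ Q ≤ centralizer (D₁ : Set G) := by
  intro hcent
  have hq := h.hq
  have hfact : Fact q.Prime := ⟨hq⟩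
  have hQnil : Group.IsNilpotent ↥Q := h.hQq.isNilpotent
  obtain ⟨hQL, hDL, -, hprod⟩ := hD
  exact h.hnn (p15_nc_nilpotent_of_commute hQL hDL hprod hcent hQnil hnil)

end Amb

end Cfsg.Agent.Helper87
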