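import Cfsg.Agent.Helper62.P15Defs
import Cfsg.Agent.Helper35.HallCoprime

/-!
CALL P15 (helper62), piece SEC1 (helper87): the images of `D` and `K` in `Γ ⧸ Φ`.
-/

set_option autoImplicit false

namespace Cfsg.Agent.Helper87

open Cfsg Subgroup Cfsg.Agent.Helper62

universe u

section Sec

variable {Γ : Type u} [Group Γ] [Finite Γ]

omit [Finite Γ] in
/-- A homomorphism with trivial kernel on `X` preserves the order of `X`. -/
theorem p15_sec1_card_map {Γ' : Type*} [Group Γ'] (f : Γ →* Γ') (X : Subgroup Γ)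
    (hinj : ∀ a ∈ X, f a = 1 → a = 1) : Nat.card ↥(X.map f) = Nat.card X := by
  symm
  apply Nat.card_congr
  refine Equiv.ofBijective (f.subgroupMap X) ⟨?_, f.subgroupMap_surjective X⟩
  intro a b hab
  have h1 : f (a : Γ) = f (b : Γ) := congrArg Subtype.val hab
  have h2 : f ((a : Γ)⁻¹ * b) = 1 := by rw [map_mul, map_inv, h1, inv_mul_cancel]
  have h3 := hinj _ (X.mul_mem (X.inv_mem a.2) b.2) h2
  exact Subtype.ext (inv_mul_eq_one.mp h3)

set_option linter.unusedVariables false in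
set_option linter.unusedSectionVars false in
/-- SEC1 -/
theorem p15_sec1 (D K Φ : Subgroup Γ) [Φ.Normal] {q : ℕ} (hq : q.Prime) (hΦq : IsPGroup q Φ)
    (hD1 : D ≠ ⊥) (hK1 : K ≠ ⊥) (hKD : K ≤ normalizer (D : Set Γ))
    (hDq : (Nat.card D).Coprime q) (hKq : (Nat.card K).Coprime q)
    (hDK : (Nat.card D).Coprime (Nat.card K))
    (hfpf : ∀ k ∈ K, k ≠ 1 → D ⊓ centralizer ({k} : Set Γ) = ⊥) :
    D.map (QuotientGroup.mk' Φ) ≠ ⊥ ∧ K.map (QuotientGroup.mk' Φ) ≠ ⊥ ∧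
      D.map (QuotientGroup.mk' Φ) ⊓ K.map (QuotientGroup.mk' Φ) = ⊥ ∧
      K.map (QuotientGroup.mk' Φ) ≤ normalizer ((D.map (QuotientGroup.mk' Φ) : Subgroup (Γ ⧸ Φ)) : Set (Γ ⧸ Φ)) ∧
      Nat.card ↥(K.map (QuotientGroup.mk' Φ)) = Nat.card K ∧
      (∀ r ∈ K.map (QuotientGroup.mk' Φ), r ≠ 1 →
        D.map (QuotientGroup.mk' Φ) ⊓ centralizer ({r} : Set (Γ ⧸ Φ)) = ⊥) ∧
      (Nat.card ↥(D.map (QuotientGroup.mk' Φ) ⊔ K.map (QuotientGroup.mk' Φ))).Coprime q := by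
  have hDKinf : D ⊓ K = ⊥ := disjoint_iff.mp (Subgroup.disjoint_of_coprime_natCard hDK)
  have hcardH : Nat.card ↥(D ⊔ K) = Nat.card D * Nat.card K :=
    Cfsg.Agent.Helper35.card_sup_of_le_normalizer hKD hDKinf
  have hHq : (Nat.card ↥(D ⊔ K)).Coprime q := by
    rw [hcardH]
    exact Nat.Coprime.mul_left hDq hKq
  have hDH : D ≤ D ⊔ K := le_sup_left
  have hKH : K ≤ D ⊔ K := le_sup_right
  have hker : ∀ g ∈ D ⊔ K, QuotientGroup.mk' Φ g = 1 → g = 1 := by
    intro g hg hg1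
    have hgΦ : g ∈ Φ := by
      rw [QuotientGroup.mk'_apply] at hg1
      exact (QuotientGroup.eq_one_iff g).mp hg1
    obtain ⟨n, hn⟩ := hΦq ⟨g, hgΦ⟩
    have hn' : g ^ q ^ n = 1 := by
      have h0 := congrArg Subtype.val hn
      simpa using h0
    have h1 : orderOf g ∣ q ^ n := orderOf_dvd_of_pow_eq_one hn'
    have h2 : orderOf g ∣ Nat.card ↥(D ⊔ K) := Subgroup.orderOf_dvd_natCard _ hg
    have h3 : (orderOf g).Coprime (q ^ n) :=
      Nat.Coprime.coprime_dvd_left h2 (Nat.Coprime.pow_right n hHq)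
    have h4 : orderOf g = 1 := Nat.Coprime.eq_one_of_dvd h3 h1
    exact orderOf_eq_one_iff.mp h4
  have hinj : ∀ a ∈ D ⊔ K, ∀ b ∈ D ⊔ K,
      QuotientGroup.mk' Φ a = QuotientGroup.mk' Φ b → a = b := by
    intro a ha b hb hab
    have h2 : QuotientGroup.mk' Φ (a⁻¹ * b) = 1 := by
      rw [map_mul, map_inv, hab, inv_mul_cancel]
    exact inv_mul_eq_one.mp (hker _ (mul_mem (inv_mem ha) hb) h2)
  refine ⟨?_, ?_, ?_, ?_, ?_, ?_, ?_⟩
  · intro hbot
    apply hD1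
    rw [Subgroup.eq_bot_iff_forall]
    intro d hd
    have h1 : QuotientGroup.mk' Φ d ∈ D.map (QuotientGroup.mk' Φ) := mem_map_of_mem _ hd
    rw [hbot, mem_bot] at h1
    exact hker d (hDH hd) h1
  · intro hbot
    apply hK1
    rw [Subgroup.eq_bot_iff_forall]
    intro d hd
    have h1 : QuotientGroup.mk' Φ d ∈ K.map (QuotientGroup.mk' Φ) := mem_map_of_mem _ hd
    rw [hbot, mem_bot] at h1
    exact hker d (hKH hd) h1
  · rw [eq_bot_iff]
    intro y hy
    obtain ⟨hyD, hyK⟩ := mem_inf.mp hy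
    obtain ⟨d, hd, rfl⟩ := mem_map.mp hyD
    obtain ⟨k, hk, hkd⟩ := mem_map.mp hyK
    have hdk : k = d := hinj k (hKH hk) d (hDH hd) hkd
    have hd1 : d ∈ D ⊓ K := mem_inf.mpr ⟨hd, hdk ▸ hk⟩
    rw [hDKinf, mem_bot] at hd1
    rw [mem_bot, hd1, map_one]
  · exact (Subgroup.map_mono hKD).trans (Subgroup.le_normalizer_map _)
  · exact p15_sec1_card_map _ K (fun a ha => hker a (hKH ha))
  · intro r hr hr1
    obtain ⟨k, hk, rfl⟩ := mem_map.mp hr
    have hk1 : k ≠ 1 := by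
      rintro rfl
      exact hr1 (map_one _)
    rw [eq_bot_iff]
    intro y hy
    obtain ⟨hyD, hyC⟩ := mem_inf.mp hy
    obtain ⟨d, hd, rfl⟩ := mem_map.mp hyD
    have hcomm : QuotientGroup.mk' Φ k * QuotientGroup.mk' Φ d =
        QuotientGroup.mk' Φ d * QuotientGroup.mk' Φ k :=
      mem_centralizer_iff.mp hyC _ (Set.mem_singleton _)
    rw [← map_mul, ← map_mul] at hcomm
    have hkd : k * d = d * k :=
      hinj _ (mul_mem (hKH hk) (hDH hd)) _ (mul_mem (hDH hd) (hKH hk)) hcomm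
    have hd1 : d ∈ D ⊓ centralizer ({k} : Set Γ) := by
      refine mem_inf.mpr ⟨hd, ?_⟩
      rw [mem_centralizer_iff]
      intro h hh
      rw [Set.mem_singleton_iff] at hh
      subst hh
      exact hkd
    rw [hfpf k hk hk1, mem_bot] at hd1
    rw [mem_bot, hd1, map_one]
  · rw [← Subgroup.map_sup, p15_sec1_card_map _ (D ⊔ K) hker]
    exact hHq

end Sec

end Cfsg.Agent.Helper87
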