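import Cfsg.Agent.Helper62.P15Defs
import Cfsg.Agent.Helper35.Coprime

/-!
CALL P15 (helper62), piece SEC2 (helper87): fixed points in `W/Φ` lift.
-/

set_option autoImplicit false

namespace Cfsg.Agent.Helper87

open Cfsg Subgroup Cfsg.Agent.Helper62

universe u

section Sec

variable {Γ : Type u} [Group Γ] [Finite Γ]

/-- Lifting of fixed points: `A` of order prime to `q`, `Φ ≤ W` a normal `q`-subgroup. -/
theorem p15_sec2_lift (A Φ W : Subgroup Γ) [Φ.Normal] {q : ℕ} (hq : q.Prime) (hΦW : Φ ≤ W)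
    (hWq : IsPGroup q W) (hAq : (Nat.card A).Coprime q) (w : Γ) (hw : w ∈ W)
    (hcomm : ∀ a ∈ A, QuotientGroup.mk' Φ w * QuotientGroup.mk' Φ a =
      QuotientGroup.mk' Φ a * QuotientGroup.mk' Φ w) :
    ∃ c ∈ W ⊓ centralizer (A : Set Γ), QuotientGroup.mk' Φ c = QuotientGroup.mk' Φ w := by
  have hfact : Fact q.Prime := ⟨hq⟩
  have hΦq : IsPGroup q Φ := hWq.to_le hΦW
  obtain ⟨n, hn⟩ := IsPGroup.iff_card.mp hΦq
  have hcop : (Nat.card A).Coprime (Nat.card Φ) := by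
    rw [hn]
    exact Nat.Coprime.pow_right n hAq
  have hsolv : Group.IsSolvable A ∨ Group.IsSolvable Φ := by
    right
    have hnil := hΦq.isNilpotent
    infer_instance
  have hAN : A ≤ normalizer (Φ : Set Γ) := by
    rw [Subgroup.normalizer_eq_top]
    exact le_top
  have hx : ∀ a ∈ A, w⁻¹ * a * w * a⁻¹ ∈ Φ := by
    intro a ha
    rw [← QuotientGroup.eq_one_iff, ← QuotientGroup.mk'_apply]
    rw [map_mul, map_mul, map_mul, map_inv, map_inv, mul_assoc ((QuotientGroup.mk' Φ w)⁻¹),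
      ← hcomm a ha]
    group
  obtain ⟨c, hc, hwc⟩ := Cfsg.Agent.Helper35.exists_fixed_in_coset hAN hcop hsolv w hx
  have h2 : c = w * (w⁻¹ * c) := by group
  refine ⟨c, mem_inf.mpr ⟨?_, hc⟩, ?_⟩
  · rw [h2]
    exact W.mul_mem hw (hΦW hwc)
  · have h3 : QuotientGroup.mk' Φ (w⁻¹ * c) = 1 := by
      rw [QuotientGroup.mk'_apply]
      exact (QuotientGroup.eq_one_iff _).mpr hwc
    rw [h2, map_mul, h3, mul_one]

/-- SEC2 -/
theorem p15_sec2 (D K Z Φ W : Subgroup Γ) [Φ.Normal] {q : ℕ} (hq : q.Prime) (hΦW : Φ ≤ W)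
    (hWq : IsPGroup q W) (hK1 : K ≠ ⊥)
    (hDq : (Nat.card D).Coprime q) (hKq : (Nat.card K).Coprime q)
    (hZK : Z ≤ centralizer (K : Set Γ))
    (hCW : ∀ k ∈ K, k ≠ 1 → W ⊓ centralizer ({k} : Set Γ) ≤ Z)
    (hCD : W ⊓ centralizer (D : Set Γ) ≤ Φ) :
    W.map (QuotientGroup.mk' Φ) ⊓ centralizer ((D.map (QuotientGroup.mk' Φ) : Subgroup (Γ ⧸ Φ)) : Set (Γ ⧸ Φ)) = ⊥ ∧
      (∀ x ∈ K.map (QuotientGroup.mk' Φ), x ≠ 1 →
        W.map (QuotientGroup.mk' Φ) ⊓ centralizer ({x} : Set (Γ ⧸ Φ)) =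
          W.map (QuotientGroup.mk' Φ) ⊓ centralizer ((K.map (QuotientGroup.mk' Φ) : Subgroup (Γ ⧸ Φ)) : Set (Γ ⧸ Φ))) ∧
      W.map (QuotientGroup.mk' Φ) ⊓ centralizer ((K.map (QuotientGroup.mk' Φ) : Subgroup (Γ ⧸ Φ)) : Set (Γ ⧸ Φ)) ≤
        (Z ⊓ W).map (QuotientGroup.mk' Φ) := by
  have key : ∀ k ∈ K, k ≠ 1 → ∀ w ∈ W,
      QuotientGroup.mk' Φ w * QuotientGroup.mk' Φ k =
        QuotientGroup.mk' Φ k * QuotientGroup.mk' Φ w →
      ∃ c ∈ Z ⊓ W, QuotientGroup.mk' Φ c = QuotientGroup.mk' Φ w := by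
    intro k hk hk1 w hw hcomm
    have hcard : (Nat.card (zpowers k)).Coprime q :=
      Nat.Coprime.coprime_dvd_left (Subgroup.card_dvd_of_le (zpowers_le.mpr hk)) hKq
    have hcomm' : ∀ a ∈ zpowers k, QuotientGroup.mk' Φ w * QuotientGroup.mk' Φ a =
        QuotientGroup.mk' Φ a * QuotientGroup.mk' Φ w := by
      intro a ha
      obtain ⟨n, rfl⟩ := mem_zpowers_iff.mp ha
      rw [map_zpow]
      have hck : Commute (QuotientGroup.mk' Φ w) (QuotientGroup.mk' Φ k) := hcomm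
      exact (hck.zpow_right n).eq
    obtain ⟨c, hc, hcw⟩ := p15_sec2_lift (zpowers k) Φ W hq hΦW hWq hcard w hw hcomm'
    have hcW := (mem_inf.mp hc).1
    have hck : c ∈ centralizer ({k} : Set Γ) := by
      rw [mem_centralizer_iff]
      intro h hh
      rw [Set.mem_singleton_iff] at hh
      subst hh
      exact mem_centralizer_iff.mp (mem_inf.mp hc).2 _ (mem_zpowers _)
    exact ⟨c, mem_inf.mpr ⟨hCW k hk hk1 (mem_inf.mpr ⟨hcW, hck⟩), hcW⟩, hcw⟩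
  refine ⟨?_, ?_, ?_⟩
  · rw [eq_bot_iff]
    intro y hy
    obtain ⟨hyW, hyC⟩ := mem_inf.mp hy
    obtain ⟨w, hw, rfl⟩ := mem_map.mp hyW
    have hcomm : ∀ a ∈ D, QuotientGroup.mk' Φ w * QuotientGroup.mk' Φ a =
        QuotientGroup.mk' Φ a * QuotientGroup.mk' Φ w := by
      intro a ha
      exact (mem_centralizer_iff.mp hyC _ (mem_map_of_mem _ ha)).symm
    obtain ⟨c, hc, hcw⟩ := p15_sec2_lift D Φ W hq hΦW hWq hDq w hw hcomm
    rw [mem_bot, ← hcw, QuotientGroup.mk'_apply]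
    exact (QuotientGroup.eq_one_iff c).mpr (hCD hc)
  · intro x hx hx1
    have hx' := hx
    obtain ⟨k, hk, rfl⟩ := mem_map.mp hx
    have hk1 : k ≠ 1 := by
      rintro rfl
      exact hx1 (map_one _)
    apply le_antisymm
    · intro y hy
      obtain ⟨hyW, hyC⟩ := mem_inf.mp hy
      obtain ⟨w, hw, rfl⟩ := mem_map.mp hyW
      have hcomm : QuotientGroup.mk' Φ w * QuotientGroup.mk' Φ k =
          QuotientGroup.mk' Φ k * QuotientGroup.mk' Φ w :=
        (mem_centralizer_iff.mp hyC _ (Set.mem_singleton _)).symm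
      obtain ⟨c, hc, hcw⟩ := key k hk hk1 w hw hcomm
      refine mem_inf.mpr ⟨hyW, ?_⟩
      rw [← hcw, mem_centralizer_iff]
      intro h hh
      obtain ⟨k', hk', rfl⟩ := mem_map.mp hh
      have h5 := mem_centralizer_iff.mp (hZK (mem_inf.mp hc).1) k' hk'
      rw [← map_mul, ← map_mul, h5]
    · exact inf_le_inf_left _ (centralizer_le (Set.singleton_subset_iff.mpr hx'))
  · intro y hy
    obtain ⟨hyW, hyC⟩ := mem_inf.mp hy
    obtain ⟨w, hw, rfl⟩ := mem_map.mp hyW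
    obtain ⟨k, hk, hk1⟩ : ∃ k ∈ K, k ≠ 1 := by
      by_contra hcon
      apply hK1
      rw [Subgroup.eq_bot_iff_forall]
      intro k hk
      by_contra hk1
      exact hcon ⟨k, hk, hk1⟩
    have hcomm : QuotientGroup.mk' Φ w * QuotientGroup.mk' Φ k =
        QuotientGroup.mk' Φ k * QuotientGroup.mk' Φ w :=
      (mem_centralizer_iff.mp hyC _ (mem_map_of_mem _ hk)).symm
    obtain ⟨c, hc, hcw⟩ := key k hk hk1 w hw hcomm
    exact mem_map.mpr ⟨c, hc, hcw⟩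

end Sec

end Cfsg.Agent.Helper87
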