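import Mathlib
import Cfsg.Prelude.Def_PLocal
import Cfsg.Agent.Helper19.ThompsonNPCA
import Cfsg.Agent.Helper11.ZJ

/-!
Helper87: pushing up in a `p`-minimal group (a Sylow `p`-subgroup `S` in a unique maximal subgroup,
`C_G(O_p(G)) ≤ O_p(G)`): either `℧¹(Z(S))` is central or `C_S(Z(J(S)))` is normal.
Ingredients: a normal subgroup `N` with `N S ≠ G` meets `S` in a normal subgroup (Frattini),
Thompson replacement against the normal closure of `Z(S)`, and a quadratic-offender computation.
-/

set_option autoImplicit false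

namespace Cfsg.Agent.Helper87

/-- a subgroup of the centre is normal -/
theorem pu_normal_of_le_center {G : Type*} [Group G] {H : Subgroup G}
    (h : H ≤ Subgroup.center G) : H.Normal := by
  constructor
  intro x hx g
  have h1 := Subgroup.mem_center_iff.mp (h hx) g
  rw [h1, mul_inv_cancel_right]
  exact hx

/-- an element centralised by `N` and by `S`, where `N S = G`, is central -/
theorem pu_central {G : Type*} [Group G] (S N : Subgroup G) (hNS : N ⊔ S = ⊤) (x : G)
    (hN : x ∈ Subgroup.centralizer (N : Set G)) (hS : x ∈ Subgroup.centralizer (S : Set G)) :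
    x ∈ Subgroup.center G := by
  have h1 : N ⊔ S ≤ Subgroup.centralizer ({x} : Set G) := by
    apply sup_le
    · intro n hn
      rw [Subgroup.mem_centralizer_iff]
      intro y hy
      rw [Set.mem_singleton_iff] at hy
      subst hy
      exact (Subgroup.mem_centralizer_iff.mp hN n hn).symm
    · intro n hn
      rw [Subgroup.mem_centralizer_iff]
      intro y hy
      rw [Set.mem_singleton_iff] at hy
      subst hy
      exact (Subgroup.mem_centralizer_iff.mp hS n hn).symm
  rw [hNS] at h1
  rw [Subgroup.mem_center_iff]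
  intro g
  exact (Subgroup.mem_centralizer_iff.mp (h1 (Subgroup.mem_top g)) x rfl).symm

/-- if `N S = G` and `N` centralises the `p`-th powers of `Z(S)` then `℧¹(Z(S))` is normal
(indeed central) -/
theorem pu_alt1 {G : Type*} [Group G] (p : ℕ) (S N : Subgroup G) (hNS : N ⊔ S = ⊤)
    (h : ∀ z ∈ S ⊓ Subgroup.centralizer (S : Set G), z ^ p ∈ Subgroup.centralizer (N : Set G)) :
    (Cfsg.powerClosure p 1 (S ⊓ Subgroup.centralizer (S : Set G))).Normal := by
  apply pu_normal_of_le_center
  unfold Cfsg.powerClosure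
  rw [Subgroup.closure_le]
  rintro y ⟨x, hx, rfl⟩
  rw [pow_one]
  exact pu_central S N hNS _ (h x hx) (Subgroup.pow_mem _ (Subgroup.mem_inf.mp hx).2 p)

/-- `℧ⁿ` of a normal subgroup is normal -/
theorem pu_powerClosure_normal {G : Type*} [Group G] (p n : ℕ) (W : Subgroup G) [hW : W.Normal] :
    (Cfsg.powerClosure p n W).Normal := by
  constructor
  intro y hy g
  have hle : Cfsg.powerClosure p n W ≤
      (Cfsg.powerClosure p n W).comap (MulAut.conj g).toMonoidHom := by
    unfold Cfsg.powerClosure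
    rw [Subgroup.closure_le]
    rintro y ⟨x, hx, rfl⟩
    rw [SetLike.mem_coe, Subgroup.mem_comap]
    apply Subgroup.subset_closure
    refine ⟨g * x * g⁻¹, hW.conj_mem x hx g, ?_⟩
    simp [conj_pow]
  have h2 := hle hy
  rw [Subgroup.mem_comap] at h2
  simpa using h2

/-- `p`-minimality: a normal subgroup `N` with `N S ≠ G` meets `S` in a normal subgroup of `G`
(so inside `O_p(G)`) -/
theorem pu_pmin {G : Type*} [Group G] [Finite G] {p : ℕ} [Fact p.Prime] (S : Sylow p G)
    (hE₂ : ∃! M : Subgroup G, IsCoatom M ∧ (S : Subgroup G) ≤ M)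
    (N : Subgroup G) [hNn : N.Normal] (hN : N ⊔ (S : Subgroup G) ≠ ⊤) :
    ((S : Subgroup G) ⊓ N).Normal ∧ (S : Subgroup G) ⊓ N ≤ Cfsg.pCore p G := by
  obtain ⟨M, ⟨hM, hSM⟩, huniq⟩ := hE₂
  have hcoat : ∀ X : Subgroup G, X ≠ ⊤ → (S : Subgroup G) ≤ X → X ≤ M := by
    intro X hX hSX
    rcases eq_top_or_exists_le_coatom X with h | ⟨M', hM', hXM'⟩
    · exact absurd h hX
    · have := huniq M' ⟨hM', hSX.trans hXM'⟩
      rw [← this]
      exact hXM'
  have hNM : N ≤ M := le_sup_left.trans (hcoat _ hN le_sup_right)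
  have hnorm : Subgroup.normalizer (((S : Subgroup G) ⊓ N : Subgroup G) : Set G) = ⊤ := by
    by_contra hne
    have hS : (S : Subgroup G) ≤
        Subgroup.normalizer (((S : Subgroup G) ⊓ N : Subgroup G) : Set G) := by
      intro s hs
      rw [Subgroup.mem_normalizer_iff]
      intro x
      constructor
      · intro hx
        exact ⟨(S : Subgroup G).mul_mem ((S : Subgroup G).mul_mem hs hx.1)
          ((S : Subgroup G).inv_mem hs), hNn.conj_mem x hx.2 s⟩
      · intro hx
        have h1 : x ∈ (S : Subgroup G) := by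
          have := (S : Subgroup G).mul_mem
            ((S : Subgroup G).mul_mem ((S : Subgroup G).inv_mem hs) hx.1) hs
          simpa [mul_assoc] using this
        have h2 : x ∈ N := by
          have := hNn.conj_mem _ hx.2 s⁻¹
          simpa [mul_assoc] using this
        exact ⟨h1, h2⟩
    have hle := hcoat _ hne hS
    apply hM.1
    rw [eq_top_iff]
    intro g _
    obtain ⟨l, hl, n, hn, rfl⟩ := Helper11.frattini_inf S N g
    exact M.mul_mem (hNM hl) (hle hn)
  have hnormal : ((S : Subgroup G) ⊓ N).Normal := Subgroup.normalizer_eq_top_iff.mp hnorm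
  exact ⟨hnormal, Helper11.le_pCore _ (S.isPGroup'.to_le inf_le_left)⟩

/-- an abelian subgroup of `S` centralised by a largest abelian subgroup `A` lies in `A` -/
theorem pu_le_maxAb {G : Type*} [Group G] [Finite G] {S A V : Subgroup G}
    (hA : Helper19.MaxAb S A) (hVS : V ≤ S) (hV : Helper19.Ab V)
    (hAV : ∀ a ∈ A, ∀ v ∈ V, a * v = v * a) : V ≤ A := by
  have hB : Helper19.Ab (A ⊔ V) := Helper19.Ab.sup hA.2.1 hV hAV
  have hcard := hA.2.2 (A ⊔ V) (sup_le hA.1 hVS) hB
  have hEq : A = A ⊔ V := Subgroup.eq_of_le_of_card_ge le_sup_left hcard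
  rw [hEq]
  exact le_sup_right

/-- `Z(S)` lies in every largest abelian subgroup of `S` -/
theorem pu_Z_le_maxAb {G : Type*} [Group G] [Finite G] {S A : Subgroup G}
    (hA : Helper19.MaxAb S A) : S ⊓ Subgroup.centralizer (S : Set G) ≤ A := by
  apply pu_le_maxAb hA inf_le_left
  · intro a ha b hb
    exact Subgroup.mem_centralizer_iff.mp hb.2 a ha.1
  · intro a ha v hv
    exact Subgroup.mem_centralizer_iff.mp hv.2 a (hA.1 ha)

/-- the normal closure of `Z(S)` lies in `Z(O_p(G))` -/
theorem pu_W {G : Type*} [Group G] [Finite G] {p : ℕ} [Fact p.Prime] (S : Sylow p G)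
    (hE₁ : Subgroup.centralizer (Cfsg.pCore p G : Set G) ≤ Cfsg.pCore p G) :
    Subgroup.normalClosure (((S : Subgroup G) ⊓
        Subgroup.centralizer ((S : Subgroup G) : Set G) : Subgroup G) : Set G)
      ≤ Cfsg.pCore p G ⊓ Subgroup.centralizer (Cfsg.pCore p G : Set G) := by
  have hQn : (Cfsg.pCore p G).Normal := Helper11.pCore_normal p G
  have hQS : Cfsg.pCore p G ≤ S := Helper11.pCore_le_sylow S
  have hn : (Cfsg.pCore p G ⊓ Subgroup.centralizer (Cfsg.pCore p G : Set G)).Normal :=
    inferInstance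
  apply Subgroup.normalClosure_le_normal
  intro z hz
  have hz2 : z ∈ Subgroup.centralizer (Cfsg.pCore p G : Set G) :=
    Subgroup.centralizer_le (SetLike.coe_subset_coe.mpr hQS) hz.2
  exact ⟨hE₁ hz2, hz2⟩

/-- Thompson replacement: if some largest abelian subgroup of `S` does not centralise the normal
abelian subgroup `W ≤ S`, then one of them is moreover normalised by `W`. -/
theorem pu_offender_normalizes {G : Type*} [Group G] [Finite G] {p : ℕ} [Fact p.Prime]
    (S : Sylow p G) (W : Subgroup G) [W.Normal] (hWS : W ≤ S) (hW : Helper19.Ab W)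
    (h : ∃ A, Helper19.MaxAb (S : Subgroup G) A ∧ ¬ A ≤ Subgroup.centralizer (W : Set G)) :
    ∃ A, Helper19.MaxAb (S : Subgroup G) A ∧ ¬ A ≤ Subgroup.centralizer (W : Set G) ∧
      W ≤ Subgroup.normalizer (A : Set G) := by
  classical
  obtain ⟨A, hA, hmax⟩ := Set.exists_max_image
    {A : Subgroup G | Helper19.MaxAb (S : Subgroup G) A ∧
      ¬ A ≤ Subgroup.centralizer (W : Set G)}
    (fun A => Nat.card (A ⊓ W : Subgroup G)) (Set.toFinite _) h
  refine ⟨A, hA.1, hA.2, ?_⟩
  by_contra hWA
  obtain ⟨A', hA', hlt, hA'N⟩ :=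
    Helper19.replacement_stepA (S : Subgroup G) A W S.isPGroup' hA.1 hW hWS hWA
  by_cases hc : A' ≤ Subgroup.centralizer (W : Set G)
  · have hWA' : W ≤ A' := pu_le_maxAb hA' hWS hW
      (fun a ha v hv => (Subgroup.mem_centralizer_iff.mp (hc ha) v hv).symm)
    exact hWA (hWA'.trans hA'N)
  · exact absurd (hmax A' ⟨hA', hc⟩) (not_le.mpr hlt)

/-- the quadratic-offender computation: if the abelian `p`-subgroup `A` is normalised by the
normal abelian subgroup `W` but does not centralise it, some `b ∈ A` outside `C(W)` centralises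
`℧¹(W)`. -/
theorem pu_offender_pow {G : Type*} [Group G] [Finite G] {p : ℕ} [Fact p.Prime]
    (S W A : Subgroup G) (hS : IsPGroup p S) [hWn : W.Normal] (hW : Helper19.Ab W)
    (hA : Helper19.Ab A) (hAS : A ≤ S) (hWA : W ≤ Subgroup.normalizer (A : Set G))
    (hAW : ¬ A ≤ Subgroup.centralizer (W : Set G)) :
    ∃ b ∈ A, b ∉ Subgroup.centralizer (W : Set G) ∧
      b ∈ Subgroup.centralizer (Cfsg.powerClosure p 1 W : Set G) := by
  classical
  obtain ⟨a, haA, haW⟩ := SetLike.not_le_iff_exists.mp hAW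
  obtain ⟨k, hk⟩ := hS ⟨a, hAS haA⟩
  have hk' : a ^ p ^ k = 1 := congrArg Subtype.val hk
  have hex : ∃ k : ℕ, a ^ p ^ k ∈ Subgroup.centralizer (W : Set G) :=
    ⟨k, by rw [hk']; exact Subgroup.one_mem _⟩
  have h0 : Nat.find hex ≠ 0 := by
    intro h0
    have := Nat.find_spec hex
    rw [h0, pow_zero, pow_one] at this
    exact haW this
  obtain ⟨j, hj⟩ := Nat.exists_eq_succ_of_ne_zero h0
  have hbW : a ^ p ^ j ∉ Subgroup.centralizer (W : Set G) :=
    Nat.find_min hex (by rw [hj]; exact Nat.lt_succ_self j)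
  have hbp : (a ^ p ^ j) ^ p ∈ Subgroup.centralizer (W : Set G) := by
    have := Nat.find_spec hex
    rw [hj, Nat.succ_eq_add_one, pow_succ, pow_mul] at this
    exact this
  have hbA : a ^ p ^ j ∈ A := Subgroup.pow_mem _ haA _
  generalize a ^ p ^ j = b at hbW hbp hbA
  refine ⟨b, hbA, hbW, ?_⟩
  -- `b` commutes with `w ^ p` for every `w ∈ W`
  have key : ∀ w ∈ W, w ^ p * b = b * w ^ p := by
    intro w hw
    obtain ⟨c, hc⟩ : ∃ c, c = w * b * w⁻¹ * b⁻¹ := ⟨_, rfl⟩
    have hcW : c ∈ W := by
      rw [hc]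
      have h1 : b * w⁻¹ * b⁻¹ ∈ W := hWn.conj_mem _ (W.inv_mem hw) b
      have h2 := W.mul_mem hw h1
      have h3 : w * (b * w⁻¹ * b⁻¹) = w * b * w⁻¹ * b⁻¹ := by group
      rw [h3] at h2
      exact h2
    have hcA : c ∈ A := by
      rw [hc]
      exact A.mul_mem ((Subgroup.mem_normalizer_iff.mp (hWA hw) b).mp hbA) (A.inv_mem hbA)
    have hcb : Commute c b := hA c hcA b hbA
    have hcw : Commute c w := hW c hcW w hw
    have h1 : w * b * w⁻¹ = c * b := by rw [hc]; group
    have h2 : w * b ^ p * w⁻¹ = b ^ p := by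
      have := Subgroup.mem_centralizer_iff.mp hbp w hw
      rw [this, mul_inv_cancel_right]
    have hcp : c ^ p = 1 := by
      have h3 : (w * b * w⁻¹) ^ p = w * b ^ p * w⁻¹ := conj_pow
      rw [h1, hcb.mul_pow, h2] at h3
      exact mul_eq_right.mp h3
    have h4 : b⁻¹ * w * b = c * w := by
      have h5 : b⁻¹ * c * b = c := by
        rw [mul_assoc, hcb.eq, inv_mul_cancel_left]
      rw [← h5, hc]
      group
    have h6 : b⁻¹ * w ^ p * b = w ^ p := by
      have h7 : (b⁻¹ * w * b⁻¹⁻¹) ^ p = b⁻¹ * w ^ p * b⁻¹⁻¹ := conj_pow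
      rw [inv_inv] at h7
      rw [← h7, h4, hcw.mul_pow, hcp, one_mul]
    calc w ^ p * b = b * (b⁻¹ * w ^ p * b) := by group
      _ = b * w ^ p := by rw [h6]
  have hle : Cfsg.powerClosure p 1 W ≤ Subgroup.centralizer ({b} : Set G) := by
    unfold Cfsg.powerClosure
    rw [Subgroup.closure_le]
    rintro y ⟨x, hx, rfl⟩
    rw [SetLike.mem_coe, Subgroup.mem_centralizer_iff]
    intro h hh
    rw [Set.mem_singleton_iff] at hh
    subst hh
    rw [pow_one]
    exact (key x hx).symm
  rw [Subgroup.mem_centralizer_iff]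
  intro y hy
  exact (Subgroup.mem_centralizer_iff.mp (hle hy) b rfl).symm

/-- the case without offender: every largest abelian subgroup of `S` centralises the normal
subgroup `W ≥ Z(S)` -/
theorem pu_no_offender {G : Type*} [Group G] [Finite G] {p : ℕ} [Fact p.Prime] (S : Sylow p G)
    (hE₂ : ∃! M : Subgroup G, IsCoatom M ∧ (S : Subgroup G) ≤ M)
    (W : Subgroup G) [W.Normal]
    (hZW : (S : Subgroup G) ⊓ Subgroup.centralizer ((S : Subgroup G) : Set G) ≤ W)
    (h : ∀ A, Helper19.MaxAb (S : Subgroup G) A → A ≤ Subgroup.centralizer (W : Set G)) :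
    (Cfsg.powerClosure p 1
        ((S : Subgroup G) ⊓ Subgroup.centralizer ((S : Subgroup G) : Set G))).Normal ∨
      (((S : Subgroup G) ⊓
        Subgroup.centralizer (Cfsg.centerThompsonAOf (S : Subgroup G) : Set G))).Normal := by
  have hQn : (Cfsg.pCore p G).Normal := Helper11.pCore_normal p G
  have hQS : Cfsg.pCore p G ≤ S := Helper11.pCore_le_sylow S
  by_cases hC : Subgroup.centralizer (W : Set G) ⊔ (S : Subgroup G) = ⊤
  · left
    apply pu_alt1 p (S : Subgroup G) (Subgroup.centralizer (W : Set G)) hC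
    intro z hz
    apply Subgroup.pow_mem
    rw [Subgroup.mem_centralizer_iff]
    intro n hn
    exact (Subgroup.mem_centralizer_iff.mp hn z (hZW hz)).symm
  · obtain ⟨_, hSCQ⟩ := pu_pmin S hE₂ (Subgroup.centralizer (W : Set G)) hC
    have hall : ∀ A, Helper19.MaxAb (S : Subgroup G) A → A ≤ Cfsg.pCore p G :=
      fun A hA => (le_inf hA.1 (h A hA)).trans hSCQ
    have hJ : Helper19.JA (S : Subgroup G) = Helper19.JA (Cfsg.pCore p G) :=
      Helper19.JA_eq_of_forall_le hQS hall
    have hJn : (Helper19.JA (S : Subgroup G)).Normal := by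
      rw [hJ]
      apply Subgroup.normalizer_eq_top_iff.mp
      apply top_le_iff.mp
      calc ⊤ = Subgroup.normalizer ((Cfsg.pCore p G : Subgroup G) : Set G) :=
            (Subgroup.normalizer_eq_top_iff.mpr hQn).symm
        _ ≤ _ := Helper19.normalizer_le_normalizer_JA _
    have hZJ : Cfsg.centerThompsonAOf (S : Subgroup G) = Helper19.JA (S : Subgroup G) ⊓
        Subgroup.centralizer (Helper19.JA (S : Subgroup G) : Set G) := by
      unfold Cfsg.centerThompsonAOf
      rw [Helper19.thompsonSubgroupAOf_eq_JA]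
    have hZJn : (Cfsg.centerThompsonAOf (S : Subgroup G)).Normal := by
      rw [hZJ]
      infer_instance
    by_cases hN : Subgroup.centralizer (Cfsg.centerThompsonAOf (S : Subgroup G) : Set G) ⊔
        (S : Subgroup G) = ⊤
    · left
      apply pu_alt1 p (S : Subgroup G) _ hN
      intro z hz
      apply Subgroup.pow_mem
      have hzZJ : z ∈ Cfsg.centerThompsonAOf (S : Subgroup G) := by
        rw [hZJ]
        obtain ⟨A, hA⟩ := Helper19.exists_maxAb (S : Subgroup G)
        have hzA : z ∈ A := pu_Z_le_maxAb hA hz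
        refine ⟨le_sSup (show A ∈ {A | Helper19.MaxAb (S : Subgroup G) A} from hA) hzA, ?_⟩
        exact Subgroup.centralizer_le (SetLike.coe_subset_coe.mpr (Helper19.JA_le _)) hz.2
      rw [Subgroup.mem_centralizer_iff]
      intro n hn
      exact (Subgroup.mem_centralizer_iff.mp hn z hzZJ).symm
    · right
      exact (pu_pmin S hE₂ _ hN).1

end Cfsg.Agent.Helper87
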