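import Mathlib
import Cfsg.Agent.Helper87.R2Defs
import Cfsg.Agent.Helper29.R2F2
import Cfsg.Agent.Helper29.R2X
import Cfsg.Agent.Helper80.R2A1
import Cfsg.Agent.Helper31.R2A2a
import Cfsg.Agent.Helper31.R2A2b
import Cfsg.Agent.Helper31.R2B
import Cfsg.Agent.Helper46.R2WC
import Cfsg.Agent.Helper46.R2End

/-!
# Rank two, `p ≥ 5` (S5289): no proper centric radical subgroup without an invariant `E_{p^2}`

Glue for the case `NoInvE2`: the pieces `r2ctx_maxAb` (helper80), `r2ctx_preXS`, `r2ctx_xs`,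
`r2ctx_caseII_torus` (helper31), `r2_w_coord`, `r2_endgame` (helper46), `exists_extension_of_conj`,
`r2ctx_of_radical` (helper29) are assembled into `no_radical_caseII`.
-/

set_option autoImplicit false

namespace Cfsg.Agent.Helper87

open Cfsg Cfsg.FusionSystem
open scoped commutatorElement

variable {Ω : Type*} [Group Ω]

theorem nmh_coe (E : Subgroup Ω) (g : Ω) (hg : g ∈ Subgroup.normalizer (E : Set Ω)) (x : E) :
    ((E.normalizerMonoidHom ⟨g, hg⟩ x : E) : Ω) = g * x * g⁻¹ := rfl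

theorem nmh_mul (E : Subgroup Ω) (g₁ g₂ : Ω) (h₁ : g₁ ∈ Subgroup.normalizer (E : Set Ω))
    (h₂ : g₂ ∈ Subgroup.normalizer (E : Set Ω)) :
    E.normalizerMonoidHom ⟨g₁ * g₂, Subgroup.mul_mem _ h₁ h₂⟩ =
      E.normalizerMonoidHom ⟨g₁, h₁⟩ * E.normalizerMonoidHom ⟨g₂, h₂⟩ := by
  rw [← map_mul]; rfl

theorem nmh_inv (E : Subgroup Ω) (g : Ω) (h : g ∈ Subgroup.normalizer (E : Set Ω)) :
    E.normalizerMonoidHom ⟨g⁻¹, Subgroup.inv_mem _ h⟩ = (E.normalizerMonoidHom ⟨g, h⟩)⁻¹ := by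
  rw [← map_inv]; rfl

theorem nmh_one (E : Subgroup Ω) :
    E.normalizerMonoidHom ⟨1, Subgroup.one_mem _⟩ = 1 := by
  rw [← map_one E.normalizerMonoidHom]; rfl

theorem nmh_pow (E : Subgroup Ω) (g : Ω) (h : g ∈ Subgroup.normalizer (E : Set Ω)) (n : ℕ) :
    E.normalizerMonoidHom ⟨g ^ n, Subgroup.pow_mem _ h n⟩ = (E.normalizerMonoidHom ⟨g, h⟩) ^ n := by
  rw [← map_pow]; rfl

theorem nmh_conj (E : Subgroup Ω) (e : E) :
    E.normalizerMonoidHom ⟨(e : Ω), Subgroup.le_normalizer e.2⟩ = MulAut.conj e := by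
  ext x; rfl

theorem aut_conj_conj {G : Type*} [Group G] (η : MulAut G) (x : G) :
    η * MulAut.conj x * η⁻¹ = MulAut.conj (η x) := by
  ext y
  simp [MulAut.mul_apply, MulAut.conj_apply]

/-- `(s w)^n ∈ s^n E` for `s` normalizing `E` and `w ∈ E`. -/
theorem pow_mul_mem_of_normalizer (E : Subgroup Ω) (s w : Ω) (hs : s ∈ Subgroup.normalizer (E : Set Ω))
    (hw : w ∈ E) (n : ℕ) : ∃ e ∈ E, (s * w) ^ n = s ^ n * e := by
  induction n with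
  | zero => exact ⟨1, E.one_mem, by simp⟩
  | succ n ih =>
    obtain ⟨e, he, h⟩ := ih
    refine ⟨s⁻¹ * e * s * w, E.mul_mem ?_ hw, ?_⟩
    · have h1 := (Subgroup.mem_normalizer_iff.mp (Subgroup.inv_mem _ hs) e).mp he
      simpa using h1
    · rw [pow_succ, h, pow_succ]; group

end Cfsg.Agent.Helper87

namespace Cfsg.Agent.Helper87

open Cfsg Cfsg.FusionSystem
open scoped commutatorElement

variable {Ω : Type*} [Group Ω] {S : Subgroup Ω}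

/-- **Case II**: a proper centric radical fully normalized subgroup of a saturated fusion system over a
`p`-group of rank at most two (`p ≥ 5`) has an invariant elementary abelian subgroup of order `p ^ 2`. -/
theorem no_radical_caseII [Finite S] (p : ℕ) [Fact p.Prime] (hS : IsPGroup p S) (F : Cfsg.FusionSystem S)
    (hF : F.IsSaturated p) (hp : 5 ≤ p)
    (hrank3 : ∀ E' : Subgroup Ω, E' ≤ S → Cfsg.IsElementaryAbelian p E' → Nat.card E' ≤ p ^ 2)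
    (E : Subgroup Ω) (hc : F.IsCentric E) (hfn : F.IsFullyNormalized E) (hrad : F.IsRadical p E)
    (hne : E ≠ S) (hII : NoInvE2 p (F.autGroup E)) : False := by
  have hpp : p.Prime := Fact.out
  have hES : E ≤ S := hc.1
  have hcent : centralizerIn S E ≤ E := hc.2 E (Helper84.isConj_refl F hES)
  obtain ⟨s, hsS, hsN, hsE, hsp, hctx⟩ := Helper29.r2ctx_of_radical p hS F hF E hc hfn hrad hne hrank3
  have : Finite E := hctx.fin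
  obtain ⟨B, Z₀, hB⟩ := Helper80.r2ctx_maxAb hctx hp hII
  obtain ⟨W, hW⟩ := Helper31.r2ctx_preXS hctx hp hII hB
  have hX := Helper31.r2ctx_xs hctx hp hII hB hW
  obtain ⟨w₁, l, l', η, e, mu, hw₁, hl, hl', hnc, hηA, hmu, ht₁l, ht₁l', htB, hηl, hηl', hηB, hconj⟩ :=
    Helper31.r2ctx_caseII_torus hctx hp hX
  -- the adjusted element
  have hw₁N : (w₁ : Ω) ∈ Subgroup.normalizer (E : Set Ω) := Subgroup.le_normalizer w₁.2
  have hs₁N : s * (w₁ : Ω) ∈ Subgroup.normalizer (E : Set Ω) := Subgroup.mul_mem _ hsN hw₁N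
  have hs₁S : s * (w₁ : Ω) ∈ S := S.mul_mem hsS (hES w₁.2)
  have ht₁ : E.normalizerMonoidHom ⟨s * (w₁ : Ω), hs₁N⟩ =
      E.normalizerMonoidHom ⟨s, hsN⟩ * MulAut.conj w₁ := by
    rw [nmh_mul E s w₁ hsN hw₁N, nmh_conj]
  set s₁ : Ω := s * (w₁ : Ω) with hs₁def
  set t₁ : MulAut E := E.normalizerMonoidHom ⟨s, hsN⟩ * MulAut.conj w₁ with ht₁def
  have hk1 : ∀ x : E, s₁ * (x : Ω) * s₁⁻¹ = ((t₁ x : E) : Ω) := by
    intro x
    rw [← ht₁]; rfl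
  have hZ₀B : ∀ c ∈ Z₀, c ∈ B := fun c hc => ((hX.Z₀B c).mp hc).1
  have hk3 : ∀ c ∈ B, t₁ c = c := by
    intro c hc
    show E.normalizerMonoidHom ⟨s, hsN⟩ (MulAut.conj w₁ c) = c
    have h1 : MulAut.conj w₁ c = c := by
      rw [MulAut.conj_apply, ← hX.Bcent c hc w₁, mul_inv_cancel_right]
    rw [h1]; exact htB c hc
  -- the extension
  have hN' : ∃ N' : Subgroup Ω, ∀ g : Ω, g ∈ N' ↔ ∃ hg : g ∈ Subgroup.normalizer (E : Set Ω),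
      ∃ g' ∈ S, ∃ hg' : g' ∈ Subgroup.normalizer (E : Set Ω),
        η * E.normalizerMonoidHom ⟨g, hg⟩ * η⁻¹ = E.normalizerMonoidHom ⟨g', hg'⟩ := by
    refine ⟨{ carrier := {g | ∃ hg : g ∈ Subgroup.normalizer (E : Set Ω),
        ∃ g' ∈ S, ∃ hg' : g' ∈ Subgroup.normalizer (E : Set Ω),
          η * E.normalizerMonoidHom ⟨g, hg⟩ * η⁻¹ = E.normalizerMonoidHom ⟨g', hg'⟩}
              mul_mem' := ?_, one_mem' := ?_, inv_mem' := ?_ }, fun g => Iff.rfl⟩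
    · intro a b hab hbb
      obtain ⟨ha, a', ha'S, ha'N, hea⟩ := hab
      obtain ⟨hb, b', hb'S, hb'N, heb⟩ := hbb
      refine ⟨Subgroup.mul_mem _ ha hb, a' * b', S.mul_mem ha'S hb'S, Subgroup.mul_mem _ ha'N hb'N, ?_⟩
      rw [nmh_mul E a b ha hb, nmh_mul E a' b' ha'N hb'N, ← hea, ← heb]
      group
    · refine ⟨Subgroup.one_mem _, 1, S.one_mem, Subgroup.one_mem _, ?_⟩
      rw [nmh_one]; simp
    · intro a haa
      obtain ⟨ha, a', ha'S, ha'N, hea⟩ := haa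
      refine ⟨Subgroup.inv_mem _ ha, a'⁻¹, S.inv_mem ha'S, Subgroup.inv_mem _ ha'N, ?_⟩
      rw [nmh_inv E a ha, nmh_inv E a' ha'N, ← hea]
      group
  obtain ⟨N', hN'⟩ := hN'
  have hEN' : E ≤ N' := by
    intro x hx
    rw [hN']
    refine ⟨Subgroup.le_normalizer hx, ((η ⟨x, hx⟩ : E) : Ω), hES (η ⟨x, hx⟩).2,
      Subgroup.le_normalizer (η ⟨x, hx⟩).2, ?_⟩
    rw [nmh_conj E ⟨x, hx⟩, nmh_conj E (η ⟨x, hx⟩), aut_conj_conj]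
  have hs₁N' : s₁ ∈ N' := by
    rw [hN']
    have h4N : s₁ ^ 4 * (e : Ω) ∈ Subgroup.normalizer (E : Set Ω) :=
      Subgroup.mul_mem _ (Subgroup.pow_mem _ hs₁N 4) (Subgroup.le_normalizer e.2)
    refine ⟨hs₁N, s₁ ^ 4 * (e : Ω), S.mul_mem (S.pow_mem hs₁S 4) (hES e.2), h4N, ?_⟩
    rw [nmh_mul E (s₁ ^ 4) e (Subgroup.pow_mem _ hs₁N 4) (Subgroup.le_normalizer e.2),
      nmh_pow E s₁ hs₁N 4, nmh_conj, ht₁]
    exact hconj
  set N : Subgroup Ω := E ⊔ Subgroup.zpowers s₁ with hNdef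
  have hNN' : N ≤ N' := sup_le hEN' ((Subgroup.zpowers_le).mpr hs₁N')
  have hEN : E ≤ N := le_sup_left
  have hs₁mem : s₁ ∈ N := (le_sup_right : Subgroup.zpowers s₁ ≤ N) (Subgroup.mem_zpowers s₁)
  have hNS : N ≤ S := sup_le hES ((Subgroup.zpowers_le).mpr hs₁S)
  have hNE : N ≤ Subgroup.normalizer (E : Set Ω) := fun g hg => ((hN' g).mp (hNN' hg)).1
  obtain ⟨ψ, hψ, hψE⟩ := Helper29.exists_extension_of_conj p hS F hF E hfn η hηA N hEN hNS hNE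
    (fun g hg => by
      obtain ⟨_, g', hg'S, hg'N, h⟩ := (hN' g).mp (hNN' hg)
      exact ⟨g', hg'S, hg'N, h⟩)
  set ŝ : Ω := ψ ⟨s₁, hs₁mem⟩ with hŝdef
  have hŝS : ŝ ∈ S := (F.le_of_mem hψ).2 _
  have hk4 : ∀ x : E, ŝ * ((η x : E) : Ω) * ŝ⁻¹ = ((η (t₁ x) : E) : Ω) := by
    intro x
    have h1 : (⟨s₁, hs₁mem⟩ : N) * ⟨(x : Ω), hEN x.2⟩ * (⟨s₁, hs₁mem⟩ : N)⁻¹ =
        ⟨((t₁ x : E) : Ω), hEN (t₁ x).2⟩ := Subtype.ext (hk1 x)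
    have h2 := congrArg ψ h1
    rw [map_mul, map_mul, map_inv, hψE, hψE] at h2
    exact h2
  -- ŝ = s₁^4 * e₁
  have h4N : s₁ ^ 4 * (e : Ω) ∈ Subgroup.normalizer (E : Set Ω) :=
    Subgroup.mul_mem _ (Subgroup.pow_mem _ hs₁N 4) (Subgroup.le_normalizer e.2)
  have h4 : E.normalizerMonoidHom ⟨s₁ ^ 4 * (e : Ω), h4N⟩ = η * t₁ * η⁻¹ := by
    rw [nmh_mul E (s₁ ^ 4) e (Subgroup.pow_mem _ hs₁N 4) (Subgroup.le_normalizer e.2),
      nmh_pow E s₁ hs₁N 4, nmh_conj, ht₁]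
    exact hconj.symm
  have hu : (s₁ ^ 4 * (e : Ω))⁻¹ * ŝ ∈ E := by
    apply hcent
    refine ⟨S.mul_mem (S.inv_mem (S.mul_mem (S.pow_mem hs₁S 4) (hES e.2))) hŝS, ?_⟩
    show _ ∈ Subgroup.centralizer (E : Set Ω)
    rw [Subgroup.mem_centralizer_iff]
    intro y hy
    have h5 : ŝ * y * ŝ⁻¹ = (s₁ ^ 4 * (e : Ω)) * y * (s₁ ^ 4 * (e : Ω))⁻¹ := by
      have h6 := hk4 (η⁻¹ ⟨y, hy⟩)
      have h7 : η (η⁻¹ ⟨y, hy⟩) = ⟨y, hy⟩ := by simp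
      rw [h7] at h6
      rw [h6]
      have h8 : η (t₁ (η⁻¹ ⟨y, hy⟩)) = (η * t₁ * η⁻¹) ⟨y, hy⟩ := rfl
      rw [h8, ← h4]
      rfl
    have h9 : y = (s₁ ^ 4 * (e : Ω))⁻¹ * (ŝ * y * ŝ⁻¹) * (s₁ ^ 4 * (e : Ω)) := by rw [h5]; group
    calc y * ((s₁ ^ 4 * (e : Ω))⁻¹ * ŝ)
        = (s₁ ^ 4 * (e : Ω))⁻¹ * (ŝ * y * ŝ⁻¹) * (s₁ ^ 4 * (e : Ω)) * ((s₁ ^ 4 * (e : Ω))⁻¹ * ŝ) := by
          rw [← h9]
      _ = (s₁ ^ 4 * (e : Ω))⁻¹ * ŝ * y := by group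
  have hŝe : ŝ = s₁ ^ 4 * ((e : Ω) * ((s₁ ^ 4 * (e : Ω))⁻¹ * ŝ)) := by group
  -- the endgame
  have hl2 : ∃ c₂ ∈ Z₀, η l = l ^ 2 * c₂ := by
    refine ⟨((η l)⁻¹ * l ^ 2)⁻¹, Z₀.inv_mem hηl, ?_⟩
    group
  have hl'2 : ∃ c₃ ∈ Z₀, η l' = l' ^ mu * c₃ := by
    refine ⟨((η l')⁻¹ * l' ^ mu)⁻¹, Z₀.inv_mem hηl', ?_⟩
    group
  obtain ⟨c₂, hc₂, hηl2⟩ := hl2
  obtain ⟨c₃, hc₃, hηl'2⟩ := hl'2
  have hcoord := Helper46.r2_w_coord hctx.rank Z₀ W hX.Z₀card hX.Z₀W hX.Wexp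
    (fun w hw w' _ => hX.Wcomm w hw w') (fun c hc w _ => hX.Bcent c (hZ₀B c hc) w) l l' hl hl' hnc
  have hs₁E : s₁ ∉ E := by
    intro h
    apply hsE
    have : s = s₁ * (w₁ : Ω)⁻¹ := by rw [hs₁def]; group
    rw [this]
    exact E.mul_mem h (E.inv_mem w₁.2)
  have hs₁p : s₁ ^ p ∈ E := by
    obtain ⟨e', he', h⟩ := pow_mul_mem_of_normalizer E s w₁ hsN w₁.2 p
    rw [hs₁def, h]
    exact E.mul_mem hsp he'
  have hp2 : p ≠ 2 := by omega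
  refine Helper46.r2_endgame p hp2 hS hrank3 E (B.map E.subtype) hES (Subgroup.map_subtype_le B)
    (l : Ω) (l' : Ω) s₁ ŝ l.2 l'.2 hs₁S hs₁E hs₁p ?_ ?_ ?_ ?_ ?_ ?_ ?_ ?_ ?_ ?_ ?_ ?_ hŝS 4
    ((e : Ω) * ((s₁ ^ 4 * (e : Ω))⁻¹ * ŝ)) (E.mul_mem e.2 hu) hŝe 2 mu 1
    ((η l : E) : Ω) ((η l' : E) : Ω) ?_ ?_ ?_ ?_ ?_ ?_ ?_ ?_ ?_ ?_
  · -- hdec
    intro x hx
    obtain ⟨w, hw, c, hc, hxw⟩ := hX.dec ⟨x, hx⟩
    obtain ⟨i, j, c₀, hc₀, hwc⟩ := hcoord w hw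
    refine ⟨i, j, ((c₀ * c : E) : Ω), ⟨c₀ * c, B.mul_mem (hZ₀B c₀ hc₀) hc, rfl⟩, ?_⟩
    have h1 : (⟨x, hx⟩ : E) = l ^ i * l' ^ j * (c₀ * c) := by rw [hxw, hwc]; group
    have h2 := congrArg Subtype.val h1
    simpa using h2
  · -- hBcomm
    rintro _ ⟨a, ha, rfl⟩ _ ⟨b, _, rfl⟩
    exact congrArg Subtype.val (hX.Bcent a ha b)
  · rintro _ ⟨c, hc, rfl⟩
    exact congrArg Subtype.val (hX.Bcent c hc l)
  · rintro _ ⟨c, hc, rfl⟩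
    exact congrArg Subtype.val (hX.Bcent c hc l')
  · -- hBs
    rintro _ ⟨c, hc, rfl⟩
    have h1 := hk1 c
    rw [hk3 c hc] at h1
    have h2 : E.subtype c = (c : Ω) := rfl
    rw [h2]
    calc (c : Ω) * s₁ = s₁ * (c : Ω) * s₁⁻¹ * s₁ := by rw [h1]
      _ = s₁ * (c : Ω) := by group
  · -- hls
    have h1 := hk1 l
    rw [ht₁l] at h1
    calc (l : Ω) * s₁ = s₁ * (l : Ω) * s₁⁻¹ * s₁ := by rw [h1]
      _ = s₁ * (l : Ω) := by group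
  · have := congrArg Subtype.val (hX.Wexp l hl)
    simpa using this
  · have := congrArg Subtype.val (hX.Wexp l' hl')
    simpa using this
  · exact ⟨⁅l, l'⁆, hZ₀B _ (hX.Wcomm l hl l'), rfl⟩
  · intro h
    apply hnc
    apply Subtype.ext
    exact h
  · -- hlB
    rintro ⟨c, hc, hcl⟩
    have : c = l := Subtype.ext hcl
    subst this
    apply hnc
    rw [commutatorElement_def, hX.Bcent c hc l']
    group
  · -- hsl'
    refine ⟨1, Subgroup.one_mem _, ?_⟩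
    have h1 := hk1 l'
    rw [ht₁l'] at h1
    rw [h1]; simp
  · -- hL₁
    refine ⟨(c₂ : Ω), ⟨c₂, hZ₀B c₂ hc₂, rfl⟩, ?_⟩
    rw [hηl2]; simp
  · -- hL₂
    refine ⟨0, (c₃ : Ω), ⟨c₃, hZ₀B c₃ hc₃, rfl⟩, ?_⟩
    rw [hηl'2]; simp
  · -- hŝL₂
    refine ⟨1, Subgroup.one_mem _, ?_⟩
    rw [hk4 l', ht₁l', map_mul]; simp
  · -- hŝL₁
    have h1 := hk4 l
    rw [ht₁l] at h1
    calc ŝ * ((η l : E) : Ω) = ŝ * ((η l : E) : Ω) * ŝ⁻¹ * ŝ := by group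
      _ = ((η l : E) : Ω) * ŝ := by rw [h1]
  · -- hŝB
    rintro _ ⟨c, hc, rfl⟩
    have hc'' : η⁻¹ c ∈ B := hX.Binv η⁻¹ (Subgroup.inv_mem _ hηA) c hc
    have h1 := hk4 (η⁻¹ c)
    rw [hk3 _ hc''] at h1
    have h2 : η (η⁻¹ c) = c := by simp
    rw [h2] at h1
    have h3 : E.subtype c = (c : Ω) := rfl
    rw [h3]
    calc ŝ * (c : Ω) = ŝ * (c : Ω) * ŝ⁻¹ * ŝ := by group
      _ = (c : Ω) * ŝ := by rw [h1]
  · -- hpow
    rintro i _ ⟨c, hc, rfl⟩ hsi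
    obtain ⟨d, hd, hηc⟩ := hηB c hc
    have h1 : (⟨s₁, hs₁mem⟩ : N) ^ p = ⟨((l ^ i * c : E) : Ω), hEN (l ^ i * c).2⟩ := by
      apply Subtype.ext
      simpa using hsi
    have h2 := congrArg ψ h1
    rw [map_pow, hψE, map_mul, map_pow, hηl2, hηc] at h2
    have hcomm : Commute (l ^ 2) c₂ := (hX.Bcent c₂ (hZ₀B c₂ hc₂) (l ^ 2)).symm
    refine ⟨((c₂ ^ i * (c * d ^ p) : E) : Ω),
      ⟨c₂ ^ i * (c * d ^ p), B.mul_mem (B.pow_mem (hZ₀B c₂ hc₂) i) (B.mul_mem hc (B.pow_mem hd p)), rfl⟩,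
      ?_, ?_⟩
    · rw [h2, hcomm.mul_pow, ← pow_mul]
      simp [mul_assoc]
    · rintro ⟨k, rfl⟩
      have hc₂p : c₂ ^ p = 1 := ((hX.Z₀B c₂).mp hc₂).2
      refine ⟨(d : Ω), ⟨d, hd, rfl⟩, ?_⟩
      rw [pow_mul, hc₂p, one_pow, one_mul]
      simp
  · -- h1
    intro h
    have := Nat.le_of_dvd (by norm_num) h
    omega
  · -- h2
    intro h
    obtain ⟨k, rfl⟩ := h
    rw [← mul_assoc, mul_comm 2 p, mul_assoc, Nat.mul_mod_right] at hmu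
    exact absurd hmu (by norm_num)
  · -- h3
    intro h
    have h1 : 2 * mu ≡ 2 * 1 [MOD p] := h.mul_left 2
    have h2 : (2 * mu) % p = (2 * 1) % p := h1
    rw [hmu, Nat.mod_eq_of_lt (by omega)] at h2
    omega
  · -- h4
    intro h
    have h1 : 2 * 2 ≡ 2 * (1 * mu) [MOD p] := h.mul_left 2
    have h2 : (2 * 2) % p = (2 * (1 * mu)) % p := h1
    rw [one_mul, hmu, Nat.mod_eq_of_lt (by omega)] at h2
    omega

end Cfsg.Agent.Helper87
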