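import Mathlib
import Cfsg.Prelude.Def_FusionSystem

/-!
# Rank two, `p ≥ 5` (S5289): elementary lemmas for the pearl case
-/

set_option autoImplicit false

namespace Cfsg.Agent.Helper87

open scoped commutatorElement

/-- In a group where `⁅a, b⁆` commutes with `a` and `b`: `⁅a ^ m, b ^ n⁆ = ⁅a, b⁆ ^ (m * n)`. -/
theorem r2p_comm_pow_pow {G : Type*} [Group G] (a b : G) (ha : Commute ⁅a, b⁆ a) (hb : Commute ⁅a, b⁆ b)
    (m n : ℕ) : ⁅a ^ m, b ^ n⁆ = ⁅a, b⁆ ^ (m * n) := by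
  have hab : a * b = ⁅a, b⁆ * b * a := by rw [commutatorElement_def]; group
  have h1 : ∀ n : ℕ, a * b ^ n = ⁅a, b⁆ ^ n * b ^ n * a := by
    intro n
    induction n with
    | zero => simp
    | succ n ih =>
      calc a * b ^ (n + 1) = (a * b ^ n) * b := by rw [pow_succ, mul_assoc]
        _ = ⁅a, b⁆ ^ n * b ^ n * (a * b) := by rw [ih]; simp only [mul_assoc]
        _ = ⁅a, b⁆ ^ n * b ^ n * (⁅a, b⁆ * b * a) := by rw [← hab]
        _ = ⁅a, b⁆ ^ n * (b ^ n * ⁅a, b⁆) * b * a := by simp only [mul_assoc]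
        _ = ⁅a, b⁆ ^ n * (⁅a, b⁆ * b ^ n) * b * a := by rw [(hb.pow_right n).eq]
        _ = ⁅a, b⁆ ^ (n + 1) * b ^ (n + 1) * a := by rw [pow_succ, pow_succ]; simp only [mul_assoc]
  have h2 : ∀ m : ℕ, a ^ m * b ^ n = ⁅a, b⁆ ^ (m * n) * b ^ n * a ^ m := by
    intro m
    induction m with
    | zero => simp
    | succ m ih =>
      calc a ^ (m + 1) * b ^ n = a * (a ^ m * b ^ n) := by rw [pow_succ', mul_assoc]
        _ = a * (⁅a, b⁆ ^ (m * n) * b ^ n * a ^ m) := by rw [ih]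
        _ = (a * ⁅a, b⁆ ^ (m * n)) * b ^ n * a ^ m := by simp only [mul_assoc]
        _ = (⁅a, b⁆ ^ (m * n) * a) * b ^ n * a ^ m := by rw [(ha.pow_left (m * n)).eq]
        _ = ⁅a, b⁆ ^ (m * n) * (a * b ^ n) * a ^ m := by simp only [mul_assoc]
        _ = ⁅a, b⁆ ^ (m * n) * (⁅a, b⁆ ^ n * b ^ n * a) * a ^ m := by rw [h1 n]
        _ = ⁅a, b⁆ ^ ((m + 1) * n) * b ^ n * a ^ (m + 1) := by
          rw [add_mul, one_mul, pow_add, pow_succ']; simp only [mul_assoc]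
  calc ⁅a ^ m, b ^ n⁆ = (a ^ m * b ^ n) * (a ^ m)⁻¹ * (b ^ n)⁻¹ := by rw [commutatorElement_def]
    _ = ⁅a, b⁆ ^ (m * n) := by rw [h2 m]; group

/-- Central factors do not change a commutator. -/
theorem r2p_comm_mul_central {G : Type*} [Group G] (a b c c' : G) (hcb : Commute c b) (hcc : Commute c c')
    (hc'a : Commute c' a) : ⁅a * c, b * c'⁆ = ⁅a, b⁆ := by
  have hXY : (a * c) * (b * c') = a * b * (c * c') := by
    calc a * c * (b * c') = a * (c * b) * c' := by group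
      _ = a * (b * c) * c' := by rw [hcb.eq]
      _ = a * b * (c * c') := by group
  have hYX : (b * c') * (a * c) = b * a * (c * c') := by
    calc b * c' * (a * c) = b * (c' * a) * c := by group
      _ = b * (a * c') * c := by rw [hc'a.eq]
      _ = b * a * (c' * c) := by group
      _ = b * a * (c * c') := by rw [hcc.eq]
  calc ⁅a * c, b * c'⁆ = (a * c) * (b * c') * ((b * c') * (a * c))⁻¹ := by
        rw [commutatorElement_def]; group
    _ = a * b * (c * c') * (b * a * (c * c'))⁻¹ := by rw [hXY, hYX]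
    _ = ⁅a, b⁆ := by rw [commutatorElement_def]; group

/-- A nontrivial power of an element of order `p` generates it. -/
theorem r2p_pow_inv {G : Type*} [Group G] {p : ℕ} (hp : p.Prime) {l : G} (hl : l ^ p = 1) {k : ℕ}
    (hk : l ^ k ≠ 1) : ∃ m : ℕ, (l ^ k) ^ m = l := by
  have hpk : ¬ p ∣ k := by
    rintro ⟨j, rfl⟩
    apply hk
    rw [pow_mul, hl, one_pow]
  have hcop : Nat.Coprime k p := (Nat.Prime.coprime_iff_not_dvd hp).mpr hpk |>.symm
  obtain ⟨m, -, hm⟩ := Nat.exists_mul_mod_eq_one_of_coprime hcop hp.one_lt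
  refine ⟨m, ?_⟩
  rw [← pow_mul, pow_eq_pow_mod (k * m) hl, hm, pow_one]

/-- `x ^ a = x ^ b` for `x ≠ 1` of order `p` forces `a ≡ b (mod p)`. -/
theorem r2p_modEq_of_pow_eq {G : Type*} [Group G] {p : ℕ} (hp : p.Prime) {z : G} (hz : z ^ p = 1)
    (hz1 : z ≠ 1) {a b : ℕ} (h : z ^ a = z ^ b) : a ≡ b [MOD p] := by
  have : Fact p.Prime := ⟨hp⟩
  have ho : orderOf z = p := orderOf_eq_prime hz hz1
  rw [← ho]
  exact pow_eq_pow_iff_modEq.mp h

/-- A chain `E < N ≤ Q < S` with `|E| = p ^ 2` and `|S| = p ^ 4` has `N = Q`. -/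
theorem r2p_eq_of_chain {Ω : Type*} [Group Ω] {p : ℕ} (hp : p.Prime) (E N Q S : Subgroup Ω) [Finite S]
    (hEN : E ≤ N) (hNQ : N ≤ Q) (hQS : Q ≤ S) (hE : Nat.card E = p ^ 2) (hS : Nat.card S = p ^ 4)
    (hne1 : E ≠ N) (hne2 : Q ≠ S) : N = Q := by
  have hQfin : Finite Q := Finite.of_injective _ (Subgroup.inclusion_injective hQS)
  have hNfin : Finite N := Finite.of_injective _ (Subgroup.inclusion_injective hNQ)
  have h1 : Nat.card Q ∣ p ^ 4 := hS ▸ Subgroup.card_dvd_of_le hQS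
  have h2 : Nat.card N ∣ Nat.card Q := Subgroup.card_dvd_of_le hNQ
  have h3 : p ^ 2 ∣ Nat.card N := hE ▸ Subgroup.card_dvd_of_le hEN
  obtain ⟨b, hb4, hb⟩ := (Nat.dvd_prime_pow hp).mp h1
  rw [hb] at h2
  obtain ⟨a, hab, ha⟩ := (Nat.dvd_prime_pow hp).mp h2
  rw [ha] at h3
  have h2a : 2 ≤ a := (Nat.pow_dvd_pow_iff_le_right hp.one_lt).mp h3
  have hb3 : b ≠ 4 := by
    rintro rfl
    apply hne2
    exact Subgroup.eq_of_le_of_card_ge hQS (by rw [hS, hb])
  have ha2 : a ≠ 2 := by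
    rintro rfl
    apply hne1
    exact Subgroup.eq_of_le_of_card_ge hEN (by rw [hE, ha])
  have hab' : a = b := by omega
  exact Subgroup.eq_of_le_of_card_ge hNQ (by rw [ha, hb, hab'])

end Cfsg.Agent.Helper87
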