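import Mathlib
import Cfsg.Agent.Helper87.R2Defs
import Cfsg.Agent.Helper29.R2F2
import Cfsg.Agent.Helper29.R2X
import Cfsg.Agent.Helper84.AbIdxF
import Cfsg.Agent.Helper53.R2CaseI
import Cfsg.Agent.Helper46.R2End
import Cfsg.Agent.Helper41.FusChainA
import Cfsg.Agent.Helper41.FusChainB
import Cfsg.Agent.Helper51.PearlTorus
import Cfsg.Agent.Helper52.Mc3FourT
import Cfsg.Agent.Helper87.R2PearlA
import Cfsg.Agent.Helper87.R2Fin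

/-!
# Rank two, `p ≥ 5` (S5289): the pearl case with `|S| = p ^ 4`

`E` essential, elementary abelian of order `p ^ 2`, `S` of maximal class of order `p ^ 4`. The torus element
`η ∈ Aut_F(E)` (helper51's `pearl_torus`) extends to `Q = N_S(E)` (extraspecial of order `p ^ 3`); either the
extension moves `Z₂(S)` and `Q` is centric radical (helper41's `radical_of_moved_axis`), which is excluded
by `no_radical_caseII`, or it extends to `S` (helper41's `extend_of_chain`) and helper46's `r2_endgame`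
applies.
-/

set_option autoImplicit false

namespace Cfsg.Agent.Helper87

open Cfsg Cfsg.FusionSystem
open scoped commutatorElement

variable {Ω : Type*} [Group Ω] {S : Subgroup Ω}

/-- The elements `g` of `N(E)` for which `η c_g η⁻¹` is induced by an element of `S` form a subgroup. -/
theorem r2p_exists_conj_subgroup (S E : Subgroup Ω) (η : MulAut E) :
    ∃ N' : Subgroup Ω, ∀ g : Ω, g ∈ N' ↔ ∃ hg : g ∈ Subgroup.normalizer (E : Set Ω),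
      ∃ g' ∈ S, ∃ hg' : g' ∈ Subgroup.normalizer (E : Set Ω),
        η * E.normalizerMonoidHom ⟨g, hg⟩ * η⁻¹ = E.normalizerMonoidHom ⟨g', hg'⟩ := by
  refine ⟨{ carrier := {g | ∃ hg : g ∈ Subgroup.normalizer (E : Set Ω),
      ∃ g' ∈ S, ∃ hg' : g' ∈ Subgroup.normalizer (E : Set Ω),
        η * E.normalizerMonoidHom ⟨g, hg⟩ * η⁻¹ = E.normalizerMonoidHom ⟨g', hg'⟩}
            mul_mem' := ?_, one_mem' := ?_, inv_mem' := ?_ }, fun g => Iff.rfl⟩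
  · intro a b hab hbb
    obtain ⟨ha, a', ha'S, ha'N, hea⟩ := hab
    obtain ⟨hb, b', hb'S, hb'N, heb⟩ := hbb
    refine ⟨Subgroup.mul_mem _ ha hb, a' * b', S.mul_mem ha'S hb'S, Subgroup.mul_mem _ ha'N hb'N, ?_⟩
    rw [nmh_mul E a b ha hb, nmh_mul E a' b' ha'N hb'N, ← hea, ← heb]
    group
  · refine ⟨Subgroup.one_mem _, 1, S.one_mem, Subgroup.one_mem _, ?_⟩
    rw [nmh_one]; simp
  · intro a haa
    obtain ⟨ha, a', ha'S, ha'N, hea⟩ := haa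
    refine ⟨Subgroup.inv_mem _ ha, a'⁻¹, S.inv_mem ha'S, Subgroup.inv_mem _ ha'N, ?_⟩
    rw [nmh_inv E a ha, nmh_inv E a' ha'N, ← hea]
    group

theorem r2p_mem_conj_subgroup {S E : Subgroup Ω} (hES : E ≤ S) (η : MulAut E) (x : Ω) (hx : x ∈ E) :
    ∃ hg : x ∈ Subgroup.normalizer (E : Set Ω),
      ∃ g' ∈ S, ∃ hg' : g' ∈ Subgroup.normalizer (E : Set Ω),
        η * E.normalizerMonoidHom ⟨x, hg⟩ * η⁻¹ = E.normalizerMonoidHom ⟨g', hg'⟩ := by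
  refine ⟨Subgroup.le_normalizer hx, ((η ⟨x, hx⟩ : E) : Ω), hES (η ⟨x, hx⟩).2,
    Subgroup.le_normalizer (η ⟨x, hx⟩).2, ?_⟩
  rw [nmh_conj E ⟨x, hx⟩, nmh_conj E (η ⟨x, hx⟩), aut_conj_conj]

/-- **The pearl case with `|S| = p ^ 4`** is impossible. -/
theorem r2p_pearl_four [Finite S] (p : ℕ) [Fact p.Prime] (hS : IsPGroup p S) (F : Cfsg.FusionSystem S)
    (hF : F.IsSaturated p) (hp : 5 ≤ p)
    (hrank3 : ∀ E' : Subgroup Ω, E' ≤ S → Cfsg.IsElementaryAbelian p E' → Nat.card E' ≤ p ^ 2)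
    (E : Subgroup Ω) (hc : F.IsCentric E) (hfn : F.IsFullyNormalized E)
    (s : Ω) (hsS : s ∈ S) (hsN : s ∈ Subgroup.normalizer (E : Set Ω)) (hsE : s ∉ E)
    (hctx : R2Ctx p ↥E (F.autGroup E) (E.normalizerMonoidHom ⟨s, hsN⟩))
    (hEcard : Nat.card E = p ^ 2) (hEab : ∀ a b : E, a * b = b * a) (hEexp : ∀ a : E, a ^ p = 1)
    (gA : MulAut E) (hgA : gA ∈ F.autGroup E) (r : E)
    (hr : E.normalizerMonoidHom ⟨s, hsN⟩ r = r)
    (hgr : E.normalizerMonoidHom ⟨s, hsN⟩ (gA r) ≠ gA r)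
    (x : S) (hxE : (x : Ω) ∈ E) (h : MC3 ↥S p 4 x) (hCx : ∀ g : S, g * x = x * g → (g : Ω) ∈ E) :
    False := by
  have hpp : p.Prime := Fact.out
  have hp2 : p ≠ 2 := by omega
  have hES : E ≤ S := hc.1
  have hcent : centralizerIn S E ≤ E := hc.2 E (Helper84.isConj_refl F hES)
  have : Finite E := hctx.fin
  set t : MulAut E := E.normalizerMonoidHom ⟨s, hsN⟩ with htdef
  have htp : t ^ p = 1 := by
    obtain ⟨e₀, he₀⟩ := hctx.tpow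
    rw [he₀]
    ext u
    simp only [MulAut.conj_apply, MulAut.one_apply]
    rw [hEab e₀ u, mul_inv_cancel_right]
  obtain ⟨l, l', η, mu, hηA, hmu, hl1, htl, htl', hηl, hηl', hcoord, hfixt, hηu, hconj⟩ :=
    Helper51.pearl_torus hp2 hEcard hEab hEexp (F.autGroup E) t hctx.tA htp gA hgA r hr hgr
  obtain ⟨Z₁, Z₂, Q, g, h12, h2Q, hQS, hxQ, hgS, hgQ, hgp, hZ₁card, hc1, hc2, hc3, hZ₂exp, hgZ₂, hNQ,
    hcos, hle2, hle1, hlex, hQdec, hZ₂dec, hfix⟩ := Helper52.mc3_four_transport h hp2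
  -- `Z₁ ≤ E`
  have hZ₁E : Z₁ ≤ E := by
    intro c hcZ
    apply hcent
    have hcS : c ∈ S := hQS (h2Q (h12 hcZ))
    refine ⟨hcS, ?_⟩
    show _ ∈ Subgroup.centralizer (E : Set Ω)
    rw [Subgroup.mem_centralizer_iff]
    intro y hy
    exact hc1 y (hES hy) c hcZ
  have hk1 : ∀ u : E, s * (u : Ω) * s⁻¹ = ((t u : E) : Ω) := fun u => rfl
  have hZ₁l : ∀ c ∈ Z₁, ∃ k : ℕ, c = (l : Ω) ^ k := by
    intro c hcZ
    have hcE : c ∈ E := hZ₁E hcZ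
    have h1 : t ⟨c, hcE⟩ = ⟨c, hcE⟩ := by
      apply Subtype.ext
      rw [← hk1]
      show s * c * s⁻¹ = c
      rw [hc1 s hsS c hcZ, mul_inv_cancel_right]
    obtain ⟨k, hk⟩ := hfixt _ h1
    exact ⟨k, by simpa using congrArg Subtype.val hk⟩
  have hlp : (l : Ω) ^ p = 1 := by simpa using congrArg Subtype.val (hEexp l)
  have hlZ₁ : (l : Ω) ∈ Z₁ := by
    have hne : Z₁ ≠ ⊥ := by
      intro hbot
      rw [hbot, Subgroup.card_bot] at hZ₁card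
      exact hpp.one_lt.ne' hZ₁card.symm
    obtain ⟨⟨c, hcZ⟩, hcne⟩ := (Subgroup.ne_bot_iff_exists_ne_one).mp hne
    have hc1' : c ≠ 1 := fun h => hcne (Subtype.ext h)
    obtain ⟨k, hk⟩ := hZ₁l c hcZ
    obtain ⟨m, hm⟩ := r2p_pow_inv hpp hlp (k := k) (by rwa [← hk])
    rw [← hm, ← hk]
    exact Z₁.pow_mem hcZ m
  have hηZ₁ : ∀ c (hcZ : c ∈ Z₁), ((η ⟨c, hZ₁E hcZ⟩ : E) : Ω) = c ^ 2 := by
    intro c hcZ
    obtain ⟨k, hk⟩ := hZ₁l c hcZ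
    have h1 : (⟨c, hZ₁E hcZ⟩ : E) = l ^ k := Subtype.ext (by simpa using hk)
    rw [h1, map_pow, hηl]
    simp only [Subgroup.coe_pow]
    rw [hk, ← pow_mul, ← pow_mul, mul_comm]
  -- elements of `S` normalizing `E` lie in `Q`
  have hxE' : ∀ y ∈ S, (∀ e ∈ E, y * e * y⁻¹ ∈ E) → y ∈ Q := by
    intro y hyS hy
    apply hNQ y hyS
    have h1 := hy (x : Ω) hxE
    have h2 := hEab ⟨_, h1⟩ ⟨(x : Ω), hxE⟩
    exact congrArg Subtype.val h2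
  have hEQ : E ≤ Q := by
    intro e he
    apply hxE' e (hES he)
    intro e' he'
    exact E.mul_mem (E.mul_mem he he') (E.inv_mem he)
  have hsQ : s ∈ Q := by
    apply hxE' s hsS
    intro e he
    exact (Subgroup.mem_normalizer_iff.mp hsN e).mp he
  have hQne : Q ≠ S := fun hQ => hgQ (hQ ▸ hgS)
  have hNQ' : E ⊔ Subgroup.zpowers s = Q := by
    apply r2p_eq_of_chain hpp E _ Q S le_sup_left (sup_le hEQ ((Subgroup.zpowers_le).mpr hsQ)) hQS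
      hEcard h.card ?_ hQne
    intro hE
    apply hsE
    have hmem : s ∈ E ⊔ Subgroup.zpowers s :=
      (le_sup_right : Subgroup.zpowers s ≤ _) (Subgroup.mem_zpowers s)
    exact hE.ge hmem
  have hQN : Q ≤ Subgroup.normalizer (E : Set Ω) := by
    rw [← hNQ']
    exact sup_le Subgroup.le_normalizer ((Subgroup.zpowers_le).mpr hsN)
  -- the extension of `η` to `Q`
  obtain ⟨N', hN'⟩ := r2p_exists_conj_subgroup S E η
  have hEN' : E ≤ N' := fun e he => (hN' e).mpr (r2p_mem_conj_subgroup hES η e he)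
  have hsN' : s ∈ N' := by
    rw [hN']
    refine ⟨hsN, s ^ 4, S.pow_mem hsS 4, Subgroup.pow_mem _ hsN 4, ?_⟩
    rw [nmh_pow E s hsN 4]
    exact hconj
  have hQN' : Q ≤ N' := by
    rw [← hNQ']
    exact sup_le hEN' ((Subgroup.zpowers_le).mpr hsN')
  obtain ⟨ψ₁, hψ₁, hψ₁E⟩ := Helper29.exists_extension_of_conj p hS F hF E hfn η hηA Q hEQ hQS hQN
    (fun g hg => by
      obtain ⟨_, g', hg'S, hg'N, h⟩ := (hN' g).mp (hQN' hg)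
      exact ⟨g', hg'S, hg'N, h⟩)
  have hψ₁S : ∀ q : Q, ψ₁ q ∈ S := fun q => (F.le_of_mem hψ₁).2 q
  have hψ₁Q : ∀ q : Q, ψ₁ q ∈ Q := by
    intro q
    apply hxE' _ (hψ₁S q)
    intro e he
    have h1 : ((η (η⁻¹ ⟨e, he⟩) : E) : Ω) = e := by simp
    have hqe : (q : Ω) * ((η⁻¹ ⟨e, he⟩ : E) : Ω) * (q : Ω)⁻¹ ∈ E :=
      (Subgroup.mem_normalizer_iff.mp (hQN q.2) _).mp (η⁻¹ ⟨e, he⟩).2
    have h2 : ψ₁ q * e * (ψ₁ q)⁻¹ = ((η ⟨_, hqe⟩ : E) : Ω) := by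
      rw [← hψ₁E ⟨_, hqe⟩]
      nth_rewrite 1 [← h1]
      rw [← hψ₁E (η⁻¹ ⟨e, he⟩), ← map_inv, ← map_mul, ← map_mul]
      rfl
    rw [h2]
    exact (η ⟨_, hqe⟩).2
  have : Finite Q := Helper84.finite_of_le hQS
  obtain ⟨η₁, hη₁A, hη₁⟩ := Helper84.exists_aut_of_hom F hQS hψ₁ hψ₁Q
  have hη₁E : ∀ e : E, ((η₁ ⟨e, hEQ e.2⟩ : Q) : Ω) = ((η e : E) : Ω) := fun e => by
    rw [hη₁, hψ₁E]
  have hθ1 : ∀ q : Q, (q : Ω) ∈ Z₁ → ((η₁ q : Q) : Ω) ∈ Z₁ := by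
    intro q hq
    have h1 : ((η₁ q : Q) : Ω) = (q : Ω) ^ 2 :=
      (hη₁E ⟨(q : Ω), hZ₁E hq⟩).trans (hηZ₁ _ hq)
    rw [h1]
    exact Z₁.pow_mem hq 2
  have hc3' : ∀ u ∈ S, ∀ q ∈ Q, ⁅u, q⁆ ∈ Z₂ := fun u hu q hq => hc3 u hu q (hQS hq)
  by_cases hθ2 : ∃ q : Q, (q : Ω) ∈ Z₂ ∧ ((η₁ q : Q) : Ω) ∉ Z₂
  · -- `η₁` moves `Z₂`: `Q` is centric radical
    have hcenQ : ∀ u ∈ S, (∀ q ∈ Q, u * q = q * u) → u ∈ Q := by
      intro u hu huq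
      apply hNQ u hu
      rw [huq (x : Ω) hxQ, mul_inv_cancel_right]
    obtain ⟨hQc, hQfn, hQrad⟩ := Helper41.radical_of_moved_axis p hS F hF Z₁ Z₂ Q h12 h2Q hQS hc1 hc2 hc3' hfix
      hcenQ η₁ hη₁A hθ1 hθ2
    by_cases hII : NoInvE2 p (F.autGroup Q)
    · exact no_radical_caseII p hS F hF hp hrank3 Q hQc hQfn hQrad hQne hII
    · unfold NoInvE2 at hII
      rw [not_not] at hII
      obtain ⟨R, hRA, hRab, hRexp, hRcard⟩ := hII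
      obtain ⟨s', hs'S, hs'N, hs'Q, hs'p, hctxQ⟩ :=
        Helper29.r2ctx_of_radical p hS F hF Q hQc hQfn hQrad hQne hrank3
      obtain ⟨hRtop, -⟩ := Helper53.r2ctx_caseI hctxQ hp R hRA hRab hRexp hRcard
      have h1 : (⟨s, hsQ⟩ : Q) * ⟨(x : Ω), hxQ⟩ = ⟨(x : Ω), hxQ⟩ * ⟨s, hsQ⟩ :=
        hRab _ (hRtop ▸ Subgroup.mem_top _) _ (hRtop ▸ Subgroup.mem_top _)
      have h2 : s * (x : Ω) = (x : Ω) * s := congrArg Subtype.val h1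
      exact hsE (hCx ⟨s, hsS⟩ (Subtype.ext h2))
  · -- `η₁` preserves `Z₂`: it extends to `S`
    have hθ2' : ∀ q : Q, (q : Ω) ∈ Z₂ → ((η₁ q : Q) : Ω) ∈ Z₂ := by
      intro q hq
      by_contra hcon
      exact hθ2 ⟨q, hq, hcon⟩
    obtain ⟨ψ₂, hψ₂, hψ₂Q⟩ := Helper41.extend_of_chain p hS F hF Z₁ Z₂ Q h12 h2Q hQS hc1 hc2 hc3' η₁ hη₁A hθ1
      hθ2'
    have hψ₂S : ∀ u : S, ψ₂ u ∈ S := fun u => (F.le_of_mem hψ₂).2 u
    set le : Ω := ⁅g, (x : Ω)⁆ with hle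
    have hleQ : le ∈ Q := h2Q hle2
    have hleS : le ∈ S := hQS hleQ
    have hxS : (x : Ω) ∈ S := x.2
    have hψ₂Z₁ : ∀ c (hcZ : c ∈ Z₁), ψ₂ ⟨c, hQS (h2Q (h12 hcZ))⟩ = c ^ 2 := by
      intro c hcZ
      exact (hψ₂Q ⟨c, h2Q (h12 hcZ)⟩).trans ((hη₁E ⟨c, hZ₁E hcZ⟩).trans (hηZ₁ c hcZ))
    have hL₁Z₂ : ψ₂ ⟨le, hleS⟩ ∈ Z₂ := by
      have h1 : ψ₂ ⟨le, hleS⟩ = ((η₁ ⟨le, hleQ⟩ : Q) : Ω) := hψ₂Q ⟨le, hleQ⟩
      rw [h1]
      exact hθ2' ⟨le, hleQ⟩ hle2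
    obtain ⟨lam₁, c₁, hc₁, hL₁⟩ := hZ₂dec _ hL₁Z₂
    obtain ⟨k, hk⟩ := hηu ⟨(x : Ω), hxE⟩
    have hL₂ : ψ₂ x = (x : Ω) ^ mu * (l : Ω) ^ k := by
      have h1 : ψ₂ x = ((η₁ ⟨(x : Ω), hxQ⟩ : Q) : Ω) := hψ₂Q ⟨(x : Ω), hxQ⟩
      rw [h1, hη₁E ⟨(x : Ω), hxE⟩, hk]
      simp
    set z : Ω := ⁅le, (x : Ω)⁆ with hz
    have hzZ₁ : z ∈ Z₁ := by
      have h1 := hc2 (x : Ω) hxS le hle2
      have h2 : z = ⁅(x : Ω), le⁆⁻¹ := by rw [hz, commutatorElement_inv]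
      rw [h2]
      exact Z₁.inv_mem h1
    have hz1 : z ≠ 1 := hlex
    have hzp : z ^ p = 1 := hZ₂exp z (h12 hzZ₁)
    have hcen : ∀ c ∈ Z₁, ∀ u ∈ S, Commute c u := fun c hcZ u hu => (hc1 u hu c hcZ).symm
    have hzS : z ∈ S := hQS (h2Q (h12 hzZ₁))
    have hψz : ψ₂ ⟨z, hzS⟩ = z ^ 2 := hψ₂Z₁ z hzZ₁
    have hψz' : ψ₂ ⟨z, hzS⟩ = ⁅ψ₂ ⟨le, hleS⟩, ψ₂ x⁆ := by
      rw [← map_commutatorElement]
      rfl
    have hlkZ : (l : Ω) ^ k ∈ Z₁ := Z₁.pow_mem hlZ₁ k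
    have hzpow : z ^ (lam₁ * mu) = z ^ 2 := by
      rw [← hψz, hψz', hL₁, hL₂,
        r2p_comm_mul_central _ _ _ _ (hcen c₁ hc₁ _ (S.pow_mem hxS mu))
          (hcen c₁ hc₁ _ (hQS (h2Q (h12 hlkZ)))) (hcen _ hlkZ _ (S.pow_mem hleS lam₁)),
        r2p_comm_pow_pow le (x : Ω) (hcen z hzZ₁ le hleS) (hcen z hzZ₁ _ hxS)]
    have hmod : lam₁ * mu ≡ 2 [MOD p] := r2p_modEq_of_pow_eq hpp hzp hz1 hzpow
    have hmu' : 2 * mu ≡ 1 [MOD p] := by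
      show (2 * mu) % p = 1 % p
      rw [hmu, Nat.mod_eq_of_lt hpp.one_lt]
    have hlam : lam₁ ≡ 4 [MOD p] := by
      have h1 : lam₁ * (2 * mu) ≡ lam₁ * 1 [MOD p] := hmu'.mul_left lam₁
      have h2 : 2 * (lam₁ * mu) ≡ 2 * 2 [MOD p] := hmod.mul_left 2
      have h3 : lam₁ * (2 * mu) = 2 * (lam₁ * mu) := by ring
      rw [h3] at h1
      simpa using h1.symm.trans h2
    obtain ⟨m, e₁, he₁, hŝe⟩ := hcos (ψ₂ ⟨g, hgS⟩) (hψ₂S _)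
    refine Helper46.r2_endgame p hp2 hS hrank3 Q Z₁ hQS (h12.trans h2Q) le (x : Ω) g (ψ₂ ⟨g, hgS⟩) hleQ hxQ hgS
      hgQ (h2Q hgp) hQdec ?_ ?_ ?_ ?_ ?_ (hZ₂exp le hle2) ?_ hzZ₁ hz1 hle1 ?_ (hψ₂S _) m e₁ he₁ hŝe
      lam₁ mu 2 (ψ₂ ⟨le, hleS⟩) (ψ₂ x) ⟨c₁, hc₁, hL₁⟩ ⟨0, (l : Ω) ^ k, hlkZ, by rw [hL₂]; simp⟩
      ?_ ?_ ?_ ?_ ?_ ?_ ?_ ?_
    · -- hBcomm
      intro a ha b hb
      exact hc1 a (hQS (h2Q (h12 ha))) b hb
    · exact fun c hc => (hc1 le hleS c hc).symm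
    · exact fun c hc => (hc1 _ hxS c hc).symm
    · exact fun c hc => (hc1 g hgS c hc).symm
    · exact (hgZ₂ le hle2).symm
    · simpa using congrArg Subtype.val (hEexp ⟨(x : Ω), hxE⟩)
    · exact ⟨1, Z₁.one_mem, by rw [hle, commutatorElement_def]; group⟩
    · -- hŝL₂
      refine ⟨1, Z₁.one_mem, ?_⟩
      have h1 : (⟨g, hgS⟩ : S) * x * (⟨g, hgS⟩ : S)⁻¹ = ⟨le, hleS⟩ * x := by
        apply Subtype.ext
        show g * (x : Ω) * g⁻¹ = le * (x : Ω)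
        rw [hle, commutatorElement_def]; group
      have h2 := congrArg ψ₂ h1
      rw [map_mul, map_mul, map_inv, map_mul] at h2
      rw [h2, mul_one]
    · -- hŝL₁
      have h1 : (⟨g, hgS⟩ : S) * ⟨le, hleS⟩ = ⟨le, hleS⟩ * ⟨g, hgS⟩ := Subtype.ext (hgZ₂ le hle2)
      have h2 := congrArg ψ₂ h1
      rw [map_mul, map_mul] at h2
      exact h2
    · exact fun c hc => hc1 _ (hψ₂S _) c hc
    · -- hpow
      intro i c hcZ hgi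
      have h1 : (⟨g, hgS⟩ : S) ^ p = ⟨le, hleS⟩ ^ i * ⟨c, hQS (h2Q (h12 hcZ))⟩ := by
        apply Subtype.ext
        simpa using hgi
      have h2 := congrArg ψ₂ h1
      rw [map_pow, map_mul, map_pow, hL₁, hψ₂Z₁ c hcZ] at h2
      have hcomm : Commute (le ^ lam₁) c₁ := (hcen c₁ hc₁ _ (S.pow_mem hleS lam₁)).symm
      refine ⟨c₁ ^ i * c ^ 2, Z₁.mul_mem (Z₁.pow_mem hc₁ i) (Z₁.pow_mem hcZ 2), ?_, ?_⟩
      · rw [h2, hcomm.mul_pow, ← pow_mul, mul_assoc]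
      · rintro ⟨j, rfl⟩
        refine ⟨1, Z₁.one_mem, ?_⟩
        rw [pow_mul, hZ₂exp c₁ (h12 hc₁), one_pow, one_mul, one_pow, mul_one]
    · -- h1
      intro hd
      have h1 : lam₁ ≡ 0 [MOD p] := (Nat.modEq_zero_iff_dvd).mpr hd
      have h2 : 4 ≡ 0 [MOD p] := hlam.symm.trans h1
      have h3 : p ∣ 4 := (Nat.modEq_zero_iff_dvd).mp h2
      have := Nat.le_of_dvd (by norm_num) h3
      omega
    · -- h2
      intro hd
      have h1 : 2 * mu ≡ 0 [MOD p] := (Nat.modEq_zero_iff_dvd).mpr (Dvd.dvd.mul_left hd 2)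
      have h2 : 1 ≡ 0 [MOD p] := hmu'.symm.trans h1
      have h3 : p ∣ 1 := (Nat.modEq_zero_iff_dvd).mp h2
      have := Nat.le_of_dvd (by norm_num) h3
      omega
    · -- h3
      intro hm1
      have h1 : 2 * mu ≡ 2 * 1 [MOD p] := hm1.mul_left 2
      have h2 : 1 ≡ 2 [MOD p] := hmu'.symm.trans h1
      have h3 : p ∣ 2 - 1 := (Nat.modEq_iff_dvd' (by norm_num)).mp h2
      have := Nat.le_of_dvd (by norm_num) h3
      omega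
    · -- h4
      intro h41
      have h2 : 1 ≡ 4 [MOD p] := hmu'.symm.trans (h41.symm.trans hlam)
      have h3 : p ∣ 4 - 1 := (Nat.modEq_iff_dvd' (by norm_num)).mp h2
      have := Nat.le_of_dvd (by norm_num) h3
      omega

end Cfsg.Agent.Helper87
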