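import Mathlib
import Cfsg.Agent.Helper87.R2PearlB
import Cfsg.Agent.Helper29.R2F
import Cfsg.Agent.Helper29.Pearl
import Cfsg.Agent.Helper41.PearlMC3
import Cfsg.Agent.Helper2.Mc3Z
import Cfsg.Agent.Helper31.EssA
import Cfsg.Agent.Helper84.FusionNormal

/-!
# Rank two, `p ≥ 5` (S5289): a saturated fusion system on a `p`-group of rank two has no essential
subgroup, unless `S` is extraspecial of order `p ^ 3` and exponent `p`

Assembly of the cases: no invariant `E_{p^2}` (`no_radical_caseII`), and the pearl case, where `S` has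
maximal class of order `p ^ n` (helper41's `pearl_mc3`): `n = 3` is the excluded group (helper29's
`pearl_order_cube`), `n = 4` is `r2p_pearl_four`, `n ≥ 5` has an elementary abelian `Z₃(S)` of order `p ^ 3`
(helper2's `mc3_Z3_elemAb`).
-/

set_option autoImplicit false

namespace Cfsg.Agent.Helper87

open Cfsg Cfsg.FusionSystem
open scoped commutatorElement

variable {Ω : Type*} [Group Ω] {S : Subgroup Ω}

theorem r2_no_essential [Finite S] (p : ℕ) [Fact p.Prime] (hS : IsPGroup p S) (F : Cfsg.FusionSystem S)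
    (hF : F.IsSaturated p) (hp : 5 ≤ p)
    (hrank3 : ∀ E' : Subgroup Ω, E' ≤ S → Cfsg.IsElementaryAbelian p E' → Nat.card E' ≤ p ^ 2)
    (hnotE : ¬ (Nat.card S = p ^ 3 ∧ Monoid.exponent ↥S = p))
    (E : Subgroup Ω) (hE : F.IsEssential p E) : False := by
  have hpp : p.Prime := Fact.out
  have hp2 : p ≠ 2 := by omega
  have hc : F.IsCentric E := hE.1
  have hfn : F.IsFullyNormalized E := hE.2.1
  have hES : E ≤ S := hc.1
  have hcent : centralizerIn S E ≤ E := hc.2 E (Helper84.isConj_refl F hES)
  have hrad := Helper84.essential_radical p hS F E hE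
  have hne : E ≠ S := by
    intro h
    subst h
    exact Helper31.not_essential_top hS F hF hE
  by_cases hII : NoInvE2 p (F.autGroup E)
  · exact no_radical_caseII p hS F hF hp hrank3 E hc hfn hrad hne hII
  · unfold NoInvE2 at hII
    rw [not_not] at hII
    obtain ⟨R, hRA, hRab, hRexp, hRcard⟩ := hII
    obtain ⟨s, hsS, hsN, hsE, hsp, hctx⟩ := Helper29.r2ctx_of_essential p hS F hF E hE hrank3
    obtain ⟨hRtop, gA, hgA, r, hrR, hr, hgr⟩ := Helper53.r2ctx_caseI hctx hp R hRA hRab hRexp hRcard
    have : Finite E := hctx.fin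
    have hEcard : Nat.card E = p ^ 2 := by rw [← hRcard, hRtop, Subgroup.card_top]
    have hEab : ∀ a b : E, a * b = b * a := fun a b =>
      hRab a (hRtop ▸ Subgroup.mem_top a) b (hRtop ▸ Subgroup.mem_top b)
    have hEexp : ∀ a : E, a ^ p = 1 := fun a => hRexp a (hRtop ▸ Subgroup.mem_top a)
    obtain ⟨n, x, hxE, h, hCx⟩ := Helper41.pearl_mc3 p hS E hES hne
      (fun g hg hgx => hcent ⟨hg, Subgroup.mem_centralizer_iff.mpr (fun y hy => (hgx y hy).symm)⟩)
      hEcard (fun a ha b hb => congrArg Subtype.val (hEab ⟨a, ha⟩ ⟨b, hb⟩))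
    have h3 := h.three
    rcases Nat.lt_or_ge n 4 with hn | hn
    · -- `|S| = p ^ 3`
      have hn3 : n = 3 := by omega
      subst hn3
      apply hnotE
      have hcube := Helper29.pearl_order_cube p hp2 hS F hF E hE
        (Or.inl ⟨hEcard, fun y hy => ⟨by simpa using congrArg Subtype.val (hEexp ⟨y, hy⟩),
          ⟨⟨fun a b => hEab a b⟩⟩⟩⟩) h.card
      exact ⟨h.card, hcube.2⟩
    · rcases Nat.lt_or_ge n 5 with hn5 | hn5
      · have hn4 : n = 4 := by omega
        subst hn4
        exact r2p_pearl_four p hS F hF hp hrank3 E hc hfn s hsS hsN hsE hctx hEcard hEab hEexp gA hgA r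
          hr hgr x hxE h hCx
      · -- `|S| ≥ p ^ 5`: `Z₃(S)` is elementary abelian of order `p ^ 3`
        obtain ⟨hZab, hZexp, hZcard⟩ := Helper2.mc3_Z3_elemAb h hp hn5
        have hle : (Subgroup.upperCentralSeries S 3).map S.subtype ≤ S := Subgroup.map_subtype_le _
        have hel : Cfsg.IsElementaryAbelian p ((Subgroup.upperCentralSeries S 3).map S.subtype) := by
          refine ⟨⟨⟨fun a b => ?_⟩⟩, ?_⟩
          · obtain ⟨a', ha', haa⟩ := a.2
            obtain ⟨b', hb', hbb⟩ := b.2
            apply Subtype.ext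
            show (a : Ω) * (b : Ω) = (b : Ω) * (a : Ω)
            rw [← haa, ← hbb]
            exact congrArg Subtype.val (hZab a' ha' b' hb')
          · rintro _ ⟨a', ha', rfl⟩
            exact congrArg Subtype.val (hZexp a' ha')
        have hcard : Nat.card ((Subgroup.upperCentralSeries S 3).map S.subtype) = p ^ 3 := by
          rw [Subgroup.card_map_of_injective (Subgroup.subtype_injective S), hZcard]
        have hle3 := hrank3 _ hle hel
        rw [hcard] at hle3
        have := (Nat.pow_le_pow_iff_right hpp.one_lt).mp hle3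
        omega

/-- **S5289**: for `p ≥ 5`, a `p`-group of rank two other than `p_+^{1+2}` is resistant. -/
theorem r2_resistant [Finite S] (p : ℕ) [Fact p.Prime] (hS : IsPGroup p S) (F : Cfsg.FusionSystem S)
    (hF : F.IsSaturated p) (hp : 5 ≤ p)
    (hrank3 : ∀ E' : Subgroup Ω, E' ≤ S → Cfsg.IsElementaryAbelian p E' → Nat.card E' ≤ p ^ 2)
    (hnotE : ¬ (Nat.card S = p ^ 3 ∧ Monoid.exponent ↥S = p)) : F.IsNormal S := by
  rw [Helper84.normal_iff_essential p hS F hF S]
  intro P hP
  rcases hP with hPS | hess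
  · rw [hPS]
    refine ⟨le_rfl, fun α _ => ?_⟩
    rw [Subgroup.subgroupOf_self]
    exact Subgroup.map_top_of_surjective _ α.surjective
  · exact (r2_no_essential p hS F hF hp hrank3 hnotE P hess).elim

end Cfsg.Agent.Helper87
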