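/-
Sub-CALL S74T2 (helper65), piece ARITH (double): choice of blocks, pure arithmetic.
-/
import Mathlib

set_option autoImplicit false

namespace Cfsg.Agent.Helper87.S74T2

/-- ARITH [S]: choice of blocks (`m = 2 μ`; `μ` even: `e' = min e μ`, then four-blocks, then
hyperbolic planes; `μ` odd: `d` odd, so `h` is odd: one hyperbolic plane first). -/
theorem t2_arith (d m A h e : ℕ) (hsum : 2 * A + h + e = d) (he : Even e) (hme : Even m)
    (hmd : m < d) (hcond : (2 * d) % 4 = 2 ∨ m % 4 = 0) :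
    ∃ a' h' e' : ℕ, a' ≤ A ∧ h' ≤ h ∧ e' ≤ e ∧ Even e' ∧ 4 * a' + 2 * h' + 2 * e' = m := by
  obtain ⟨μ, hμ⟩ := hme
  obtain ⟨ε, hε⟩ := he
  rcases Nat.even_or_odd μ with ⟨ν, hν⟩ | ⟨ν, hν⟩
  · by_cases h1 : μ ≤ e
    · exact ⟨0, 0, μ, by omega, by omega, by omega, ⟨ν, hν⟩, by omega⟩
    · by_cases h2 : ν - ε ≤ A
      · exact ⟨ν - ε, 0, e, h2, by omega, le_refl _, ⟨ε, hε⟩, by omega⟩
      · exact ⟨A, μ - e - 2 * A, e, le_refl _, by omega, le_refl _, ⟨ε, hε⟩, by omega⟩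
  · have hd : (2 * d) % 4 = 2 := by
      rcases hcond with h | h
      · exact h
      · omega
    by_cases h1 : 2 * ν ≤ e
    · exact ⟨0, 1, 2 * ν, by omega, by omega, by omega, ⟨ν, by omega⟩, by omega⟩
    · by_cases h2 : ν - ε ≤ A
      · exact ⟨ν - ε, 1, e, h2, by omega, le_refl _, ⟨ε, hε⟩, by omega⟩
      · exact ⟨A, μ - e - 2 * A, e, le_refl _, by omega, le_refl _, ⟨ε, hε⟩, by omega⟩

end Cfsg.Agent.Helper87.S74T2
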