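import Mathlib
import Cfsg.Prelude.Def_FusionSystem
import Cfsg.Prelude.Def_FusionComponents
import Cfsg.Prelude.Def_FusionReduction
import Cfsg.Prelude.Def_PLocal
import Cfsg.Agent.Helper84.ThompsonFusion
import Cfsg.Agent.Helper86.NormInd

set_option autoImplicit false

/-!
# Sparse fusion systems are constrained (`p` odd or `S₄`-free)

A sparse saturated fusion system `F` over `S` (not inner; its only saturated subsystems over `S` are `F` and
the inner system) in which Thompson's normal `p`-complement theorem for fusion systems applies is constrained.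

Proof: let `Q` be a subgroup normal in `F` of largest order.  For a subgroup `J` normal in `S`, the normalizer
system `N_F(J)` is a saturated subsystem over `S`; by sparseness it is `F` (so `J` is normal in `F`) or inner.
Hence for `|J| > |Q|` the system `N_F(J)` is inner.  If `C_S(Q) ≰ Q` then the factor system `F/Q` satisfies the
hypotheses of Thompson's theorem, so it is inner, and `Aut_F(Q)` is a `p`-group as `N_F(Q C_S(Q))` is inner;
this forces `F` to be inner, a contradiction.
-/

namespace Cfsg.Agent.Helper87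

open Cfsg Cfsg.FusionSystem Cfsg.Agent.Helper84

section SparseA

universe u

variable {Ω : Type u} [Group Ω] {S : Subgroup Ω}

theorem sparse_transport_system {T : Subgroup Ω} (h : T = S) (p : ℕ) (N : FusionSystem T) :
    ∃ E : FusionSystem S, (∀ P, E.Hom P = N.Hom P) ∧ (N.IsSaturated p → E.IsSaturated p) ∧
      (AllP p E → AllP p N) := by
  subst h
  exact ⟨N, fun _ => rfl, id, id⟩

/-- Thompson's theorem for fusion systems in the automorphism form. -/
theorem sparse_thompson_allP [Finite S] (p : ℕ) [Fact p.Prime] (hS : IsPGroup p S)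
    (F : FusionSystem S) (hF : F.IsSaturated p) (hH : HThompson p Ω S F) : AllP p F :=
  inner_induction p (HThompson p)
    (fun Ω _ S _ hS F hF hH U hUS hT N hN => hThompson_norm hS F hF hH U hUS hT N hN)
    (fun Ω _ S _ hS F hF hH U hU1 hUfn hT N hN hNH =>
      hThompson_chain hS F hF hH U hU1 hUfn hT N hN hNH)
    (fun Ω _ S _ _ F _ hH hSn => hThompson_top F hH hSn)
    (fun Ω _ S _ hS F hF hH Q hQ _ hQtop _ E hE key =>
      Or.inl (hThompson_quot hS F hF hH Q hQ hQtop E hE key))
    (fun Ω _ S _ hS F hF hH Q hQ hc => hThompson_cons hS F hF hH Q hQ hc)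
    (Nat.card S) (Nat.card S) Ω S hS F hF le_rfl
    ⟨⊥, Helper88.isNormal_bot F, Nat.le_add_left _ _⟩ hH

/-- In a sparse system, a subgroup normal in `S` whose normalizer system is not inner is normal in the system. -/
theorem sparse_isNormal_of_not_np [Finite S] (p : ℕ) [Fact p.Prime] (hS : IsPGroup p S)
    (F : FusionSystem S) (hF : F.IsSaturated p)
    (hsp : ∀ E : FusionSystem S, E.IsSaturated p → E.IsSubsystemOf F →
      (∀ P : Subgroup Ω, E.Hom P = F.Hom P) ∨
        (∀ P : Subgroup Ω, E.Hom P = (innerFusionSystem S).Hom P))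
    {V : Subgroup Ω} (hVS : V ≤ S) (hT : normalizerIn S V = S) (hnp : ¬ NP p F V) :
    F.IsNormal V := by
  obtain ⟨N, hN⟩ := exists_normalizerSystem F V hVS
  have hfn : F.IsFullyNormalized V := by
    refine ⟨hVS, fun J' _ => ?_⟩
    rw [hT]
    exact Subgroup.card_le_of_le (normalizerIn_le_S S J')
  have hNsat := normalizerSystem_saturated p hS F hF V hfn N hN
  obtain ⟨E, hEN, hEsat, hEall⟩ := sparse_transport_system hT p N
  have hsub : E.IsSubsystemOf F := by
    intro P φ hφ
    rw [hEN P] at hφ
    exact nsys_hom_le F N hN hφ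
  rcases hsp E (hEsat hNsat) hsub with h | h
  · refine ⟨hVS, fun P φ hφ => ?_⟩
    rw [← h P, hEN P, hN P] at hφ
    obtain ⟨-, -, -, ψ, hψ, hψ1, hψ2⟩ := hφ
    exact ⟨ψ, hψ, hψ1, hψ2⟩
  · exfalso
    apply hnp
    exact np_of_nsys_allP F hVS N hN (hEall (allP_of_le_inner hS E (fun P => (h P).subset)))

/-- **Sparse fusion systems are constrained** when `p` is odd or the system is `S₄`-free. -/
theorem sparse_isConstrained [Finite S] (p : ℕ) [Fact p.Prime] (hS : IsPGroup p S)
    (F : FusionSystem S) (hF : F.IsSaturated p)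
    (hni : ¬ ∀ P : Subgroup Ω, F.Hom P = (innerFusionSystem S).Hom P)
    (hsp : ∀ E : FusionSystem S, E.IsSaturated p → E.IsSubsystemOf F →
      (∀ P : Subgroup Ω, E.Hom P = F.Hom P) ∨
        (∀ P : Subgroup Ω, E.Hom P = (innerFusionSystem S).Hom P))
    (hp : p ≠ 2 ∨ F.IsSectionFree p (Equiv.Perm (Fin 4))) : F.IsConstrained p := by
  have hnall : ¬ AllP p F := by
    intro h
    apply hni
    intro P
    rw [eq_inner_of_allP p hS F hF h]
  have hfin : {Q : Subgroup Ω | F.IsNormal Q}.Finite :=
    (Helper86.finite_setOf_le S).subset (fun Q hQ => hQ.1)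
  obtain ⟨Q, hQ', hmax⟩ := Set.exists_max_image _ (fun Q : Subgroup Ω => Nat.card Q) hfin
    ⟨⊥, Helper88.isNormal_bot F⟩
  have hQ : F.IsNormal Q := hQ'
  have hQS := hQ.1
  have hfQ : Finite Q := finite_of_le hQS
  have key : ∀ J : Subgroup Ω, J ≤ S → normalizerIn S J = S → Nat.card Q < Nat.card J →
      NP p F J := by
    intro J hJS hT hlt
    by_contra hnp
    have hJn := sparse_isNormal_of_not_np p hS F hF hsp hJS hT hnp
    have h1 := hmax J hJn
    have h2 : Nat.card J ≤ Nat.card Q := h1
    omega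
  by_cases hc : centralizerIn S Q ≤ Q
  · exact ⟨hF, Q, hQ, centric_of_normal_of_cent F hQ hc⟩
  · exfalso
    apply hnall
    have hQtop : Q ≠ S := fun h => hc ((centralizerIn_le_S S Q).trans h.ge)
    have hsc := normal_stronglyClosed F hQ
    have hQn : (Q.subgroupOf S).Normal := by
      refine ⟨fun q hq s => ?_⟩
      exact Subgroup.mem_subgroupOf.mpr
        (stronglyClosed_conj_mem F hsc s.2 (Subgroup.mem_subgroupOf.mp hq))
    obtain ⟨E, hE⟩ := Cfsg.Agent.S5132.result p hS F Q hsc
    have hEsat : E.IsSaturated p := Cfsg.Agent.S5133.result p hS F hF E _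
      (Cfsg.Agent.S5134.result p hS F hF Q hsc _ E hE)
    have hS'p : IsPGroup p ↥(⊤ : Subgroup (S ⧸ Q.subgroupOf S)) :=
      (hS.to_quotient _).to_subgroup ⊤
    have hS'1 := quot_top_ne_bot hQS hQtop
    have hn : ∀ x : S ⧸ Q.subgroupOf S, x ∈ Subgroup.normalizer
        (((⊤ : Subgroup (S ⧸ Q.subgroupOf S)) : Set (S ⧸ Q.subgroupOf S))) :=
      fun x => Subgroup.le_normalizer (Subgroup.mem_top x)
    have hHE : HThompson p (S ⧸ Q.subgroupOf S) ⊤ E := by
      refine ⟨hp.imp id (fun hfree => quotient_sectionFree p hS F hF Q hQ _ hfree _ E hE), ?_, ?_⟩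
      · exact np_quot_of_key F hQS E hE key _ (thompsonSubgroupAOf_ne_bot ⊤ hS'p hS'1)
          (fun x => normalizer_le_normalizer_j ⊤ (hn x))
      · apply cpz_of_np
        exact np_quot_of_key F hQS E hE key _ (center_ne_bot ⊤ hS'p hS'1)
          (fun x => normalizer_le_normalizer_center ⊤ (hn x))
    have hEall : AllP p E := sparse_thompson_allP p hS'p E hEsat hHE
    have hRS : Q ⊔ centralizerIn S Q ≤ S := sup_le hQS (centralizerIn_le_S S Q)
    have hfR : Finite ↥(Q ⊔ centralizerIn S Q) := finite_of_le hRS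
    have hfC : Finite ↥(centralizerIn S Q) := finite_of_le (centralizerIn_le_S S Q)
    have hRT : normalizerIn S (Q ⊔ centralizerIn S Q) = S := by
      apply inf_eq_left.mpr
      intro s hs
      have hsN := normal_le_normalizer F hQ hs
      apply mem_normalizer_sup hsN
      apply mem_normalizer_of_forall_conj_mem
      intro c hc'
      refine ⟨S.mul_mem (S.mul_mem hs hc'.1) (S.inv_mem hs), ?_⟩
      refine Subgroup.mem_centralizer_iff.mpr ?_
      intro q hq
      have hq' : s⁻¹ * q * s ∈ Q := by
        have h1 := (Subgroup.mem_normalizer_iff.mp (Subgroup.inv_mem _ hsN) q).mp hq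
        rwa [inv_inv] at h1
      have h2 : s⁻¹ * q * s * c = c * (s⁻¹ * q * s) :=
        Subgroup.mem_centralizer_iff.mp hc'.2 _ hq'
      have h3 : q * (s * c * s⁻¹) = s * (s⁻¹ * q * s * c) * s⁻¹ := by group
      rw [h3, h2]
      group
    have hRlt : Nat.card Q < Nat.card ↥(Q ⊔ centralizerIn S Q) :=
      card_lt_of_lt (lt_of_le_of_ne le_sup_left (fun h => hc (le_sup_right.trans h.ge)))
    have hNPR := key _ hRS hRT hRlt
    have hQall := autQ_pow_of_np hS F hF hQ hNPR
    exact allP_of_factor hS F hF hQ _ E hE hEall hQall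

end SparseA

end Cfsg.Agent.Helper87
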