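import Mathlib
import Cfsg.Prelude.Def_FusionSystem
import Cfsg.Prelude.Def_FusionComponents
import Cfsg.Agent.Helper84.ModelSub
import Cfsg.Agent.Helper84.ZJFusionB

set_option autoImplicit false

/-!
# Subnormal subsystems of constrained fusion systems are constrained

Let `F` be constrained with model `G`, `O` the preimage of `O_p(G)` and `E` a normal subsystem over `T`.
Then `R = O ∩ T` is normal in `F`, hence contained in every `E`-centric `E`-radical subgroup and strongly closed in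
`E`, so normal in `E`; and `C_T(R) ≤ R` because the elements of `G` acting trivially on `O_p(G)/R` and on `R`
form a normal `p`-subgroup of `G`.
-/

namespace Cfsg.Agent.Helper87

open Cfsg Cfsg.FusionSystem Cfsg.Agent.Helper84

section SubCons

universe u

variable {Ω : Type u} [Group Ω] {S : Subgroup Ω}

/-- The intersection of a normal subgroup of the system with a strongly closed subgroup is normal. -/
theorem isNormal_inf_stronglyClosed [Finite S] (F : FusionSystem S) {O T : Subgroup Ω}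
    (hO : F.IsNormal O) (hT : F.StronglyClosed T) : F.IsNormal (O ⊓ T) := by
  refine ⟨inf_le_left.trans hO.1, fun P φ hφ => ?_⟩
  obtain ⟨ψ, hψ, hψφ, hψO⟩ := hO.2 P φ hφ
  have hle : P ⊔ (O ⊓ T) ≤ P ⊔ O := sup_le_sup_left inf_le_left P
  have hfin : Finite ↥(O ⊓ T) := finite_of_le (inf_le_left.trans hO.1)
  have hres := hom_restrict F hψ hle
  refine ⟨ψ.comp (Subgroup.inclusion hle), hres, fun x => hψφ x, ?_⟩
  refine map_subgroupOf_eq_of_forall_mem le_sup_right (F.injective_of_mem hres) (fun y hy => ?_)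
  refine ⟨?_, ?_⟩
  · have h1 : ψ (Subgroup.inclusion hle y) ∈ (O.subgroupOf (P ⊔ O)).map ψ :=
      ⟨_, hy.1, rfl⟩
    rw [hψO] at h1
    exact h1
  · have hWle : O ⊓ T ≤ P ⊔ O := inf_le_left.trans le_sup_right
    have h2 := hT.2 (O ⊓ T) inf_le_right _ (hom_restrict F hψ hWle) ⟨y, hy⟩
    exact h2

/-- A subgroup normal in `F` and contained in `T` lies in every centric radical subgroup of a subsystem over `T`. -/
theorem normal_le_of_sub_centric_radical [Finite S] {p : ℕ} [Fact p.Prime] (hS : IsPGroup p S)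
    (F : FusionSystem S) {T : Subgroup Ω} (E : FusionSystem T) (hEF : E.IsSubsystemOf F)
    (hTS : T ≤ S) {Q P : Subgroup Ω} (hQ : F.IsNormal Q) (hQT : Q ≤ T) (hc : E.IsCentric P)
    (hr : E.IsRadical p P) : Q ≤ P := by
  have hPT : P ≤ T := hc.1
  have hPS : P ≤ S := hPT.trans hTS
  have hQS : Q ≤ S := hQ.1
  have hPQS : P ⊔ Q ≤ S := sup_le hPS hQS
  have hPQT : P ⊔ Q ≤ T := sup_le hPT hQT
  have hfP : Finite P := finite_of_le hPS
  have hfPQ : Finite ↥(P ⊔ Q) := finite_of_le hPQS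
  have hPN : P ≤ (P ⊔ Q) ⊓ Subgroup.normalizer (P : Set Ω) := le_inf le_sup_left Subgroup.le_normalizer
  have hBA : autInducedBy (P ⊔ Q) P ≤ E.autGroup P :=
    (autInducedBy_mono hPQT P).trans (autInducedBy_le_autGroup E hPT)
  have hnorm : ∀ α ∈ E.autGroup P, ∀ b ∈ autInducedBy (P ⊔ Q) P,
      α * b * α⁻¹ ∈ autInducedBy (P ⊔ Q) P := by
    intro α hα b hb
    obtain ⟨g, hgPQ, hg, rfl⟩ := (mem_autInducedBy_iff_conjAut _ _ _).mp hb
    have hα' := hEF P (autGroup_hom E hPT hα)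
    obtain ⟨ψ, hψ, hψφ, hψQ⟩ := hQ.2 P _ hα'
    have hψ' := hom_restrict F hψ (inf_le_left : (P ⊔ Q) ⊓ Subgroup.normalizer (P : Set Ω) ≤ P ⊔ Q)
    have hval : ∀ x : P, ψ ⟨x, (le_sup_left : P ≤ P ⊔ Q) x.2⟩ = ((α x : P) : Ω) := fun x => hψφ x
    have hmap : (P.subgroupOf ((P ⊔ Q) ⊓ Subgroup.normalizer (P : Set Ω))).map
        (ψ.comp (Subgroup.inclusion (inf_le_left : (P ⊔ Q) ⊓ Subgroup.normalizer (P : Set Ω) ≤ P ⊔ Q))) = P := by
      ext y
      constructor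
      · rintro ⟨x, hx, rfl⟩
        have := hval ⟨x, hx⟩
        show ψ ⟨(x : Ω), _⟩ ∈ P
        rw [this]; exact (α _).2
      · intro hy
        refine ⟨⟨(α⁻¹ ⟨y, hy⟩ : P), hPN (α⁻¹ ⟨y, hy⟩).2⟩, (α⁻¹ ⟨y, hy⟩).2, ?_⟩
        show ψ ⟨((α⁻¹ ⟨y, hy⟩ : P) : Ω), _⟩ = y
        rw [hval]; simp
    have hN := hom_normalizer_mem F hPN inf_le_right hψ' hmap ⟨g, ⟨hgPQ, hg⟩⟩
    have hrange : ψ.range = P ⊔ Q := by
      rw [range_ext_eq _ ψ hψφ, hψQ, range_subtype_comp_aut]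
    have hPQ' : ψ ⟨g, hgPQ⟩ ∈ P ⊔ Q := by
      have h0 : ψ ⟨g, hgPQ⟩ ∈ ψ.range := ⟨_, rfl⟩
      rwa [hrange] at h0
    have hcc := congr_conjAut hPN
      (ψ.comp (Subgroup.inclusion (inf_le_left : (P ⊔ Q) ⊓ Subgroup.normalizer (P : Set Ω) ≤ P ⊔ Q))) α
      (fun x => (hval x).symm) ⟨g, ⟨hgPQ, hg⟩⟩ hg hN.2
    rw [congr_aut_eq] at hcc
    rw [hcc]
    exact conjAut_mem_autInducedBy hPQ' hN.2
  have hBp : IsPGroup p (autInducedBy (P ⊔ Q) P) := isPGroup_autInducedBy (hS.to_le hPQS) P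
  have hB'n : ((autInducedBy (P ⊔ Q) P).subgroupOf (E.autGroup P)).Normal :=
    ⟨fun b hb a => hnorm a a.2 b hb⟩
  have hB'le : (autInducedBy (P ⊔ Q) P).subgroupOf (E.autGroup P) ≤ pCore p (E.autGroup P) := by
    unfold pCore
    exact le_sSup ⟨hB'n, hBp.comap_subtype⟩
  have hBInn : autInducedBy (P ⊔ Q) P ≤ Inn P := by
    intro b hb
    rw [← hr.2]
    exact ⟨⟨b, hBA hb⟩, hB'le hb, rfl⟩
  by_contra hQP
  have hlt : P < P ⊔ Q := lt_of_le_of_ne le_sup_left (fun h => hQP (h ▸ le_sup_right))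
  obtain ⟨t, htPQ, htN, htP⟩ := exists_mem_normalizer_not_mem (hS.to_le hPQS) hlt
  exact not_mem_inn_of_centric E hc htN (hPQT htPQ) htP (hBInn (conjAut_mem_autInducedBy htPQ htN))

end SubCons

end Cfsg.Agent.Helper87
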