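import Cfsg.Agent.Helper87.SubConsB

set_option autoImplicit false

/-!
# Subnormal subsystems of constrained fusion systems are constrained (part C)
-/

namespace Cfsg.Agent.Helper87

open Cfsg Cfsg.FusionSystem Cfsg.Agent.Helper84

section SubConsC

universe u

variable {Ω : Type u} [Group Ω] {S : Subgroup Ω}

/-- For a strongly closed subgroup `T` of a system with a model, `C_T(O ∩ T) ≤ O ∩ T` where `O` is the preimage of
the `p`-core of the model. -/
theorem cent_inf_corePre_le [Finite S] {p : ℕ} [Fact p.Prime] (F : FusionSystem S)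
    {G : Type*} [Group G] {ι : S →* G} (hM : F.IsModel p G ι) {T : Subgroup Ω}
    (hT : F.StronglyClosed T) :
    centralizerIn T (corePre p ι ⊓ T) ≤ corePre p ι ⊓ T := by
  have hO := corePre_isNormal F hM
  have hrange := model_pCore_le_range F hM
  obtain ⟨hfin, hreal, ⟨Sy, hSy⟩, hcR⟩ := hM
  have hinj := hreal.1
  have hTS : T ≤ S := hT.1
  have hOS : corePre p ι ≤ S := corePre_le p ι
  have hWS : corePre p ι ⊓ T ≤ S := inf_le_left.trans hOS
  have hcn : (pCore p G).Normal := Cfsg.pCore_normal p G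
  have hcorep : IsPGroup p (pCore p G) := by
    apply Sy.2.to_le
    rw [hSy]
    exact hrange
  have hSN := normal_le_normalizer F hO
  -- the image of `W = O ∩ T`
  have hR'mem : ∀ y : G, y ∈ ((corePre p ι ⊓ T).subgroupOf S).map ι ↔
      ∃ s : S, (s : Ω) ∈ corePre p ι ⊓ T ∧ ι s = y := by
    intro y
    constructor
    · rintro ⟨s, hs, rfl⟩
      exact ⟨s, Subgroup.mem_subgroupOf.mp hs, rfl⟩
    · rintro ⟨s, hs, rfl⟩
      exact ⟨s, Subgroup.mem_subgroupOf.mpr hs, rfl⟩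
  have hR'c : ((corePre p ι ⊓ T).subgroupOf S).map ι ≤ pCore p G := by
    intro y hy
    obtain ⟨s, hs, rfl⟩ := (hR'mem y).mp hy
    exact (mem_corePre_iff p ι s).mp hs.1
  have hR'n : ∀ x : G, ∀ r ∈ ((corePre p ι ⊓ T).subgroupOf S).map ι,
      x * r * x⁻¹ ∈ ((corePre p ι ⊓ T).subgroupOf S).map ι := by
    intro x r hr
    obtain ⟨s, hs, rfl⟩ := (hR'mem r).mp hr
    have h1 : ∀ w : ↥(corePre p ι ⊓ T), x * ι ⟨w, hWS w.2⟩ * x⁻¹ ∈ ι.range := by
      intro w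
      apply hrange
      exact hcn.conj_mem _ ((mem_corePre_iff p ι ⟨w, hWS w.2⟩).mp w.2.1) x
    obtain ⟨φ, hφ, hφι⟩ := exists_conj_hom F hreal hWS x h1
    obtain ⟨hx, hx'⟩ := hφι ⟨s, hs⟩
    refine (hR'mem _).mpr ⟨⟨φ ⟨s, hs⟩, hx⟩, ⟨?_, ?_⟩, hx'⟩
    · refine (mem_corePre_iff p ι ⟨φ ⟨s, hs⟩, hx⟩).mpr ?_
      rw [hx']
      exact hcn.conj_mem _ ((mem_corePre_iff p ι s).mp hs.1) x
    · exact hT.2 _ inf_le_right φ hφ ⟨s, hs⟩
  intro c hc
  have hcT : c ∈ T := hc.1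
  have hcS : c ∈ S := hTS hcT
  have hcen : ∀ w ∈ corePre p ι ⊓ T, w * c = c * w :=
    fun w hw => Subgroup.mem_centralizer_iff.mp hc.2 w hw
  have hg1 : ∀ o ∈ pCore p G, ι ⟨c, hcS⟩ * o * (ι ⟨c, hcS⟩)⁻¹ * o⁻¹ ∈
      ((corePre p ι ⊓ T).subgroupOf S).map ι := by
    intro o ho
    obtain ⟨s₀, rfl⟩ := hrange ho
    have hs₀ : (s₀ : Ω) ∈ corePre p ι := (mem_corePre_iff p ι s₀).mpr ho
    have hw1 : c * (s₀ : Ω) * c⁻¹ ∈ corePre p ι :=
      (Subgroup.mem_normalizer_iff.mp (hSN hcS) _).mp hs₀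
    have hw2 : (s₀ : Ω) * c⁻¹ * (s₀ : Ω)⁻¹ ∈ T :=
      stronglyClosed_conj_mem F hT s₀.2 (T.inv_mem hcT)
    refine (hR'mem _).mpr ⟨⟨c, hcS⟩ * s₀ * ⟨c, hcS⟩⁻¹ * s₀⁻¹, ⟨?_, ?_⟩, ?_⟩
    · show c * (s₀ : Ω) * c⁻¹ * (s₀ : Ω)⁻¹ ∈ corePre p ι
      exact Subgroup.mul_mem _ hw1 (Subgroup.inv_mem _ hs₀)
    · show c * (s₀ : Ω) * c⁻¹ * (s₀ : Ω)⁻¹ ∈ T
      have e : c * (s₀ : Ω) * c⁻¹ * (s₀ : Ω)⁻¹ = c * ((s₀ : Ω) * c⁻¹ * (s₀ : Ω)⁻¹) := by group
      rw [e]
      exact T.mul_mem hcT hw2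
    · rw [map_mul, map_mul, map_mul, map_inv, map_inv]
  have hg2 : ∀ r ∈ ((corePre p ι ⊓ T).subgroupOf S).map ι,
      ι ⟨c, hcS⟩ * r * (ι ⟨c, hcS⟩)⁻¹ = r := by
    intro r hr
    obtain ⟨s, hs, rfl⟩ := (hR'mem r).mp hr
    rw [← map_inv, ← map_mul, ← map_mul]
    congr 1
    apply Subtype.ext
    show c * (s : Ω) * c⁻¹ = s
    have h1 := hcen s hs
    calc c * (s : Ω) * c⁻¹ = (s : Ω) * c * c⁻¹ := by rw [h1]
      _ = s := by group
  have hmem := mem_pCore_of_stabilizes hcR hcorep _ hR'c hR'n (ι ⟨c, hcS⟩) hg1 hg2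
  exact ⟨(mem_corePre_iff p ι ⟨c, hcS⟩).mpr hmem, hcT⟩

/-- A normal subsystem of a constrained fusion system is constrained. -/
theorem constrained_of_isNormalIn [Finite S] (p : ℕ) [Fact p.Prime] (hS : IsPGroup p S)
    (F : FusionSystem S) (hF : F.IsConstrained p) {T : Subgroup Ω} (E : FusionSystem T)
    (hE : E.IsNormalIn F p) : E.IsConstrained p := by
  obtain ⟨⟨hEsat, hFsat, hEF, hTsc, -, -⟩, -⟩ := hE
  obtain ⟨G, instG, ι, hM⟩ := constrained_exists_model p hS F hF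
  have hTS : T ≤ S := hTsc.1
  have hfT : Finite T := finite_of_le hTS
  have hTp : IsPGroup p T := hS.to_le hTS
  have hO := corePre_isNormal F hM
  have hR : F.IsNormal (corePre p ι ⊓ T) := isNormal_inf_stronglyClosed F hO hTsc
  have hRE : E.IsNormal (corePre p ι ⊓ T) := by
    rw [normal_iff_stronglyClosed p hTp E hEsat]
    refine ⟨⟨inf_le_right, fun P hP φ hφ x => ?_⟩, fun P hc hr =>
      normal_le_of_sub_centric_radical hS F E hEF hTS hR inf_le_right hc hr⟩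
    exact (normal_stronglyClosed F hR).2 P hP φ (hEF P hφ) x
  have hcent := cent_inf_corePre_le F hM hTsc
  exact ⟨hEsat, _, hRE, centric_of_normal_of_cent E hRE hcent⟩

end SubConsC

section SubConsD

universe u

variable {Ω : Type u} [Group Ω]

/-- **A subnormal subsystem of a constrained fusion system is constrained.** -/
theorem constrained_of_isSubnormalIn {T₀ : Subgroup Ω} (E : FusionSystem T₀) {S₀ : Subgroup Ω}
    (F : FusionSystem S₀) (p : ℕ) (h : E.IsSubnormalIn F p) :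
    Fact p.Prime → Finite S₀ → IsPGroup p S₀ → F.IsConstrained p → E.IsConstrained p := by
  induction h with
  | refl F p =>
    intro _ _ _ hF
    exact hF
  | @step U S E D F p hED hDF ih =>
    intro hp hfin hS hF
    have hUS : U ≤ S := hDF.1.2.2.2.1.1
    exact ih hp (finite_of_le hUS) (hS.to_le hUS) (constrained_of_isNormalIn p hS F hF D hDF)

end SubConsD

end Cfsg.Agent.Helper87
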